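import Mathlib
import Cfsg.Agent.KFacts.RgdBorelTits
import Cfsg.Agent.KFacts.RgdSyl
import Cfsg.Agent.KFacts.RgdSL
import Cfsg.Agent.KFacts.RgdVJ
import Cfsg.Agent.H533.T5.Defs

/-!
T5, defining characteristic, part 1 (helper798): the panels of the fixed chambers of a `p`-element.

* `NT cs h X c a` : `c` acts non-trivially on the `a`-panel of a fixed chamber;
* `wpair_of_NT` : `NT c a`, `NT d a` ⟹ `WPair p ⊤ c d`;
* `exists_NT` : `c ≠ 1` has some `a` with `NT c a`;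
* `NT.of_three` : `M a b = 3`, `NT c b` ⟹ `NT c a`.
-/

set_option autoImplicit false
set_option linter.unusedSectionVars false

namespace Cfsg.Agent.H798.T5Geo

open CoxeterSystem Cfsg.Agent.ChevalleyStructure.CoxeterGeom Cfsg.Agent.Tits.Roots Cfsg.Agent.Tits.Core
  Cfsg.Agent.Tits.RootComb Cfsg.Agent.Tits.Exchange Cfsg.Agent.Nodes.Reps Cfsg.Agent.Nodes.BNOf
  Cfsg.Agent.Nodes.StabComb Cfsg.Agent.Nodes.Bruhat Cfsg.Agent.Nodes.OppDec Cfsg.Agent.Nodes.LeviDec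
  Cfsg.Agent.H533.T5
open scoped commutatorElement

variable {I W Y : Type*} [Fintype I] [DecidableEq I] [Group W] [Group Y] {M : CoxeterMatrix I}
  {cs : CoxeterSystem M W} {A : I → I → ℤ} {h : IsCartan M A} {p : ℕ} {T : Subgroup Y} {n : I → Y}
  {X : (I → ℤ) → Subgroup Y}

/-- `c` acts non-trivially on the `a`-panel of a fixed chamber. -/
def NT (cs : CoxeterSystem M W) (h : IsCartan M A) (X : (I → ℤ) → Subgroup Y) (c : Y) (a : I) : Prop :=
  ∃ g : Y, g * c * g⁻¹ ∈ RGD.Sup X (RGD.Pos cs h) ∧ g * c * g⁻¹ ∉ VJ cs h X {a}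

theorem NT.of_conj {c : Y} {a : I} (y : Y) (hc : NT cs h X (y * c * y⁻¹) a) : NT cs h X c a := by
  obtain ⟨g, h1, h2⟩ := hc
  have e : g * (y * c * y⁻¹) * g⁻¹ = (g * y) * c * (g * y)⁻¹ := by group
  rw [e] at h1 h2
  exact ⟨g * y, h1, h2⟩

theorem NT.conj {c : Y} {a : I} (y : Y) (hc : NT cs h X c a) : NT cs h X (y * c * y⁻¹) a := by
  apply NT.of_conj y⁻¹
  have e : y⁻¹ * (y * c * y⁻¹) * y⁻¹⁻¹ = c := by group
  rwa [e]

/-- If not `NT d a`, all conjugates of `d` in `U` lie in `V_a`. -/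
theorem mem_V_of_not_NT {d : Y} {a : I} (hd : ¬ NT cs h X d a) (g : Y)
    (hg : g * d * g⁻¹ ∈ RGD.Sup X (RGD.Pos cs h)) : g * d * g⁻¹ ∈ VJ cs h X {a} := by
  by_contra h1
  exact hd ⟨g, hg, h1⟩

/-! ### descents -/

/-- A non-trivial element of `W_J` has a right descent in `J`. -/
theorem exists_desc {J : Set I} {w : W} (hw : w ∈ WJ cs J) (hw1 : w ≠ 1) :
    ∃ i ∈ J, rep cs h w (sr i) ≤ 0 ∧ w * cs.simple i ∈ WJ cs J ∧ 0 ≤ rep cs h (w * cs.simple i) (sr i) := by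
  obtain ⟨i, hi⟩ := cs.exists_rightDescent_of_ne_one hw1
  have hi' : cs.length (w * cs.simple i) < cs.length w := hi
  have hneg : rep cs h w (sr i) ≤ 0 := nonpos_of_lt cs h w i hi'
  have hiJ : i ∈ J := by
    by_contra hiJ
    have h1 := rep_apply_of_mem cs h hw (sr i) hiJ
    rw [sr_self] at h1
    have h2 : rep cs h w (sr i) i ≤ 0 := hneg i
    rw [h1] at h2
    omega
  refine ⟨i, hiJ, hneg, mul_mem hw (simple_mem_WJ cs hiJ), ?_⟩
  rw [rep_mul_apply, rep_simple_sr, map_neg]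
  exact neg_nonneg.2 hneg

theorem WJ_singleton {a : I} {w : W} (hw : w ∈ WJ cs {a}) (h : IsCartan M A) : w = 1 ∨ w = cs.simple a := by
  by_cases hw1 : w = 1
  · exact Or.inl hw1
  right
  obtain ⟨i, hi, h1, h2, h3⟩ := exists_desc (h := h) hw hw1
  have hi' : i = a := hi
  subst hi'
  by_cases h4 : w * cs.simple i = 1
  · rw [← cs.inv_simple i]
    exact eq_inv_of_mul_eq_one_left h4
  · exfalso
    obtain ⟨j, hj, h5, -, -⟩ := exists_desc (h := h) h2 h4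
    have hj' : j = i := hj
    subst hj'
    exact ((isRoot_sr cs h j).act (w * cs.simple j)).not_pos_neg h3 h5

/-- positive roots killed by `w` on `α_a` -/
theorem mem_NotJ_of {w : W} {a : I} (ha : rep cs h w (sr a) ≤ 0) {x : I → ℤ} (hx : IsRoot cs h x) (h0 : 0 ≤ x)
    (h1 : 0 ≤ rep cs h w x) : x ∈ NotJ cs h {a} := by
  rcases mem_PosJ_or_NotJ {a} hx h0 with h2 | h2
  · exfalso
    have h3 : x = sr a := hx.eq_sr h0 a fun k hk => h2.2.2 k hk
    subst h3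
    exact (hx.act w).not_pos_neg h1 ha
  · exact h2

variable (R : RGD cs h p T n X)

include R

/-- `u ∈ U`, `k u k⁻¹ ∈ B`, `k` over `w`, `w α_a < 0` ⟹ `u ∈ V_a`. -/
theorem mem_V_of_conj [Finite W] {w : W} {k u : Y} (hk : Rp cs R.nsys w k) {a : I} (ha : rep cs h w (sr a) ≤ 0)
    (hu : u ∈ RGD.Sup X (RGD.Pos cs h)) (hB : k * u * k⁻¹ ∈ RGD.B cs h T X) : u ∈ VJ cs h X {a} := by
  have h1 := Nodes.Slope.mem_of_conj_mem_B R hk.inv hu (by rwa [inv_inv])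
  refine RGD.Sup_mono (fun x hx => ?_) h1
  obtain ⟨h2, h3, h4⟩ := hx
  rw [inv_inv] at h4
  exact mem_NotJ_of ha h2 h3 h4

theorem B_conj_U {b u : Y} (hb : b ∈ RGD.B cs h T X) (hu : u ∈ RGD.Sup X (RGD.Pos cs h)) :
    b * u * b⁻¹ ∈ RGD.Sup X (RGD.Pos cs h) := (Subgroup.mem_normalizer_iff.1 (R.B_le_normalizer_U hb) u).1 hu

theorem P_conj_V {J : Set I} {g u : Y} (hg : g ∈ PJ cs h T X J) :
    g * u * g⁻¹ ∈ VJ cs h X J ↔ u ∈ VJ cs h X J :=
  ((Subgroup.mem_normalizer_iff.1 (PJ_le_normalizer_VJ R J hg) u)).symm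

/-- The elements of `P_a`. -/
theorem mem_P_cases [Finite W] {a : I} {g : Y} (hg : g ∈ PJ cs h T X {a}) : g ∈ RGD.B cs h T X ∨
    ∃ b ∈ RGD.B cs h T X, ∃ k, Rp cs R.nsys (cs.simple a) k ∧ ∃ b' ∈ RGD.B cs h T X, g = b * k * b' := by
  obtain ⟨w, hw, hc⟩ := (mem_PJ_iff_cell R).1 hg
  rcases WJ_singleton hw h with rfl | rfl
  · exact Or.inl hc.mem_of_one
  · right
    obtain ⟨b, hb, k, hk, b', hb', e⟩ := hc
    exact ⟨b, hb, k, hk, b', hb', e⟩

/-- `c ∈ U \ V_a` fixes only the chamber `B` of its `a`-panel. -/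
theorem mem_B_of_conj [Finite W] {a : I} {c g : Y} (hc : c ∈ RGD.Sup X (RGD.Pos cs h)) (hca : c ∉ VJ cs h X {a})
    (hg : g ∈ PJ cs h T X {a}) (h1 : g * c * g⁻¹ ∈ RGD.B cs h T X) : g ∈ RGD.B cs h T X := by
  rcases mem_P_cases R hg with h2 | ⟨b, hb, k, hk, b', hb', rfl⟩
  · exact h2
  · exfalso
    have h3 : b' * c * b'⁻¹ ∉ VJ cs h X {a} := fun h4 => hca ((P_conj_V R (B_le_PJ hb')).1 h4)
    apply h3
    refine mem_V_of_conj R hk ?_ (B_conj_U R hb' hc) ?_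
    · rw [rep_simple_sr]
      exact neg_nonpos.2 (sr_nonneg a)
    · have e : k * (b' * c * b'⁻¹) * k⁻¹ = b⁻¹ * (b * k * b' * c * (b * k * b')⁻¹) * b := by group
      rw [e]
      exact mul_mem (mul_mem (inv_mem hb) h1) hb

/-- Sylow's theorem in `P_J`. -/
theorem exists_conj_U_P [Finite W] [Finite Y] [Fact p.Prime] {J : Set I} {K : Subgroup Y} (hK : IsPGroup p K)
    (hKP : K ≤ PJ cs h T X J) : ∃ g ∈ PJ cs h T X J, ∀ k ∈ K, g * k * g⁻¹ ∈ RGD.Sup X (RGD.Pos cs h) := by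
  set P := PJ cs h T X J with hP
  set U := RGD.Sup X (RGD.Pos cs h) with hU
  have hUP : U ≤ P := le_trans RGD.U_le_B B_le_PJ
  have h1 : ¬ p ∣ (U.subgroupOf P).index := by
    intro h2
    apply Cfsg.Agent.KFacts.RgdSyl.not_dvd_relIndex R
    have h3 : U.relIndex P ∣ U.relIndex (GG cs h T X) := by
      rw [← Subgroup.relIndex_mul_relIndex U P (GG cs h T X) hUP PJ_le_GG]
      exact dvd_mul_right _ _
    exact dvd_trans h2 h3
  have h2 : IsPGroup p ↥(U.subgroupOf P) :=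
    R.isPGroup_Upos.comap_of_injective P.subtype (Subgroup.subtype_injective _)
  let Q : Sylow p ↥P := h2.toSylow h1
  have h3 : IsPGroup p ↥(K.subgroupOf P) := hK.comap_of_injective P.subtype (Subgroup.subtype_injective _)
  obtain ⟨Q', hQ'⟩ := h3.exists_le_sylow
  obtain ⟨g, hg⟩ := MulAction.exists_smul_eq ↥P Q' Q
  refine ⟨g, g.2, fun k hk => ?_⟩
  have h4 : (⟨k, hKP hk⟩ : ↥P) ∈ Q' := hQ' (by rw [Subgroup.mem_subgroupOf]; exact hk)
  have h5 : MulAut.conj g ⟨k, hKP hk⟩ ∈ (g • Q' : Sylow p ↥P) :=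
    Subgroup.smul_mem_pointwise_smul _ (MulAut.conj g) (Q' : Subgroup ↥P) h4
  rw [hg] at h5
  have h6 : MulAut.conj g (⟨k, hKP hk⟩ : ↥P) ∈ U.subgroupOf P := h5
  rw [Subgroup.mem_subgroupOf] at h6
  exact h6

/-- **The panel argument.** -/
theorem wpair_of_NT [Finite W] [Finite Y] [Fact p.Prime] {c d : Y} {a : I} (hc : NT cs h X c a)
    (hd : NT cs h X d a) : WPair p (⊤ : Subgroup Y) c d := by
  obtain ⟨g, h1, h2⟩ := hc
  obtain ⟨g', h3, h4⟩ := hd
  refine WPair.conj_left (s := g) (Subgroup.mem_top _) (WPair.conj_right (s := g') (Subgroup.mem_top _) ?_)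
  generalize g * c * g⁻¹ = c' at h1 h2
  generalize g' * d * g'⁻¹ = d' at h3 h4
  refine ⟨n a, Subgroup.mem_top _, fun hK => ?_⟩
  have hna : n a ∈ PJ cs h T X {a} := LJ_le_PJ (n_mem_LJ R rfl)
  have hUP : RGD.Sup X (RGD.Pos cs h) ≤ PJ cs h T X {a} := le_trans RGD.U_le_B B_le_PJ
  obtain ⟨r, hr, hrK⟩ := exists_conj_U_P R (J := {a}) hK (by
    rw [Subgroup.closure_le]
    rintro x hx
    rcases hx with rfl | hx
    · exact hUP h1
    · rw [Set.mem_singleton_iff] at hx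
      rw [hx]
      exact mul_mem (mul_mem hna (hUP h3)) (inv_mem hna))
  have h5 := hrK c' (Subgroup.subset_closure (by simp))
  have h6 := hrK (n a * d' * (n a)⁻¹) (Subgroup.subset_closure (by simp))
  have h7 := mem_B_of_conj R h1 h2 hr (RGD.U_le_B h5)
  apply h4
  refine mem_V_of_conj R (rp_simple cs R.nsys a) ?_ h3 ?_
  · rw [rep_simple_sr]
    exact neg_nonpos.2 (sr_nonneg a)
  · have e : n a * d' * (n a)⁻¹ = r⁻¹ * (r * (n a * d' * (n a)⁻¹) * r⁻¹) * r := by group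
    rw [e]
    exact mul_mem (mul_mem (inv_mem h7) (RGD.U_le_B h6)) h7

theorem exists_conj_mem_U [Finite W] [Finite Y] [Fact p.Prime] (hG : GG cs h T X = ⊤) {c : Y}
    (hc : IsPGroup p (Subgroup.zpowers c)) : ∃ g : Y, g * c * g⁻¹ ∈ RGD.Sup X (RGD.Pos cs h) := by
  obtain ⟨g, hg⟩ := Cfsg.Agent.KFacts.RgdBorelTits.exists_conj_U hG hc R
  refine ⟨g⁻¹, ?_⟩
  rw [inv_inv]
  exact mem_cj.1 (hg (Subgroup.mem_zpowers c))

/-- A `p`-element `c ≠ 1` of a simple group acts non-trivially on some panel of a fixed chamber. -/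
theorem exists_NT [Finite W] [Finite Y] [Fact p.Prime] [IsSimpleGroup Y] [Nonempty I] (hG : GG cs h T X = ⊤) {c : Y}
    (hc : IsPGroup p (Subgroup.zpowers c)) (hc1 : c ≠ 1) : ∃ a, NT cs h X c a := by
  by_contra hcon
  push Not at hcon
  set U := RGD.Sup X (RGD.Pos cs h) with hU
  set N : Subgroup Y := Subgroup.closure {x | ∃ g, x = g * c * g⁻¹ ∧ x ∈ U} with hN
  have hNU : N ≤ U := by
    rw [hN, Subgroup.closure_le]
    rintro x ⟨g, rfl, hx⟩
    exact hx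
  have h1 : ∀ a, ∀ r ∈ PJ cs h T X {a}, ∀ x ∈ N, r * x * r⁻¹ ∈ N := by
    intro a r hr x hx
    have h2 : N ≤ N.comap (MulAut.conj r).toMonoidHom := by
      conv_lhs => rw [hN]
      rw [Subgroup.closure_le]
      rintro y ⟨g, rfl, hy⟩
      show r * (g * c * g⁻¹) * r⁻¹ ∈ N
      have h3 := mem_V_of_not_NT (hcon a) g hy
      have h4 : r * (g * c * g⁻¹) * r⁻¹ ∈ VJ cs h X {a} := (P_conj_V R hr).2 h3
      refine Subgroup.subset_closure ⟨r * g, by group, VJ_le_U _ h4⟩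
    exact h2 hx
  have h2 : ∀ a, PJ cs h T X {a} ≤ Subgroup.normalizer (N : Set Y) := by
    intro a r hr
    rw [Subgroup.mem_normalizer_iff]
    intro x
    refine ⟨h1 a r hr x, fun hx => ?_⟩
    have h3 := h1 a r⁻¹ (inv_mem hr) _ hx
    have e : r⁻¹ * (r * x * r⁻¹) * r⁻¹⁻¹ = x := by group
    rwa [e] at h3
  obtain ⟨a0⟩ := (inferInstance : Nonempty I)
  have hB : RGD.B cs h T X ≤ Subgroup.normalizer (N : Set Y) := le_trans B_le_PJ (h2 a0)
  have h3 : Subgroup.normalizer (N : Set Y) = ⊤ := by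
    have h4 := inf_eq_PJ R hB
    have h5 : {i | n i ∈ Subgroup.normalizer (N : Set Y)} = Set.univ := by
      ext i
      simp only [Set.mem_ofPred_eq, Set.mem_univ, iff_true]
      exact h2 i (LJ_le_PJ (n_mem_LJ R rfl))
    rw [h5, hG, inf_top_eq] at h4
    rw [h4]
    rw [eq_top_iff, ← hG, ← LJ_univ]
    exact LJ_le_PJ
  have h4 := Subgroup.normalizer_eq_top_iff.1 h3
  obtain ⟨g, hg⟩ := exists_conj_mem_U R hG hc
  rcases h4.eq_bot_or_eq_top with h5 | h5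
  · apply hc1
    have h6 : g * c * g⁻¹ ∈ N := Subgroup.subset_closure ⟨g, rfl, hg⟩
    rw [h5, Subgroup.mem_bot] at h6
    have : c = g⁻¹ * (g * c * g⁻¹) * g := by group
    rw [this, h6]; group
  · apply R.notp a0
    have h6 : X (sr a0) ⊔ X (-sr a0) ≤ RGD.Sup X (RGD.Pos cs h) := by
      intro x _
      exact hNU (h5 ▸ Subgroup.mem_top x)
    exact R.isPGroup_Upos.to_le h6

end Cfsg.Agent.H798.T5Geo
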