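import Mathlib
import Cfsg.Agent.KFacts.RgdSL
import Cfsg.Agent.KFacts.RgdFilt
import Cfsg.Agent.H798.T5Geo

/-!
T5, defining characteristic, part 2 (helper798): rank two combinatorics, simple bonds.

* `a2_of_three` (after helper227) : `M i j = 3` gives `A2 (sr i) (sr j)`;
* `rt`, `rt_B2`, `rt_G2` : the roots supported on two nodes;
* `NT.of_three` : `M a b = 3`, `NT c b` ⟹ `NT c a`.
-/

set_option autoImplicit false
set_option linter.unusedSectionVars false

namespace Cfsg.Agent.H798.T5Root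

open CoxeterSystem Cfsg.Agent.ChevalleyStructure.CoxeterGeom Cfsg.Agent.Tits.Roots Cfsg.Agent.Tits.Core
  Cfsg.Agent.Tits.RootComb Cfsg.Agent.Tits.Exchange Cfsg.Agent.Nodes.Reps Cfsg.Agent.Nodes.BNOf
  Cfsg.Agent.Nodes.StabComb Cfsg.Agent.Nodes.Bruhat Cfsg.Agent.Nodes.OppDec Cfsg.Agent.Nodes.LeviDec
  Cfsg.Agent.Nodes.Coroot Cfsg.Agent.KFacts.RgdSL Cfsg.Agent.H533.T5 Cfsg.Agent.H798.T5Geo
open scoped commutatorElement

variable {I W Y : Type*} [Fintype I] [DecidableEq I] [Group W] [Group Y] {M : CoxeterMatrix I}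
  {cs : CoxeterSystem M W} {A : I → I → ℤ} {h : IsCartan M A} {p : ℕ} {T : Subgroup Y} {n : I → Y}
  {X : (I → ℤ) → Subgroup Y}

/-! ### roots in the plane of two nodes with label 3 -/

/-- pairings of a vector supported on `{i, j}` -/
theorem pairing_two {i j : I} (hij : i ≠ j) {x : I → ℤ} (hx : ∀ k, k ≠ i → k ≠ j → x k = 0) (k : I) :
    pairing A k x = A k i * x i + A k j * x j := by
  unfold pairing
  rw [← Finset.sum_subset (Finset.subset_univ {i, j}), Finset.sum_pair hij]
  intro l _ hl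
  rw [Finset.mem_insert, Finset.mem_singleton, not_or] at hl
  rw [hx l hl.1 hl.2, mul_zero]

/-- A root with support `{i, j}`, `M i j = 3`, both coefficients positive, is `sr i + sr j`. -/
theorem eq_add_of_supp {i j : I} (hij : i ≠ j) (h1 : A i j = -1) (h2 : A j i = -1) {x : I → ℤ} (hx : IsRoot cs h x)
    (hi : 0 < x i) (hj : 0 < x j) (hk : ∀ k, k ≠ i → k ≠ j → x k = 0) : x = sr i + sr j := by
  have key : ∀ i j : I, i ≠ j → A i j = -1 → A j i = -1 → ∀ x : I → ℤ, IsRoot cs h x → 0 < x i → 0 < x j →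
      (∀ k, k ≠ i → k ≠ j → x k = 0) → x j < 2 * x i → x = sr i + sr j := by
    intro i j hij h1 h2 x hx hi hj hk h3
    -- reflect in `i`
    have hp := pairing_two (A := A) hij hk i
    rw [h.diag, h1] at hp
    have hs := hx.act (cs.simple i)
    have e1 : rep cs h (cs.simple i) x i = x j - x i := by
      rw [rep_simple_apply_self, hp]; ring
    have e2 : rep cs h (cs.simple i) x j = x j := rep_simple_apply cs h i x j hij.symm
    have e3 : ∀ k, k ≠ i → rep cs h (cs.simple i) x k = x k := fun k hk' => rep_simple_apply cs h i x k hk'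
    have hpos : 0 ≤ rep cs h (cs.simple i) x := by
      rcases hs.pos_or_neg with h4 | h4
      · exact h4
      · have := h4 j
        rw [e2] at this
        exact absurd this (not_le.2 hj)
    have h5 := hpos i
    rw [e1] at h5
    change 0 ≤ x j - x i at h5
    -- reflect in `j`
    have hp' := pairing_two (A := A) hij hk j
    rw [h.diag, h2] at hp'
    have hs' := hx.act (cs.simple j)
    have f1 : rep cs h (cs.simple j) x j = x i - x j := by
      rw [rep_simple_apply_self, hp']; ring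
    have f2 : rep cs h (cs.simple j) x i = x i := rep_simple_apply cs h j x i hij
    have hpos' : 0 ≤ rep cs h (cs.simple j) x := by
      rcases hs'.pos_or_neg with h4 | h4
      · exact h4
      · have := h4 i
        rw [f2] at this
        exact absurd this (not_le.2 hi)
    have h6 := hpos' j
    rw [f1] at h6
    change 0 ≤ x i - x j at h6
    have h7 : x i = x j := by omega
    have h8 : rep cs h (cs.simple i) x = sr j := by
      refine hs.eq_sr hpos j fun k hk' => ?_
      by_cases hki : k = i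
      · subst hki
        rw [e1, h7]; ring
      · rw [e3 k hki, hk k hki hk']
    have h9 := congrFun h8 j
    rw [e2, sr_self] at h9
    funext k
    rw [Pi.add_apply]
    by_cases hki : k = i
    · subst hki
      rw [sr_self, sr_ne hij, h7, h9]; rfl
    · by_cases hkj : k = j
      · subst hkj
        rw [sr_self, sr_ne hij.symm, h9]; rfl
      · rw [sr_ne hki, sr_ne hkj, hk k hki hkj]; rfl
  by_cases h3 : x j < 2 * x i
  · exact key i j hij h1 h2 x hx hi hj hk h3
  · rw [add_comm]
    exact key j i hij.symm h2 h1 x hx hj hi (fun k h4 h5 => hk k h5 h4) (by omega)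

/-- `M i j = 3` gives `A2 (sr i) (sr j)`. -/
theorem a2_of_three [Finite W] {i j : I} (h3 : M i j = 3) : A2 cs h (sr i) (sr j) := by
  have hij : i ≠ j := by
    rintro rfl
    rw [M.diagonal] at h3
    omega
  have hA : A i j = -1 ∧ A j i = -1 := by
    rcases h.rel i j hij with h1 | h1 | h1 | h1
    · rw [h3] at h1; omega
    · exact h1.2
    · rw [h3] at h1; omega
    · rw [h3] at h1; omega
  have sup : ∀ {x : I → ℤ}, IsRoot cs h x → 0 < x i → 0 < x j → (∀ k, k ≠ i → k ≠ j → x k = 0) →
      x = sr i + sr j := fun hx h1 h2 h3 => eq_add_of_supp hij hA.1 hA.2 hx h1 h2 h3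
  have hb : ∀ z, Btwn cs h (sr i) (sr j) z → z = sr i + sr j := by
    rintro z ⟨hz, m, a, b, hm, ha, hb, he⟩
    have ei := congrFun he i
    have ej := congrFun he j
    rw [Pi.add_apply, Pi.smul_apply, Pi.smul_apply, Pi.smul_apply, sr_self, sr_ne hij] at ei
    rw [Pi.add_apply, Pi.smul_apply, Pi.smul_apply, Pi.smul_apply, sr_self, sr_ne hij.symm] at ej
    simp only [smul_eq_mul, mul_one, mul_zero, add_zero, zero_add] at ei ej
    refine sup hz ?_ ?_ ?_
    · by_contra hc
      push Not at hc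
      nlinarith
    · by_contra hc
      push Not at hc
      nlinarith
    · intro k hki hkj
      have ek := congrFun he k
      rw [Pi.add_apply, Pi.smul_apply, Pi.smul_apply, Pi.smul_apply, sr_ne hki, sr_ne hkj] at ek
      simp only [smul_eq_mul, mul_zero, add_zero] at ek
      rcases mul_eq_zero.1 ek with h5 | h5
      · omega
      · exact h5
  have psr : ∀ k l : I, pairing A k (sr l) = A k l := by
    intro k l
    rw [sr, pairing_single, mul_one]
  have hb' : ∀ z, Btwn cs h (sr j) (sr i) z → z = sr i + sr j := fun z hz => hb z hz.symm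
  have r1 : rep cs h (cs.simple i) (sr i + sr j) = sr j := by
    rw [rep_simple_eq, pairing_add, psr, psr, h.diag, hA.1]
    module
  have r2 : rep cs h (cs.simple j) (sr i + sr j) = sr i := by
    rw [rep_simple_eq, pairing_add, psr, psr, h.diag, hA.2]
    module
  have act : ∀ (w : W) {x y z : I → ℤ}, Btwn cs h x y z → Btwn cs h (rep cs h w x) (rep cs h w y) (rep cs h w z) := by
    rintro w x y z ⟨hz, m, a, b, hm, ha, hb, he⟩
    refine ⟨hz.act w, m, a, b, hm, ha, hb, ?_⟩
    rw [← map_smul, he, map_add, map_smul, map_smul]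
  refine ⟨isRoot_sr cs h i, isRoot_sr cs h j, by rw [cpr_sr, psr, hA.2], by rw [cpr_sr, psr, hA.1], hb, ?_, ?_, ?_,
    ?_, ?_⟩
  · rintro z ⟨hz, m, a, b, hm, ha, hb, he⟩
    have ei := congrFun he i
    have ej := congrFun he j
    simp only [Pi.add_apply, Pi.smul_apply, Pi.neg_apply, sr_self, sr_ne hij, smul_eq_mul, mul_one, mul_zero,
      add_zero, mul_neg] at ei
    simp only [Pi.add_apply, Pi.smul_apply, Pi.neg_apply, sr_self, sr_ne hij.symm, smul_eq_mul, mul_one, mul_zero,
      neg_zero, zero_add] at ej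
    rcases hz.pos_or_neg with h4 | h4
    · have h5 : 0 ≤ z i := h4 i
      have : 0 ≤ m * z i := mul_nonneg hm.le h5
      omega
    · have h5 : z j ≤ 0 := h4 j
      have : m * z j ≤ 0 := mul_nonpos_of_nonneg_of_nonpos hm.le h5
      omega
  · intro z hz
    have h4 := act (cs.simple i) hz
    rw [map_neg, rep_simple_sr, neg_neg, r1] at h4
    have h5 := hb _ h4
    have h6 := congrArg (rep cs h (cs.simple i)) h5
    rw [r1, ← rep_mul_apply, cs.simple_mul_simple_self, map_one, Module.End.one_apply] at h6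
    exact h6
  · intro z hz
    have h4 := act (cs.simple j) hz
    rw [map_neg, rep_simple_sr, neg_neg, r2] at h4
    have h5 := hb' _ h4
    have h6 := congrArg (rep cs h (cs.simple j)) h5
    rw [r2, ← rep_mul_apply, cs.simple_mul_simple_self, map_one, Module.End.one_apply] at h6
    exact h6
  · rintro z ⟨hz, m, a, b, hm, ha, hb, he⟩
    have ei := congrFun he i
    have ej := congrFun he j
    simp only [Pi.add_apply, Pi.smul_apply, sr_self, sr_ne hij, smul_eq_mul, mul_one, mul_zero, add_zero] at ei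
    simp only [Pi.add_apply, Pi.smul_apply, sr_self, sr_ne hij.symm, smul_eq_mul, mul_one, zero_add] at ej
    have h6 := sup hz (by
      by_contra hc
      push Not at hc
      nlinarith) (by
      by_contra hc
      push Not at hc
      nlinarith) (by
      intro k hki hkj
      have ek := congrFun he k
      simp only [Pi.add_apply, Pi.smul_apply, sr_ne hki, sr_ne hkj, smul_eq_mul, mul_zero, add_zero] at ek
      rcases mul_eq_zero.1 ek with h5 | h5
      · omega
      · exact h5)
    have h7 := congrFun h6 i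
    have h8 := congrFun h6 j
    rw [Pi.add_apply, sr_self, sr_ne hij] at h7
    rw [Pi.add_apply, sr_self, sr_ne hij.symm] at h8
    rw [h7] at ei
    rw [h8] at ej
    omega
  · rintro z ⟨hz, m, a, b, hm, ha, hb, he⟩
    have ei := congrFun he i
    have ej := congrFun he j
    simp only [Pi.add_apply, Pi.smul_apply, sr_self, sr_ne hij, smul_eq_mul, mul_one, add_zero] at ei
    simp only [Pi.add_apply, Pi.smul_apply, sr_self, sr_ne hij.symm, smul_eq_mul, mul_one, mul_zero, add_zero,
      zero_add] at ej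
    have h6 := sup hz (by
      by_contra hc
      push Not at hc
      nlinarith) (by
      by_contra hc
      push Not at hc
      nlinarith) (by
      intro k hki hkj
      have ek := congrFun he k
      simp only [Pi.add_apply, Pi.smul_apply, sr_ne hki, sr_ne hkj, smul_eq_mul, mul_zero, add_zero] at ek
      rcases mul_eq_zero.1 ek with h5 | h5
      · omega
      · exact h5)
    have h7 := congrFun h6 i
    have h8 := congrFun h6 j
    rw [Pi.add_apply, sr_self, sr_ne hij] at h7
    rw [Pi.add_apply, sr_self, sr_ne hij.symm] at h8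
    rw [h7] at ei
    rw [h8] at ej
    omega

theorem psr (i j : I) : pairing A i (sr j) = A i j := by
  rw [sr, pairing_single, mul_one]

/-! ### the vectors supported on two nodes -/

/-- `a α_i + g α_j` -/
def rt (i j : I) (a g : ℤ) : I → ℤ := a • sr i + g • sr j

theorem rt_left {i j : I} (hij : i ≠ j) (a g : ℤ) : rt i j a g i = a := by
  unfold rt
  rw [Pi.add_apply, Pi.smul_apply, Pi.smul_apply, sr_self, sr_ne hij]; simp

theorem rt_right {i j : I} (hij : i ≠ j) (a g : ℤ) : rt i j a g j = g := by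
  unfold rt
  rw [Pi.add_apply, Pi.smul_apply, Pi.smul_apply, sr_self, sr_ne hij.symm]; simp

theorem rt_other {i j k : I} (hi : k ≠ i) (hj : k ≠ j) (a g : ℤ) : rt i j a g k = 0 := by
  unfold rt
  rw [Pi.add_apply, Pi.smul_apply, Pi.smul_apply, sr_ne hi, sr_ne hj]; simp

theorem eq_rt {i j : I} (hij : i ≠ j) {x : I → ℤ} (hx : ∀ k, k ≠ i → k ≠ j → x k = 0) :
    x = rt i j (x i) (x j) := by
  funext k
  by_cases hi : k = i
  · subst hi; rw [rt_left hij]
  by_cases hj : k = j
  · subst hj; rw [rt_right hij]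
  rw [rt_other hi hj, hx k hi hj]

theorem rt_inj {i j : I} (hij : i ≠ j) {a g a' g' : ℤ} : rt i j a g = rt i j a' g' ↔ a = a' ∧ g = g' := by
  constructor
  · intro h1
    have h2 := congrFun h1 i
    have h3 := congrFun h1 j
    rw [rt_left hij, rt_left hij] at h2
    rw [rt_right hij, rt_right hij] at h3
    exact ⟨h2, h3⟩
  · rintro ⟨rfl, rfl⟩; rfl

theorem rt_comb (i j : I) (m k a g a' g' : ℤ) :
    m • rt i j a g + k • rt i j a' g' = rt i j (m * a + k * a') (m * g + k * g') := by
  unfold rt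
  module

theorem rt_neg (i j : I) (a g : ℤ) : -rt i j a g = rt i j (-a) (-g) := by
  unfold rt
  module

theorem rt_one_zero (i j : I) : rt i j 1 0 = sr i := by unfold rt; module
theorem rt_zero_one (i j : I) : rt i j 0 1 = sr j := by unfold rt; module
theorem rt_zero (i j : I) : rt i j 0 0 = 0 := by unfold rt; module

theorem rep_left (cs : CoxeterSystem M W) (h : IsCartan M A) (i j : I) (a g : ℤ) :
    rep cs h (cs.simple i) (rt i j a g) = rt i j (-a - A i j * g) g := by
  rw [rep_simple_eq]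
  unfold rt
  rw [pairing_add, pairing_smul, pairing_smul, psr, psr, h.diag]
  module

theorem rep_right (cs : CoxeterSystem M W) (h : IsCartan M A) (i j : I) (a g : ℤ) :
    rep cs h (cs.simple j) (rt i j a g) = rt i j a (-g - A j i * a) := by
  rw [rep_simple_eq]
  unfold rt
  rw [pairing_add, pairing_smul, pairing_smul, psr, psr, h.diag]
  module

theorem rt_nonneg {i j : I} (hij : i ≠ j) {a g : ℤ} : 0 ≤ rt i j a g ↔ 0 ≤ a ∧ 0 ≤ g := by
  constructor
  · intro h1
    have h2 := h1 i
    have h3 := h1 j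
    rw [rt_left hij] at h2
    rw [rt_right hij] at h3
    exact ⟨h2, h3⟩
  · rintro ⟨h1, h2⟩ k
    by_cases hi : k = i
    · subst hi; rw [rt_left hij]; exact h1
    by_cases hj : k = j
    · subst hj; rw [rt_right hij]; exact h2
    rw [rt_other hi hj]; rfl

theorem rt_nonpos {i j : I} (hij : i ≠ j) {a g : ℤ} : rt i j a g ≤ 0 ↔ a ≤ 0 ∧ g ≤ 0 := by
  constructor
  · intro h1
    have h2 := h1 i
    have h3 := h1 j
    rw [rt_left hij] at h2
    rw [rt_right hij] at h3
    exact ⟨h2, h3⟩
  · rintro ⟨h1, h2⟩ k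
    by_cases hi : k = i
    · subst hi; rw [rt_left hij]; exact h1
    by_cases hj : k = j
    · subst hj; rw [rt_right hij]; exact h2
    rw [rt_other hi hj]; rfl

theorem rt_mem_RootsJ {i j : I} {a g : ℤ} (hx : IsRoot cs h (rt i j a g)) : rt i j a g ∈ RootsJ cs h {i, j} :=
  ⟨hx, fun k hk => rt_other (fun h1 => hk (Or.inl h1)) (fun h1 => hk (Or.inr h1)) a g⟩

theorem eq_rt_of_RootsJ {i j : I} (hij : i ≠ j) {x : I → ℤ} (hx : x ∈ RootsJ cs h {i, j}) :
    x = rt i j (x i) (x j) := eq_rt hij fun k hi hj => hx.2 k (by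
  rintro (h1 | h1)
  · exact hi h1
  · exact hj h1)

/-- the sign condition and primitivity -/
theorem rt_sign {i j : I} (hij : i ≠ j) {a g : ℤ} (hx : IsRoot cs h (rt i j a g)) :
    (0 ≤ a ∧ 0 ≤ g ∨ a ≤ 0 ∧ g ≤ 0) ∧ (g = 0 → a = 1 ∨ a = -1) ∧ (a = 0 → g = 1 ∨ g = -1) := by
  have hs : (0 ≤ a ∧ 0 ≤ g ∨ a ≤ 0 ∧ g ≤ 0) := by
    rcases hx.pos_or_neg with h1 | h1
    · exact Or.inl ((rt_nonneg hij).1 h1)
    · exact Or.inr ((rt_nonpos hij).1 h1)
  refine ⟨hs, ?_, ?_⟩
  · rintro rfl
    rcases hx.pos_or_neg with h1 | h1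
    · have h2 : rt i j a 0 = sr i := hx.eq_sr h1 i fun k hk => by
        by_cases hj : k = j
        · subst hj; exact rt_right hij a 0
        · exact rt_other hk hj a 0
      rw [← rt_one_zero i j, rt_inj hij] at h2
      exact Or.inl h2.1
    · have h1' : 0 ≤ rt i j (-a) 0 := by
        rw [rt_nonneg hij]
        have := (rt_nonpos hij).1 h1
        omega
      have hx' : IsRoot cs h (rt i j (-a) 0) := by
        have := hx.neg
        rwa [rt_neg, neg_zero] at this
      have h2 : rt i j (-a) 0 = sr i := hx'.eq_sr h1' i fun k hk => by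
        by_cases hj : k = j
        · subst hj; exact rt_right hij (-a) 0
        · exact rt_other hk hj (-a) 0
      rw [← rt_one_zero i j, rt_inj hij] at h2
      right
      omega
  · rintro rfl
    rcases hx.pos_or_neg with h1 | h1
    · have h2 : rt i j 0 g = sr j := hx.eq_sr h1 j fun k hk => by
        by_cases hi : k = i
        · subst hi; exact rt_left hij 0 g
        · exact rt_other hi hk 0 g
      rw [← rt_zero_one i j, rt_inj hij] at h2
      exact Or.inl h2.2
    · have h1' : 0 ≤ rt i j 0 (-g) := by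
        rw [rt_nonneg hij]
        have := (rt_nonpos hij).1 h1
        omega
      have hx' : IsRoot cs h (rt i j 0 (-g)) := by
        have := hx.neg
        rwa [rt_neg, neg_zero] at this
      have h2 : rt i j 0 (-g) = sr j := hx'.eq_sr h1' j fun k hk => by
        by_cases hi : k = i
        · subst hi; exact rt_left hij 0 (-g)
        · exact rt_other hi hk 0 (-g)
      rw [← rt_zero_one i j, rt_inj hij] at h2
      right
      omega

/-! ### simple bonds -/

theorem V_eq (cs : CoxeterSystem M W) (h : IsCartan M A) (X : (I → ℤ) → Subgroup Y) (a : I) :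
    VJ cs h X {a} = RGD.Sup X (RGD.PosNe cs h a) := by
  have : NotJ cs h {a} = RGD.PosNe cs h a := by
    ext x
    constructor
    · rintro ⟨hx, h0, k, hk, hk0⟩
      refine ⟨hx, h0, ?_⟩
      rintro rfl
      rw [sr_ne hk] at hk0
      exact lt_irrefl _ hk0
    · rintro ⟨hx, h0, hne⟩
      obtain ⟨k, hk, hk0⟩ := RGD.exists_coeff hx h0 hne
      exact ⟨hx, h0, k, hk, hk0⟩
  unfold VJ
  rw [this]

theorem V_anti {J J' : Set I} (hJ : J ⊆ J') : VJ cs h X J' ≤ VJ cs h X J :=
  RGD.Sup_mono fun _ hx => ⟨hx.1, hx.2.1, by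
    obtain ⟨k, hk, hk0⟩ := hx.2.2
    exact ⟨k, fun h1 => hk (hJ h1), hk0⟩⟩

section Three

variable (R : RGD cs h p T n X)

include R

theorem X_inf_V [Finite W] {a : I} {x : Y} (hx : x ∈ X (sr a)) (hV : x ∈ VJ cs h X {a}) : x = 1 := by
  rw [V_eq] at hV
  exact eq_one_of_mem_PosNe R hx hV

theorem XV_split {J : Set I} {x : I → ℤ} (hx : x ∈ RootsJ cs h J) {g : Y} (hg : g ∈ X x ⊔ VJ cs h X J) :
    ∃ s ∈ X x, ∃ q ∈ VJ cs h X J, g = s * q := by
  have h1 : g ∈ ((X x ⊔ VJ cs h X J : Subgroup Y) : Set Y) := hg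
  rw [Subgroup.coe_mul_of_left_le_normalizer_right _ _ (le_trans (X_le_LJ hx) (LJ_le_normalizer_VJ R J)),
    Set.mem_mul] at h1
  obtain ⟨l, hl, v, hv, e⟩ := h1
  exact ⟨l, hl, v, hv, e.symm⟩

end Three

/-- **Simple bonds.** -/
theorem NT.of_three [Finite W] (R : RGD cs h p T n X) {a b : I} (hab : M a b = 3) {c : Y} (hc : NT cs h X c b) :
    NT cs h X c a := by
  have hne : a ≠ b := by
    rintro rfl
    rw [M.diagonal] at hab
    omega
  have hA : A2 cs h (sr a) (sr b) := a2_of_three hab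
  have hA1 : A a b = -1 ∧ A b a = -1 := by
    rcases h.rel a b hne with h1 | h1 | h1 | h1
    · rw [hab] at h1; omega
    · exact h1.2
    · rw [hab] at h1; omega
    · rw [hab] at h1; omega
  obtain ⟨g, h1, h2⟩ := hc
  apply NT.of_conj g
  generalize g * c * g⁻¹ = c at h1 h2
  by_cases h3 : c ∈ VJ cs h X {a}
  swap
  · exact ⟨1, by rwa [one_mul, inv_one, mul_one], by rwa [one_mul, inv_one, mul_one]⟩
  -- the component in `X b`
  obtain ⟨r, hr, y, hy, rfl⟩ := exists_mul R (S := NotJ cs h {a}) (i := b) (fun x hx => ⟨hx.1, hx.2.1⟩)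
    (sr_mem_NotJ (fun h4 => hne h4.symm)) (fun y hy _ z hz => by
      obtain ⟨hy1, hy0, k, hk, hk0⟩ := hy
      exact ⟨hz.1, RGD.nonneg_of_btwn (sr_nonneg b) hy0 hz, k, hk, btwn_apply_pos hz.symm hk0 (sr_nonneg b k)⟩) h3
  set J : Set I := {a, b} with hJ
  have haJ : sr a ∈ RootsJ cs h J := PosJ_subset J (sr_mem_PosJ (Or.inl rfl))
  have hbJ : sr b ∈ RootsJ cs h J := PosJ_subset J (sr_mem_PosJ (Or.inr rfl))
  have habJ : sr a + sr b ∈ RootsJ cs h J := by
    refine ⟨hA.rxy, fun k hk => ?_⟩
    rw [Pi.add_apply, haJ.2 k hk, hbJ.2 k hk, add_zero]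
  have hr' : r ∈ X (sr a + sr b) ⊔ VJ cs h X J := by
    refine (RGD.Sup_le fun x hx => ?_ : RGD.Sup X (NotJ cs h {a} \ {sr b}) ≤ _) hr
    obtain ⟨⟨hx1, hx0, k, hk, hk0⟩, hxb⟩ := hx
    rcases mem_PosJ_or_NotJ J hx1 hx0 with h4 | h4
    · have hkb : k = b := by
        by_contra h5
        rw [h4.2.2 k (by
          rintro (h6 | h6)
          · exact hk h6
          · exact h5 h6)] at hk0
        exact lt_irrefl _ hk0
      subst hkb
      have h5 : 0 < x a := by
        rcases (hx0 a).lt_or_eq with h6 | h6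
        · exact h6
        · exfalso
          apply hxb
          refine hx1.eq_sr hx0 k fun j hj => ?_
          by_cases hja : j = a
          · rw [hja]; exact h6.symm
          · exact h4.2.2 j (by
              rintro (h7 | h7)
              · exact hja h7
              · exact hj h7)
      have h6 : x = sr a + sr k := eq_add_of_supp hne hA1.1 hA1.2 hx1 h5 hk0 fun j hj hj' => h4.2.2 j (by
        rintro (h7 | h7)
        · exact hj h7
        · exact hj' h7)
      rw [h6]
      exact le_sup_left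
    · exact le_trans (RGD.le_Sup h4) le_sup_right
  obtain ⟨s, hs, q, hq, rfl⟩ := XV_split R habJ hr'
  have hVa : VJ cs h X J ≤ VJ cs h X {a} := V_anti (by rintro x rfl; exact Or.inl rfl)
  have hVb : VJ cs h X J ≤ VJ cs h X {b} := V_anti (by rintro x rfl; exact Or.inr rfl)
  have hsb : s ∈ VJ cs h X {b} := by
    refine RGD.le_Sup (S := NotJ cs h {b}) (z := sr a + sr b) ?_ hs
    refine ⟨hA.rxy, add_nonneg (sr_nonneg a) (sr_nonneg b), a, hne, ?_⟩
    rw [Pi.add_apply, sr_self, sr_ne hne]; norm_num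
  have hy1 : y ≠ 1 := by
    rintro rfl
    apply h2
    rw [mul_one]
    exact mul_mem hsb (hVb hq)
  obtain ⟨v, hv, e⟩ := hA.symm.comm_surj R hy hy1 (w := s) (by rwa [add_comm])
  have hnV : ∀ {x : I → ℤ} {l : Y}, x ∈ RootsJ cs h J → l ∈ X x → ∀ {q : Y}, q ∈ VJ cs h X J →
      l * q * l⁻¹ ∈ VJ cs h X J := fun hx hl q hq =>
    (Subgroup.mem_normalizer_iff.1 (LJ_le_normalizer_VJ R J (X_le_LJ hx hl)) q).1 hq
  -- `v c v⁻¹ = y q₁`
  have h4 : v * (s * q * y) * v⁻¹ = y * ((v * y)⁻¹ * (v * y * (y⁻¹ * q * y) * v⁻¹) * y) ∨ True := Or.inr trivial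
  clear h4
  have hvs : v * s = s * v := (hA.comm_left R hs hv).symm
  have h4 : v * (s * q * y) * v⁻¹ = y * (v * (y⁻¹ * q * y) * v⁻¹) := by
    have h5 : v * y * v⁻¹ = s⁻¹ * y := by
      have h6 : y * v * y⁻¹ * v⁻¹ = s := e
      have h7 : v * y * v⁻¹ = (y * v * y⁻¹ * v⁻¹)⁻¹ * y := by group
      rw [h7, h6]
    have h8 : v * (s * q * y) * v⁻¹ = (v * s) * y * (v⁻¹ * v) * (y⁻¹ * q * y) * v⁻¹ := by group
    rw [h8, hvs]
    have h9 : s * v * y * (v⁻¹ * v) * (y⁻¹ * q * y) * v⁻¹ = s * (v * y * v⁻¹) * (v * (y⁻¹ * q * y) * v⁻¹) := by group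
    rw [h9, h5]; group
  have hq1 : v * (y⁻¹ * q * y) * v⁻¹ ∈ VJ cs h X J := by
    refine hnV haJ hv ?_
    have := hnV hbJ (inv_mem hy) hq
    rwa [inv_inv] at this
  apply NT.of_conj v
  rw [h4]
  generalize v * (y⁻¹ * q * y) * v⁻¹ = q1 at hq1
  -- conjugate by `n a`, `n b`
  have hw : Rp cs R.nsys (cs.simple b * cs.simple a) (n b * n a) := (rp_simple cs R.nsys b).mul (rp_simple cs R.nsys a)
  have hwJ : cs.simple b * cs.simple a ∈ WJ cs J :=
    mul_mem (simple_mem_WJ cs (Or.inr rfl)) (simple_mem_WJ cs (Or.inl rfl))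
  have h5 : rep cs h (cs.simple b * cs.simple a) (sr b) = sr a := by
    rw [rep_mul_apply, ← rt_zero_one a b, rep_left, rep_right, hA1.1, hA1.2, ← rt_one_zero a b]
    norm_num
  have h6 : n b * n a * y * (n b * n a)⁻¹ ∈ X (sr a) := by
    have := R.conj_mem hw (isRoot_sr cs h b) hy
    rwa [h5] at this
  have hkP : n b * n a ∈ PJ cs h T X J := LJ_le_PJ (rp_mem_LJ R hwJ hw)
  have h7 : n b * n a * q1 * (n b * n a)⁻¹ ∈ VJ cs h X J := (P_conj_V R hkP).2 hq1
  have e1 : n b * n a * (y * q1) * (n b * n a)⁻¹ =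
      (n b * n a * y * (n b * n a)⁻¹) * (n b * n a * q1 * (n b * n a)⁻¹) := by group
  refine ⟨n b * n a, ?_, ?_⟩
  · rw [e1]
    exact mul_mem (RGD.le_Sup (S := RGD.Pos cs h) ⟨isRoot_sr cs h a, sr_nonneg a⟩ h6) (VJ_le_U J h7)
  · intro h8
    rw [e1] at h8
    have h9 := X_inf_V R h6 ((mul_mem_cancel_right (hVa h7)).1 h8)
    apply hy1
    have : y = (n b * n a)⁻¹ * (n b * n a * y * (n b * n a)⁻¹) * (n b * n a) := by group
    rw [this, h9]; group

end Cfsg.Agent.H798.T5Root
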