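import Mathlib
import Cfsg.Agent.H798.T5Root

/-!
T5, defining characteristic, part 3 (helper798): multiple bonds.

* `Bd` : the bond property: `NT c i`, `NT d j`, not `NT d i` ⟹ `WPair p ⊤ c d`;
* `wpair_of_only` : if `d` fixes only one `i`-panel of the residue;
* `Nc R i j` : no element `s ≠ 1` of `X (s_i α_j)` commutes with `X α_j`; `bd_of_nc` : `M i j = 4`, `Nc i j` ⟹ `Bd i j`.
-/

set_option autoImplicit false
set_option linter.unusedSectionVars false
set_option maxHeartbeats 400000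

namespace Cfsg.Agent.H798.T5Bond

open CoxeterSystem Cfsg.Agent.ChevalleyStructure.CoxeterGeom Cfsg.Agent.Tits.Roots Cfsg.Agent.Tits.Core
  Cfsg.Agent.Tits.RootComb Cfsg.Agent.Tits.Exchange Cfsg.Agent.Nodes.Reps Cfsg.Agent.Nodes.BNOf
  Cfsg.Agent.Nodes.StabComb Cfsg.Agent.Nodes.Bruhat Cfsg.Agent.Nodes.OppDec Cfsg.Agent.Nodes.LeviDec
  Cfsg.Agent.Nodes.Coroot Cfsg.Agent.KFacts.RgdSL Cfsg.Agent.H533.T5 Cfsg.Agent.H798.T5Geo
  Cfsg.Agent.H798.T5Root
open scoped commutatorElement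

variable {I W Y : Type*} [Fintype I] [DecidableEq I] [Group W] [Group Y] {M : CoxeterMatrix I}
  {cs : CoxeterSystem M W} {A : I → I → ℤ} {h : IsCartan M A} {p : ℕ} {T : Subgroup Y} {n : I → Y}
  {X : (I → ℤ) → Subgroup Y}

/-- `s_j s_i` for a bond: `s_j s_i α_i < 0` and `s_i s_j s_i α_i < 0` -/
theorem bond_signs (cs : CoxeterSystem M W) (h : IsCartan M A) {i j : I} (hij : i ≠ j) (hM : M i j ≠ 2) :
    rep cs h (cs.simple j * cs.simple i) (sr i) ≤ 0 ∧
      rep cs h (cs.simple i * (cs.simple j * cs.simple i)) (sr i) ≤ 0 ∧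
      0 ≤ rep cs h (cs.simple j * cs.simple i)⁻¹ (sr i) := by
  have hA : 1 ≤ A i j * A j i ∧ A i j ≤ -1 ∧ A j i ≤ -1 := by
    rcases h.rel i j hij with h1 | h1 | h1 | h1
    · exact absurd h1.1 hM
    · rw [h1.2.1, h1.2.2]; norm_num
    · rcases h1.2 with h2 | h2 <;> rw [h2.1, h2.2] <;> norm_num
    · rcases h1.2 with h2 | h2 <;> rw [h2.1, h2.2] <;> norm_num
  refine ⟨?_, ?_, ?_⟩
  · rw [rep_mul_apply, ← rt_one_zero i j, rep_left, rep_right, rt_nonpos hij]
    constructor <;> linarith [hA.1, hA.2.1, hA.2.2]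
  · rw [rep_mul_apply, rep_mul_apply, ← rt_one_zero i j, rep_left, rep_right, rep_left, rt_nonpos hij]
    constructor <;> nlinarith [hA.1, hA.2.1, hA.2.2]
  · rw [mul_inv_rev, cs.inv_simple, cs.inv_simple, rep_mul_apply, ← rt_one_zero i j, rep_right, rep_left,
      rt_nonneg hij]
    constructor <;> nlinarith [hA.1, hA.2.1, hA.2.2]

section Only

variable (R : RGD cs h p T n X)

include R

/-- If `d ∈ U` and no `P_i`-conjugate of `d` lies in `V_j`, while all lie in `U`, then the chambers of the residue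
fixed by `d` are the chambers of one `i`-panel. -/
theorem mem_P_of_only [Finite W] {i j : I} {d : Y}
    (hd : ∀ g ∈ PJ cs h T X {i}, g * d * g⁻¹ ∈ RGD.Sup X (RGD.Pos cs h) ∧ g * d * g⁻¹ ∉ VJ cs h X {j}) {g : Y}
    (hg : g ∈ PJ cs h T X {i, j}) (h1 : g * d * g⁻¹ ∈ RGD.B cs h T X) : g ∈ PJ cs h T X {i} := by
  obtain ⟨w, hw, b, hb, k, hk, b', hb', rfl⟩ := (mem_PJ_iff_cell R).1 hg
  have hni : n i ∈ PJ cs h T X {i} := LJ_le_PJ (n_mem_LJ R rfl)
  have hb'P : b' ∈ PJ cs h T X {i} := B_le_PJ hb'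
  have h2 : k * (b' * d * b'⁻¹) * k⁻¹ ∈ RGD.B cs h T X := by
    have e : k * (b' * d * b'⁻¹) * k⁻¹ = b⁻¹ * (b * k * b' * d * (b * k * b')⁻¹) * b := by group
    rw [e]
    exact mul_mem (mul_mem (inv_mem hb) h1) hb
  refine mul_mem (mul_mem (B_le_PJ hb) ?_) hb'P
  by_cases hw1 : w = 1
  · subst hw1
    exact B_le_PJ (RGD.T_le_B hk.mem_of_one)
  obtain ⟨l, hl, h3, h4, h5⟩ := exists_desc (h := h) hw hw1
  rcases hl with hl | hl
  · subst hl
    -- `k = k' n`
    have hk' : Rp cs R.nsys (w * cs.simple l) (k * (n l)⁻¹) := by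
      have := hk.mul (rp_simple cs R.nsys l).inv
      rwa [cs.inv_simple] at this
    have h6 : k * (n l)⁻¹ * ((n l * b') * d * (n l * b')⁻¹) * (k * (n l)⁻¹)⁻¹ ∈ RGD.B cs h T X := by
      have e : k * (n l)⁻¹ * ((n l * b') * d * (n l * b')⁻¹) * (k * (n l)⁻¹)⁻¹ = k * (b' * d * b'⁻¹) * k⁻¹ := by
        group
      rwa [e]
    by_cases h7 : w * cs.simple l = 1
    · rw [h7] at hk'
      have h8 : k * (n l)⁻¹ ∈ PJ cs h T X {l} := B_le_PJ (RGD.T_le_B hk'.mem_of_one)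
      have e : k = k * (n l)⁻¹ * n l := by group
      rw [e]
      exact mul_mem h8 hni
    · exfalso
      obtain ⟨l', hl', h8, -, -⟩ := exists_desc (h := h) h4 h7
      have hl'j : l' = j := by
        rcases hl' with h9 | h9
        · exfalso
          rw [h9] at h8
          exact ((isRoot_sr cs h l).act (w * cs.simple l)).not_pos_neg h5 h8
        · exact h9
      subst hl'j
      have h9 := hd (n l * b') (mul_mem hni hb'P)
      exact h9.2 (mem_V_of_conj R hk' h8 h9.1 h6)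
  · exfalso
    have hl' : l = j := hl
    subst hl'
    have h9 := hd b' hb'P
    exact h9.2 (mem_V_of_conj R hk h3 h9.1 h2)

/-- An element of `U` all of whose `P_{ij}`-conjugates lie in `P_i` lies in `V_i`. -/
theorem mem_V_of_core [Finite W] [Finite Y] [Fact p.Prime] {i j : I} (hij : i ≠ j) (hM : M i j ≠ 2) {c : Y}
    (hc : c ∈ RGD.Sup X (RGD.Pos cs h))
    (hP : n j * n i * c * (n j * n i)⁻¹ ∈ PJ cs h T X {i}) : c ∈ VJ cs h X {i} := by
  obtain ⟨s1, s2, s3⟩ := bond_signs cs h hij hM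
  by_contra hcV
  set k := n j * n i with hk
  have hkR : Rp cs R.nsys (cs.simple j * cs.simple i) k := (rp_simple cs R.nsys j).mul (rp_simple cs R.nsys i)
  have hpc : IsPGroup p (Subgroup.zpowers (k * c * k⁻¹)) := by
    have h1 : IsPGroup p (Subgroup.zpowers c) := R.isPGroup_Upos.to_le (by
      rw [Subgroup.zpowers_le]; exact hc)
    have h2 : Subgroup.zpowers (k * c * k⁻¹) = (Subgroup.zpowers c).map (MulAut.conj k).toMonoidHom := by
      rw [MonoidHom.map_zpowers]; rfl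
    rw [h2]
    exact h1.map _
  obtain ⟨r, hr, hrK⟩ := exists_conj_U_P R (J := {i}) hpc (by rw [Subgroup.zpowers_le]; exact hP)
  have h1 := hrK _ (Subgroup.mem_zpowers _)
  -- `r ∈ B`
  have hB : k * c * k⁻¹ ∈ RGD.B cs h T X → False := fun h2 => hcV (mem_V_of_conj R hkR s1 hc h2)
  rcases mem_P_cases R hr with h2 | ⟨b, hb, m, hm, b', hb', rfl⟩
  · apply hB
    have e : k * c * k⁻¹ = r⁻¹ * (r * (k * c * k⁻¹) * r⁻¹) * r := by group
    rw [e]
    exact mul_mem (mul_mem (inv_mem h2) (RGD.U_le_B h1)) h2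
  · obtain ⟨v, hv, x, hx, t, ht, rfl⟩ := R.mem_B' i hb'
    have hv' : v ∈ VJ cs h X {i} := by rw [V_eq]; exact hv
    have hmP : m ∈ PJ cs h T X {i} := LJ_le_PJ (rp_mem_LJ R (simple_mem_WJ cs (Set.mem_singleton i)) hm)
    have hmv : m * v * m⁻¹ ∈ RGD.B cs h T X := VJ_le_B {i} ((P_conj_V R hmP).2 hv')
    -- `x t k = k x' t'`
    have hx' : k⁻¹ * x * k ∈ RGD.Sup X (RGD.Pos cs h) :=
      RGD.le_Sup (S := RGD.Pos cs h) ⟨(isRoot_sr cs h i).act _, s3⟩ (R.conj_mem' hkR (isRoot_sr cs h i) hx)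
    have ht' : k⁻¹ * t * k ∈ T := by
      have h3 : cj k⁻¹ T = T := cj_T R hkR.inv
      rw [← h3]
      have := (conj_mem_cj (g := k⁻¹) (A := T)).2 ht
      rwa [inv_inv] at this
    have hbb : k⁻¹ * x * k * (k⁻¹ * t * k) ∈ RGD.B cs h T X := mul_mem (RGD.U_le_B hx') (RGD.T_le_B ht')
    set y := k⁻¹ * x * k * (k⁻¹ * t * k) with hy
    have h3 : y * c * y⁻¹ ∈ RGD.Sup X (RGD.Pos cs h) := B_conj_U R hbb hc
    have h4 : y * c * y⁻¹ ∉ VJ cs h X {i} := fun h5 => hcV ((P_conj_V R (B_le_PJ hbb)).1 h5)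
    apply h4
    have hmk : Rp cs R.nsys (cs.simple i * (cs.simple j * cs.simple i)) (m * k) := hm.mul hkR
    refine mem_V_of_conj R hmk s2 h3 ?_
    have e : m * k * (y * c * y⁻¹) * (m * k)⁻¹ = (b * (m * v * m⁻¹))⁻¹ *
        (b * m * (v * x * t) * (k * c * k⁻¹) * (b * m * (v * x * t))⁻¹) * (b * (m * v * m⁻¹)) := by
      rw [hy]; group
    rw [e]
    have h5 := mul_mem hb hmv
    exact mul_mem (mul_mem (inv_mem h5) (RGD.U_le_B h1)) h5

/-- **The first alternative**: `d` fixes only the chambers of an `i`-panel of the residue. -/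
theorem wpair_of_only [Finite W] [Finite Y] [Fact p.Prime] {i j : I} (hij : i ≠ j) (hM : M i j ≠ 2) {c d : Y}
    (hc : NT cs h X c i)
    (hd : ∀ g ∈ PJ cs h T X {i}, g * d * g⁻¹ ∈ RGD.Sup X (RGD.Pos cs h) ∧ g * d * g⁻¹ ∉ VJ cs h X {j}) :
    WPair p (⊤ : Subgroup Y) c d := by
  obtain ⟨g0, hc1, hc2⟩ := hc
  refine WPair.conj_left (s := g0) (Subgroup.mem_top _) ?_
  generalize g0 * c * g0⁻¹ = c at hc1 hc2
  by_contra hW
  have hK : ∀ g : Y, IsPGroup p ↥(Subgroup.closure ({c, g * d * g⁻¹} : Set Y)) := by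
    intro g
    by_contra h1
    exact hW ⟨g, Subgroup.mem_top _, h1⟩
  set J : Set I := {i, j} with hJ
  have hUP : RGD.Sup X (RGD.Pos cs h) ≤ PJ cs h T X J := le_trans RGD.U_le_B B_le_PJ
  have hdU : d ∈ RGD.Sup X (RGD.Pos cs h) := by
    have := (hd 1 (one_mem _)).1
    rwa [one_mul, inv_one, mul_one] at this
  have key : ∀ g ∈ PJ cs h T X J, g⁻¹ * c * g ∈ PJ cs h T X {i} := by
    intro g hg
    obtain ⟨k, hk, hkK⟩ := exists_conj_U_P R (J := J) (hK g) (by
      rw [Subgroup.closure_le]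
      rintro x hx
      rcases hx with rfl | hx
      · exact hUP hc1
      · rw [Set.mem_singleton_iff] at hx
        rw [hx]
        exact mul_mem (mul_mem hg (hUP hdU)) (inv_mem hg))
    have h1 := hkK c (Subgroup.subset_closure (by simp))
    have h2 := hkK (g * d * g⁻¹) (Subgroup.subset_closure (by simp))
    have e : k * (g * d * g⁻¹) * k⁻¹ = (k * g) * d * (k * g)⁻¹ := by group
    rw [e] at h2
    have h3 := mem_P_of_only R hd (mul_mem hk hg) (RGD.U_le_B h2)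
    have e' : g⁻¹ * c * g = (k * g)⁻¹ * (k * c * k⁻¹) * (k * g) := by group
    rw [e']
    exact mul_mem (mul_mem (inv_mem h3) (le_trans RGD.U_le_B B_le_PJ h1)) h3
  apply hc2
  refine mem_V_of_core R hij hM hc1 ?_
  have hw : n j * n i ∈ PJ cs h T X J :=
    LJ_le_PJ (mul_mem (n_mem_LJ R (Or.inr rfl)) (n_mem_LJ R (Or.inl rfl)))
  have := key (n j * n i)⁻¹ (inv_mem hw)
  rwa [inv_inv] at this

end Only

/-- The bond property. -/
def Bd (cs : CoxeterSystem M W) (h : IsCartan M A) (p : ℕ) (X : (I → ℤ) → Subgroup Y) (i j : I) : Prop :=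
  ∀ c d : Y, IsPGroup p (Subgroup.zpowers d) → NT cs h X c i → NT cs h X d j → ¬ NT cs h X d i →
    WPair p (⊤ : Subgroup Y) c d

section Dich

variable (R : RGD cs h p T n X)

include R

/-- some conjugate of `d` in `U` has a `P_i`-conjugate in `V_j` ⟹ a ball -/
theorem exists_ball_of_mem [Finite W] {i j : I} {d g0 : Y} (hd2 : g0 * d * g0⁻¹ ∉ VJ cs h X {j})
    (hdi : ¬ NT cs h X d i)
    (hex : ∃ g ∈ PJ cs h T X {i}, g * (g0 * d * g0⁻¹) * g⁻¹ ∈ VJ cs h X {j}) :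
    ∃ y : Y, y * d * y⁻¹ ∉ VJ cs h X {i, j} ∧ ∀ g ∈ PJ cs h T X {j},
      g * (y * d * y⁻¹) * g⁻¹ ∈ VJ cs h X {i} ∧ g * (y * d * y⁻¹) * g⁻¹ ∈ VJ cs h X {j} := by
  have hV := fun g => mem_V_of_not_NT hdi g
  obtain ⟨g, hg, h1⟩ := hex
  have e : g * (g0 * d * g0⁻¹) * g⁻¹ = g * g0 * d * (g * g0)⁻¹ := by group
  refine ⟨g * g0, ?_, fun r hr => ?_⟩
  · intro h2
    have hgP : g ∈ PJ cs h T X {i, j} := by
      rcases mem_P_cases R hg with h3 | ⟨b, hb, m, hm, b', hb', rfl⟩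
      · exact B_le_PJ h3
      · exact mul_mem (mul_mem (B_le_PJ hb) (LJ_le_PJ (rp_mem_LJ R (simple_mem_WJ cs (Or.inl rfl)) hm)))
          (B_le_PJ hb')
    rw [← e, P_conj_V R hgP] at h2
    exact hd2 (V_anti (by rintro x rfl; exact Or.inr rfl) h2)
  · rw [e] at h1
    have h3 : r * (g * g0 * d * (g * g0)⁻¹) * r⁻¹ ∈ VJ cs h X {j} := (P_conj_V R hr).2 h1
    refine ⟨?_, h3⟩
    have e' : r * (g * g0 * d * (g * g0)⁻¹) * r⁻¹ = (r * g * g0) * d * (r * g * g0)⁻¹ := by group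
    rw [e'] at h3 ⊢
    exact hV _ (VJ_le_U _ h3)

/-- **The dichotomy**: if the pair property fails, some conjugate `e` of `d` outside `V_{ij}` has all its
`P_j`-conjugates in `V_i ∩ V_j`. -/
theorem exists_ball [Finite W] [Finite Y] [Fact p.Prime] {i j : I} (hij : i ≠ j) (hM : M i j ≠ 2) {c d : Y}
    (hc : NT cs h X c i) (hdj : NT cs h X d j) (hdi : ¬ NT cs h X d i) (hW : ¬ WPair p (⊤ : Subgroup Y) c d) :
    ∃ y : Y, y * d * y⁻¹ ∉ VJ cs h X {i, j} ∧ ∀ g ∈ PJ cs h T X {j},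
      g * (y * d * y⁻¹) * g⁻¹ ∈ VJ cs h X {i} ∧ g * (y * d * y⁻¹) * g⁻¹ ∈ VJ cs h X {j} := by
  obtain ⟨g0, hd1, hd2⟩ := hdj
  have hV := fun g => mem_V_of_not_NT hdi g
  have hd3 := hV g0 hd1
  by_cases hex : ∃ g ∈ PJ cs h T X {i}, g * (g0 * d * g0⁻¹) * g⁻¹ ∈ VJ cs h X {j}
  · obtain ⟨g, hg, h1⟩ := hex
    have e : g * (g0 * d * g0⁻¹) * g⁻¹ = g * g0 * d * (g * g0)⁻¹ := by group
    refine ⟨g * g0, ?_, fun r hr => ?_⟩
    · intro h2
      have hgP : g ∈ PJ cs h T X {i, j} := by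
        rcases mem_P_cases R hg with h3 | ⟨b, hb, m, hm, b', hb', rfl⟩
        · exact B_le_PJ h3
        · exact mul_mem (mul_mem (B_le_PJ hb) (LJ_le_PJ (rp_mem_LJ R (simple_mem_WJ cs (Or.inl rfl)) hm)))
            (B_le_PJ hb')
      rw [← e, P_conj_V R hgP] at h2
      exact hd2 (V_anti (by rintro x rfl; exact Or.inr rfl) h2)
    · rw [e] at h1
      have h3 : r * (g * g0 * d * (g * g0)⁻¹) * r⁻¹ ∈ VJ cs h X {j} := (P_conj_V R hr).2 h1
      refine ⟨?_, h3⟩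
      have e' : r * (g * g0 * d * (g * g0)⁻¹) * r⁻¹ = (r * g * g0) * d * (r * g * g0)⁻¹ := by group
      rw [e'] at h3 ⊢
      exact hV _ (VJ_le_U _ h3)
  · exfalso
    push Not at hex
    apply hW
    refine WPair.conj_right (s := g0) (Subgroup.mem_top _) (wpair_of_only R hij hM hc fun g hg => ⟨?_, hex g hg⟩)
    exact VJ_le_U _ ((P_conj_V R hg).2 hd3)

end Dich

/-- No element `≠ 1` of `X (s_i α_j)` commutes with `X α_j`. -/
def Nc (cs : CoxeterSystem M W) (h : IsCartan M A) (X : (I → ℤ) → Subgroup Y) (i j : I) : Prop :=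
  ∀ s ∈ X (rep cs h (cs.simple i) (sr j)), (∀ u ∈ X (sr j), u * s = s * u) → s = 1

/-- `s_i s_j s_i` for a double bond -/
theorem iji_apply (cs : CoxeterSystem M W) (h : IsCartan M A) {i j : I} (hij : i ≠ j) (hM : M i j = 4) {x : I → ℤ}
    (hx : x ∈ RootsJ cs h {i, j}) : rep cs h (cs.simple i * cs.simple j * cs.simple i) x i = -x i := by
  rw [eq_rt_of_RootsJ hij hx, rep_mul_apply, rep_mul_apply, rep_left, rep_right, rep_left, rt_left hij, rt_left hij]
  rcases h.rel i j hij with h1 | h1 | h1 | h1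
  · omega
  · omega
  · rcases h1.2 with h2 | h2 <;> rw [h2.1, h2.2] <;> ring
  · omega

/-- **No ball**, double bond. -/
theorem ball_false_of_nc [Finite W] (R : RGD cs h p T n X) {i j : I} (hM : M i j = 4)
    (hN : Nc cs h X i j) {e : Y} (hy1 : e ∉ VJ cs h X {i, j}) (hy2 : ∀ g ∈ PJ cs h T X {j},
      g * e * g⁻¹ ∈ VJ cs h X {i} ∧ g * e * g⁻¹ ∈ VJ cs h X {j}) : False := by
  have hij : i ≠ j := by
    rintro rfl
    rw [M.diagonal] at hM
    omega
  set J : Set I := {i, j} with hJ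
  have hnj : n j ∈ PJ cs h T X {j} := LJ_le_PJ (n_mem_LJ R rfl)
  have hni : n i ∈ PJ cs h T X {i} := LJ_le_PJ (n_mem_LJ R rfl)
  have hiJ : sr i ∈ RootsJ cs h J := PosJ_subset J (sr_mem_PosJ (Or.inl rfl))
  have hjJ : sr j ∈ RootsJ cs h J := PosJ_subset J (sr_mem_PosJ (Or.inr rfl))
  set β : I → ℤ := rep cs h (cs.simple i) (sr j) with hβ
  have hβJ : β ∈ RootsJ cs h J := RootsJ.act (simple_mem_WJ cs (Or.inl rfl)) hjJ
  have hsi : ∀ x : I → ℤ, rep cs h (cs.simple i) (rep cs h (cs.simple i) x) = x := fun x => by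
    rw [← rep_mul_apply, cs.simple_mul_simple_self, map_one, Module.End.one_apply]
  -- the shape of the elements
  have shape : ∀ f : Y, (∀ g ∈ PJ cs h T X {j}, g * f * g⁻¹ ∈ VJ cs h X {i} ∧ g * f * g⁻¹ ∈ VJ cs h X {j}) →
      ∃ s ∈ X β, ∃ q ∈ VJ cs h X J, f = s * q := by
    intro f hf
    have h1 : f ∈ VJ cs h X {i} := by
      have := (hf 1 (one_mem _)).1
      rwa [one_mul, inv_one, mul_one] at this
    have h2 : n i * f * (n i)⁻¹ ∈ VJ cs h X {i} := (P_conj_V R hni).2 h1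
    have h3 : n i * (n j * f * (n j)⁻¹) * (n i)⁻¹ ∈ VJ cs h X {i} := (P_conj_V R hni).2 (hf _ hnj).1
    have hk : Rp cs R.nsys (cs.simple i * cs.simple j * cs.simple i) (n i * n j * (n i)⁻¹) := by
      have := ((rp_simple cs R.nsys i).mul (rp_simple cs R.nsys j)).mul (rp_simple cs R.nsys i).inv
      rwa [cs.inv_simple] at this
    have h4 : n i * n j * (n i)⁻¹ * (n i * f * (n i)⁻¹) * (n i * n j * (n i)⁻¹)⁻¹ ∈ RGD.B cs h T X := by
      have e1 : n i * n j * (n i)⁻¹ * (n i * f * (n i)⁻¹) * (n i * n j * (n i)⁻¹)⁻¹ =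
          n i * (n j * f * (n j)⁻¹) * (n i)⁻¹ := by group
      rw [e1]
      exact VJ_le_B _ h3
    have h5 := Nodes.Slope.mem_of_conj_mem_B R hk.inv (VJ_le_U _ h2) (by rwa [inv_inv])
    have h6 : n i * f * (n i)⁻¹ ∈ X (sr j) ⊔ VJ cs h X J := by
      refine (RGD.Sup_le fun x hx => ?_ : RGD.Sup X {x | IsRoot cs h x ∧ 0 ≤ x ∧
        0 ≤ rep cs h (cs.simple i * cs.simple j * cs.simple i)⁻¹⁻¹ x} ≤ _) h5
      obtain ⟨hx1, hx0, hx2⟩ := hx
      rw [inv_inv] at hx2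
      rcases mem_PosJ_or_NotJ J hx1 hx0 with h7 | h7
      · have h8 := iji_apply cs h hij hM (PosJ_subset J h7)
        have h9 : x i = 0 := by
          have h10 := hx2 i
          rw [h8] at h10
          have h11 : (0 : ℤ) ≤ x i := hx0 i
          have h12 : (0 : ℤ) ≤ -x i := h10
          omega
        have h10 : x = sr j := hx1.eq_sr hx0 j fun k hk => by
          by_cases hki : k = i
          · rw [hki]; exact h9
          · exact h7.2.2 k (by
              rintro (h11 | h11)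
              · exact hki h11
              · exact hk h11)
        rw [h10]
        exact le_sup_left
      · exact le_trans (RGD.le_Sup h7) le_sup_right
    obtain ⟨s, hs, q, hq, e1⟩ := XV_split R hjJ h6
    have hniJ : n i ∈ PJ cs h T X J := LJ_le_PJ (n_mem_LJ R (Or.inl rfl))
    refine ⟨(n i)⁻¹ * s * n i, ?_, (n i)⁻¹ * q * n i, ?_, ?_⟩
    · have := R.conj_mem' (rp_simple cs R.nsys i) (isRoot_sr cs h j) hs
      rwa [cs.inv_simple] at this
    · have := (P_conj_V R (inv_mem hniJ)).2 hq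
      rwa [inv_inv] at this
    · have e2 : f = (n i)⁻¹ * (n i * f * (n i)⁻¹) * n i := by group
      rw [e2, e1]; group
  obtain ⟨s, hs, q, hq, rfl⟩ := shape e hy2
  apply hy1
  have hs1 : s = 1 := by
    refine hN s hs fun u hu => ?_
    have huJ : u ∈ LJ cs h T X J := X_le_LJ hjJ hu
    have hsJ : s ∈ LJ cs h T X J := X_le_LJ hβJ hs
    have huP : u ∈ PJ cs h T X {j} := LJ_le_PJ (X_le_LJ (PosJ_subset {j} (sr_mem_PosJ rfl)) hu)
    obtain ⟨s', hs', q', hq', e1⟩ := shape (u * (s * q) * u⁻¹) fun g hg => by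
      have e2 : g * (u * (s * q) * u⁻¹) * g⁻¹ = (g * u) * (s * q) * (g * u)⁻¹ := by group
      rw [e2]
      exact hy2 _ (mul_mem hg huP)
    have huq : u * q * u⁻¹ ∈ VJ cs h X J := (P_conj_V R (LJ_le_PJ huJ)).2 hq
    have h1 : s'⁻¹ * (u * s * u⁻¹) = q' * (u * q * u⁻¹)⁻¹ := by
      have e2 : u * s * u⁻¹ * (u * q * u⁻¹) = s' * q' := by rw [← e1]; group
      rw [eq_mul_inv_iff_mul_eq, mul_assoc, e2]; group
    have h2 : s'⁻¹ * (u * s * u⁻¹) ∈ LJ cs h T X J :=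
      mul_mem (inv_mem (X_le_LJ hβJ hs')) (mul_mem (mul_mem huJ hsJ) (inv_mem huJ))
    have h3 : s'⁻¹ * (u * s * u⁻¹) ∈ VJ cs h X J := by
      rw [h1]; exact mul_mem hq' (inv_mem huq)
    have h4 := eq_one_of_mem_LJ_of_mem_VJ R h2 h3
    have h5 : ⁅u, s⁆ ∈ X β := by
      have h6 : ⁅u, s⁆ = s' * s⁻¹ := by
        rw [commutatorElement_def, inv_mul_eq_one.1 h4]
      rw [h6]
      exact mul_mem hs' (inv_mem hs)
    have hne : sr j ≠ β := by
      intro h6
      have h7 := congrArg (fun x => x i) h6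
      simp only [hβ] at h7
      rw [← rt_zero_one i j, rep_left, rt_left hij, rt_left hij] at h7
      rcases h.rel i j hij with h8 | h8 | h8 | h8 <;> omega
    have hne' : sr j ≠ -β := by
      intro h6
      have h7 := congrArg (fun x => x i) h6
      simp only [hβ, Pi.neg_apply] at h7
      rw [← rt_zero_one i j, rep_left, rt_left hij, rt_left hij] at h7
      rcases h.rel i j hij with h8 | h8 | h8 | h8 <;> omega
    have hβ0 : 0 ≤ β := by
      rw [hβ, ← rt_zero_one i j, rep_left, rt_nonneg hij]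
      rcases h.rel i j hij with h8 | h8 | h8 | h8 <;> omega
    have h6 := R.comm (sr j) β (isRoot_sr cs h j) hβJ.1 hne hne' u hu s hs
    have h7 : n i * ⁅u, s⁆ * (n i)⁻¹ ∈ X (sr j) := by
      have := R.conj_mem (rp_simple cs R.nsys i) hβJ.1 h5
      rwa [hβ, hsi] at this
    have h8 : n i * ⁅u, s⁆ * (n i)⁻¹ ∈ RGD.Sup X (RGD.PosNe cs h j) := by
      have h9 : ⁅u, s⁆ ∈ RGD.Sup X {z | Btwn cs h (sr j) β z} := R.btw_le_Sup (fun z hz => hz) h6
      refine conj_mem_Sup R (rp_simple cs R.nsys i) (S := {z | Btwn cs h (sr j) β z}) (fun z hz => hz.1)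
        (fun z hz => ?_) h9
      have h10 : Btwn cs h β (sr j) (rep cs h (cs.simple i) z) := by
        have := Btwn.act hz (cs.simple i)
        rw [hβ, hsi] at this
        exact this
      have h11 : 0 ≤ rep cs h (cs.simple i) z := RGD.nonneg_of_btwn hβ0 (sr_nonneg j) h10
      exact ⟨h10.1, h11, RGD.ne_sr_of_btwn (sr_nonneg j) hβJ.1 hβ0 hne.symm h10.symm⟩
    have h9 := eq_one_of_mem_PosNe R h7 h8
    have h10 : ⁅u, s⁆ = 1 := by
      have : ⁅u, s⁆ = (n i)⁻¹ * (n i * ⁅u, s⁆ * (n i)⁻¹) * n i := by group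
      rw [this, h9]; group
    exact commutatorElement_eq_one_iff_mul_comm.1 h10
  rw [hs1, one_mul]
  exact hq

theorem bd_of_nc [Finite W] [Finite Y] [Fact p.Prime] (R : RGD cs h p T n X) {i j : I} (hM : M i j = 4)
    (hN : Nc cs h X i j) : Bd cs h p X i j := by
  have hij : i ≠ j := by
    rintro rfl
    rw [M.diagonal] at hM
    omega
  intro c d _ hc hdj hdi
  by_contra hW
  obtain ⟨y, hy1, hy2⟩ := exists_ball R hij (by omega) hc hdj hdi hW
  exact ball_false_of_nc R hM hN hy1 hy2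

end Cfsg.Agent.H798.T5Bond
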