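import Mathlib
import Cfsg.Agent.KFacts.RgdFilt
import Cfsg.Agent.H798.T5Bond

/-!
T5, defining characteristic, part 4 (helper798): double bonds with the Chevalley commutator formula.

* `rt_B2`, `rt_G2` : the roots of a double / triple bond;
* `nc_of_intComm` : `M i j = 4`, `A i j = -1`, `IntComm`, `p` odd ⟹ `Nc i j`.
-/

set_option autoImplicit false
set_option linter.unusedSectionVars false
set_option maxHeartbeats 400000

namespace Cfsg.Agent.H798.T5BTwo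

open CoxeterSystem Cfsg.Agent.ChevalleyStructure.CoxeterGeom Cfsg.Agent.Tits.Roots Cfsg.Agent.Tits.Core
  Cfsg.Agent.Tits.RootComb Cfsg.Agent.Tits.Exchange Cfsg.Agent.Nodes.Reps Cfsg.Agent.Nodes.BNOf
  Cfsg.Agent.Nodes.StabComb Cfsg.Agent.Nodes.Bruhat Cfsg.Agent.Nodes.OppDec Cfsg.Agent.Nodes.LeviDec
  Cfsg.Agent.Nodes.Coroot Cfsg.Agent.KFacts.RgdSL Cfsg.Agent.KFacts.RgdBorelTits Cfsg.Agent.KFacts.RgdFilt
  Cfsg.Agent.H533.T5 Cfsg.Agent.H798.T5Geo Cfsg.Agent.H798.T5Root Cfsg.Agent.H798.T5Bond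
open scoped commutatorElement

variable {I W Y : Type*} [Fintype I] [DecidableEq I] [Group W] [Group Y] {M : CoxeterMatrix I}
  {cs : CoxeterSystem M W} {A : I → I → ℤ} {h : IsCartan M A} {p : ℕ} {T : Subgroup Y} {n : I → Y}
  {X : (I → ℤ) → Subgroup Y}

/-! ### roots -/

/-- sign and primitivity, in a form for case splits -/
def Sg (a g : ℤ) : Prop := (0 ≤ a ∧ 0 ≤ g ∨ a ≤ 0 ∧ g ≤ 0) ∧ (g = 0 → a = 1 ∨ a = -1) ∧ (a = 0 → g = 1 ∨ g = -1)

theorem arith_B2 {a g : ℤ} (e0 : Sg a g) (e1 : Sg (-a - -1 * g) g) (e2 : Sg a (-g - -2 * a))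
    (e3 : Sg (-a - -1 * (-g - -2 * a)) (-g - -2 * a)) : (a = 1 ∧ g = 0) ∨ (a = -1 ∧ g = 0) ∨ (a = 0 ∧ g = 1) ∨
      (a = 0 ∧ g = -1) ∨ (a = 1 ∧ g = 1) ∨ (a = -1 ∧ g = -1) ∨ (a = 1 ∧ g = 2) ∨ (a = -1 ∧ g = -2) := by
  by_cases c1 : a = 0
  · rcases e0.2.2 c1 with h1 | h1 <;> omega
  by_cases c2 : g = 0
  · rcases e0.2.1 c2 with h1 | h1 <;> omega
  by_cases c3 : -a - -1 * g = 0
  · rcases e1.2.2 c3 with h1 | h1 <;> omega
  by_cases c4 : -g - -2 * a = 0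
  · rcases e2.2.1 c4 with h1 | h1 <;> omega
  exfalso
  rcases e0.1 with h0 | h0 <;> rcases e1.1 with h1 | h1 <;> rcases e2.1 with h2 | h2 <;>
    rcases e3.1 with h3 | h3 <;> omega

theorem arith_G2 {a g : ℤ} (e0 : Sg a g) (e1 : Sg (-a - -1 * g) g) (e2 : Sg a (-g - -3 * a))
    (e3 : Sg (-a - -1 * (-g - -3 * a)) (-g - -3 * a))
    (e4 : Sg (-a - -1 * g) (-g - -3 * (-a - -1 * g)))
    (e5 : Sg (-(-a - -1 * g) - -1 * (-g - -3 * (-a - -1 * g))) (-g - -3 * (-a - -1 * g))) :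
      (a = 1 ∧ g = 0) ∨ (a = -1 ∧ g = 0) ∨ (a = 0 ∧ g = 1) ∨ (a = 0 ∧ g = -1) ∨
      (a = 1 ∧ g = 1) ∨ (a = -1 ∧ g = -1) ∨ (a = 1 ∧ g = 2) ∨ (a = -1 ∧ g = -2) ∨
      (a = 1 ∧ g = 3) ∨ (a = -1 ∧ g = -3) ∨ (a = 2 ∧ g = 3) ∨ (a = -2 ∧ g = -3) := by
  by_cases c1 : a = 0
  · rcases e0.2.2 c1 with h1 | h1 <;> simp [c1, h1]
  by_cases c2 : g = 0
  · rcases e0.2.1 c2 with h1 | h1 <;> simp [c2, h1]
  by_cases c3 : -a - -1 * g = 0
  · have h2 : a = g := by omega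
    rcases e1.2.2 c3 with h1 | h1 <;> simp [h2, h1]
  by_cases c4 : -g - -3 * a = 0
  · have h2 : g = 3 * a := by omega
    rcases e2.2.1 c4 with h1 | h1 <;> simp [h2, h1]
  by_cases c5 : -a - -1 * (-g - -3 * a) = 0
  · have h2 : g = 2 * a := by omega
    rcases e3.2.2 c5 with h1 | h1
    · have h3 : a = 1 := by omega
      simp [h2, h3]
    · have h3 : a = -1 := by omega
      simp [h2, h3]
  by_cases c6 : -g - -3 * (-a - -1 * g) = 0
  · rcases e4.2.1 c6 with h1 | h1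
    · have h3 : a = 2 := by omega
      have h4 : g = 3 := by omega
      simp [h4, h3]
    · have h3 : a = -2 := by omega
      have h4 : g = -3 := by omega
      simp [h4, h3]
  exfalso
  rcases e0.1 with h0 | h0 <;> rcases e1.1 with h1 | h1 <;> rcases e2.1 with h2 | h2 <;>
    rcases e3.1 with h3 | h3 <;> rcases e4.1 with h4 | h4 <;> rcases e5.1 with h5 | h5 <;> omega

theorem rt_B2 {i j : I} (hij : i ≠ j) (h1 : A i j = -1) (h2 : A j i = -2) {a g : ℤ}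
    (hx : IsRoot cs h (rt i j a g)) : (a = 1 ∧ g = 0) ∨ (a = -1 ∧ g = 0) ∨ (a = 0 ∧ g = 1) ∨ (a = 0 ∧ g = -1) ∨
      (a = 1 ∧ g = 1) ∨ (a = -1 ∧ g = -1) ∨ (a = 1 ∧ g = 2) ∨ (a = -1 ∧ g = -2) := by
  have hx1 := hx.act (cs.simple i)
  rw [rep_left, h1] at hx1
  have hx2 := hx.act (cs.simple j)
  rw [rep_right, h2] at hx2
  have hx3 := hx2.act (cs.simple i)
  rw [rep_left, h1] at hx3
  exact arith_B2 (rt_sign hij hx) (rt_sign hij hx1) (rt_sign hij hx2) (rt_sign hij hx3)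

theorem rt_B2_root {i j : I} (h1 : A i j = -1) (h2 : A j i = -2) : IsRoot cs h (rt i j 1 0) ∧
    IsRoot cs h (rt i j 0 1) ∧ IsRoot cs h (rt i j 1 1) ∧ IsRoot cs h (rt i j 1 2) := by
  have r1 : IsRoot cs h (rt i j 1 0) := by rw [rt_one_zero]; exact isRoot_sr cs h i
  have r2 : IsRoot cs h (rt i j 0 1) := by rw [rt_zero_one]; exact isRoot_sr cs h j
  have r3 := r2.act (cs.simple i)
  rw [rep_left, h1] at r3
  have r4 := r1.act (cs.simple j)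
  rw [rep_right, h2] at r4
  exact ⟨r1, r2, by simpa using r3, by simpa using r4⟩

theorem rt_G2 {i j : I} (hij : i ≠ j) (h1 : A i j = -1) (h2 : A j i = -3) {a g : ℤ}
    (hx : IsRoot cs h (rt i j a g)) : (a = 1 ∧ g = 0) ∨ (a = -1 ∧ g = 0) ∨ (a = 0 ∧ g = 1) ∨ (a = 0 ∧ g = -1) ∨
      (a = 1 ∧ g = 1) ∨ (a = -1 ∧ g = -1) ∨ (a = 1 ∧ g = 2) ∨ (a = -1 ∧ g = -2) ∨
      (a = 1 ∧ g = 3) ∨ (a = -1 ∧ g = -3) ∨ (a = 2 ∧ g = 3) ∨ (a = -2 ∧ g = -3) := by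
  have hx1 := hx.act (cs.simple i)
  rw [rep_left, h1] at hx1
  have hx2 := hx.act (cs.simple j)
  rw [rep_right, h2] at hx2
  have hx3 := hx2.act (cs.simple i)
  rw [rep_left, h1] at hx3
  have hx4 := hx1.act (cs.simple j)
  rw [rep_right, h2] at hx4
  have hx5 := hx4.act (cs.simple i)
  rw [rep_left, h1] at hx5
  exact arith_G2 (rt_sign hij hx) (rt_sign hij hx1) (rt_sign hij hx2) (rt_sign hij hx3) (rt_sign hij hx4)
    (rt_sign hij hx5)

theorem rt_G2_root {i j : I} (h1 : A i j = -1) (h2 : A j i = -3) : IsRoot cs h (rt i j 1 0) ∧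
    IsRoot cs h (rt i j 0 1) ∧ IsRoot cs h (rt i j 1 1) ∧ IsRoot cs h (rt i j 1 2) ∧ IsRoot cs h (rt i j 1 3) ∧
    IsRoot cs h (rt i j 2 3) := by
  have r1 : IsRoot cs h (rt i j 1 0) := by rw [rt_one_zero]; exact isRoot_sr cs h i
  have r2 : IsRoot cs h (rt i j 0 1) := by rw [rt_zero_one]; exact isRoot_sr cs h j
  have r3 := r2.act (cs.simple i)
  rw [rep_left, h1] at r3
  have r4 := r1.act (cs.simple j)
  rw [rep_right, h2] at r4
  have r5 := r3.act (cs.simple j)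
  rw [rep_right, h2] at r5
  have r6 := r4.act (cs.simple i)
  rw [rep_left, h1] at r6
  exact ⟨r1, r2, by simpa using r3, by simpa using r5, by simpa using r4, by simpa using r6⟩

/-! ### tools -/

/-- The commutator formula in the plane of two nodes. -/
theorem comm_le (hI : IntComm cs h X) {i j : I} (hij : i ≠ j) {a g a' g' : ℤ} (hx : IsRoot cs h (rt i j a g))
    (hy : IsRoot cs h (rt i j a' g')) (hne : ¬ (a = a' ∧ g = g')) (hne' : ¬ (a = -a' ∧ g = -g')) {K : Subgroup Y}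
    (hK : ∀ m k : ℤ, 0 < m → 0 < k → IsRoot cs h (rt i j (m * a + k * a') (m * g + k * g')) →
      X (rt i j (m * a + k * a') (m * g + k * g')) ≤ K) {u v : Y} (hu : u ∈ X (rt i j a g))
    (hv : v ∈ X (rt i j a' g')) : ⁅u, v⁆ ∈ K := by
  refine FS_le (G := X) (S := {z | IB cs h (rt i j a g) (rt i j a' g') z}) ?_
    (hI _ _ hx hy (fun h1 => hne ((rt_inj hij).1 h1)) (fun h1 => hne' ?_) u hu v hv)
  · rintro z ⟨hz, m, k, hm, hk, rfl⟩
    rw [rt_comb] at hz ⊢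
    exact hK m k hm hk hz
  · rw [rt_neg] at h1
    exact (rt_inj hij).1 h1

/-- no roots in between -/
theorem commute_of (hI : IntComm cs h X) {i j : I} (hij : i ≠ j) {a g a' g' : ℤ} (hx : IsRoot cs h (rt i j a g))
    (hy : IsRoot cs h (rt i j a' g')) (hne : ¬ (a = a' ∧ g = g')) (hne' : ¬ (a = -a' ∧ g = -g'))
    (hK : ∀ m k : ℤ, 0 < m → 0 < k → ¬ IsRoot cs h (rt i j (m * a + k * a') (m * g + k * g'))) {u v : Y}
    (hu : u ∈ X (rt i j a g)) (hv : v ∈ X (rt i j a' g')) : u * v = v * u := by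
  have h1 := comm_le hI hij hx hy hne hne' (K := ⊥) (fun m k hm hk hz => absurd hz (hK m k hm hk)) hu hv
  rwa [Subgroup.mem_bot, commutatorElement_eq_one_iff_mul_comm] at h1

theorem split_comm {K L : Subgroup Y} (hc : ∀ x ∈ K, ∀ y ∈ L, x * y = y * x) {g : Y} (hg : g ∈ K ⊔ L) :
    ∃ x ∈ K, ∃ y ∈ L, g = x * y := by
  have h1 : K ≤ Subgroup.normalizer (L : Set Y) := by
    intro x hx
    rw [Subgroup.mem_normalizer_iff]
    intro y
    constructor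
    · intro hy
      rw [hc x hx y hy, mul_inv_cancel_right]
      exact hy
    · intro hy
      have h2 := hc x hx _ hy
      have h3 : y = x⁻¹ * (x * y * x⁻¹) * x := by group
      have h4 : x⁻¹ * (x * y * x⁻¹) * x = x⁻¹ * ((x * y * x⁻¹) * x) := by group
      rw [h4, ← h2, ← mul_assoc, inv_mul_cancel, one_mul] at h3
      rw [h3]
      exact hy
  have h2 : g ∈ ((K ⊔ L : Subgroup Y) : Set Y) := hg
  rw [Subgroup.coe_mul_of_left_le_normalizer_right _ _ h1, Set.mem_mul] at h2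
  obtain ⟨x, hx, y, hy, e⟩ := h2
  exact ⟨x, hx, y, hy, e.symm⟩

section Mu

variable (R : RGD cs h p T n X)

include R

/-- `μ(u)` for a simple root -/
theorem exists_mu_simple [Finite W] {j : I} {u : Y} (hu : u ∈ X (sr j)) (hu1 : u ≠ 1) :
    ∃ a ∈ X (-sr j), ∃ b ∈ X (-sr j), ∃ m, Rp cs R.nsys (cs.simple j) m ∧ m = a * u * b := by
  obtain ⟨s, hs, a, ha, b, hb, m, hm, e⟩ := exists_mu R (isRoot_sr cs h j) hu hu1
  have hss : s = cs.simple j := by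
    have : (cs.simple j)⁻¹ * s = 1 := by
      refine eq_one_of_fix cs h _ fun i => ?_
      show rep cs h ((cs.simple j)⁻¹ * s) (sr i) = sr i
      have h3 : rep cs h s (sr i) = rep cs h (cs.simple j) (sr i) := by
        rw [hs, rep_simple_eq, cpr_sr]
      rw [rep_mul_apply, h3, rep_inv_apply]
    exact (inv_mul_eq_one.1 this).symm
  subst hss
  exact ⟨a, ha, b, hb, m, hm, e⟩

theorem X_inf_opp [Finite W] {j : I} {u : Y} (hu : u ∈ X (-sr j)) (hB : u ∈ RGD.B cs h T X) : u = 1 :=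
  eq_one_of_mem_UN_of_mem_B R (X_le_UN (isRoot_sr cs h j).neg (neg_nonpos.2 (sr_nonneg j)) hu) hB

/-- separation by functionals -/
theorem sep [Finite W] {i j : I} (hij : i ≠ j) (l1 l2 m1 m2 : ℤ) {K L : Subgroup Y}
    (hK : ∃ S : Set (ℤ × ℤ), (∀ x ∈ S, IsRoot cs h (rt i j x.1 x.2) ∧ 0 < l1 * x.1 + l2 * x.2) ∧
      K ≤ ⨆ x : S, X (rt i j x.1.1 x.1.2))
    (hL : ∃ S : Set (ℤ × ℤ), (∀ x ∈ S, IsRoot cs h (rt i j x.1 x.2) ∧ l1 * x.1 + l2 * x.2 ≤ 0 ∧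
      0 < m1 * x.1 + m2 * x.2) ∧ L ≤ ⨆ x : S, X (rt i j x.1.1 x.1.2)) {u : Y} (h1 : u ∈ K) (h2 : u ∈ L) : u = 1 := by
  let F : ℤ → ℤ → ((I → ℤ) →+ ℤ) := fun a b =>
    { toFun := fun x => a * x i + b * x j
      map_zero' := by simp
      map_add' := fun x y => by simp only [Pi.add_apply]; ring }
  have hF : ∀ a b x y, F a b (rt i j x y) = a * x + b * y := fun a b x y => by
    show a * rt i j x y i + b * rt i j x y j = _
    rw [rt_left hij, rt_right hij]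
  obtain ⟨S, hS, hKS⟩ := hK
  obtain ⟨S', hS', hLS⟩ := hL
  refine Nodes.Slope.sup_inf_sup' R (F l1 l2) (F m1 m2) ?_ ?_
  · refine (iSup_le fun x => ?_ : (⨆ x : S, X (rt i j x.1.1 x.1.2)) ≤ _) (hKS h1)
    refine RGD.le_Sup (S := {x | IsRoot cs h x ∧ 0 < F l1 l2 x}) ⟨(hS x.1 x.2).1, ?_⟩
    rw [hF]
    exact (hS x.1 x.2).2
  · refine (iSup_le fun x => ?_ : (⨆ x : S', X (rt i j x.1.1 x.1.2)) ≤ _) (hLS h2)
    refine RGD.le_Sup (S := {x | IsRoot cs h x ∧ F l1 l2 x ≤ 0 ∧ 0 < F m1 m2 x}) ⟨(hS' x.1 x.2).1, ?_⟩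
    rw [hF, hF]
    exact (hS' x.1 x.2).2

end Mu

theorem eq_one_of_sq [Fact p.Prime] (hp : p ≠ 2) {K : Subgroup Y} (hK : IsPGroup p K) {w : Y} (hw : w ∈ K)
    (h2 : w * w = 1) : w = 1 := by
  obtain ⟨k, hk⟩ := hK ⟨w, hw⟩
  have h3 : w ^ p ^ k = 1 := by simpa using congrArg Subtype.val hk
  have hp' : p.Prime := Fact.out
  have h4 : orderOf w ∣ Nat.gcd 2 (p ^ k) :=
    Nat.dvd_gcd (orderOf_dvd_of_pow_eq_one (by rw [pow_two]; exact h2)) (orderOf_dvd_of_pow_eq_one h3)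
  have h5 : Nat.gcd 2 (p ^ k) = 1 :=
    Nat.Coprime.pow_right k ((Nat.coprime_primes Nat.prime_two hp').2 (fun h => hp h.symm))
  rw [h5, Nat.dvd_one, orderOf_eq_one_iff] at h4
  exact h4

end Cfsg.Agent.H798.T5BTwo
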