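import Mathlib
import Cfsg.Agent.H798.T5BTwo

/-!
T5, defining characteristic, part 6 (helper798): the commutator relations of a triple bond (`G₂(q)`, `³D₄(q)`).
-/

set_option autoImplicit false
set_option linter.unusedSectionVars false
set_option maxHeartbeats 400000

namespace Cfsg.Agent.H798.T5GTwo

open CoxeterSystem Cfsg.Agent.ChevalleyStructure.CoxeterGeom Cfsg.Agent.Tits.Roots Cfsg.Agent.Tits.Core
  Cfsg.Agent.Tits.RootComb Cfsg.Agent.Tits.Exchange Cfsg.Agent.Nodes.Reps Cfsg.Agent.Nodes.BNOf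
  Cfsg.Agent.Nodes.StabComb Cfsg.Agent.Nodes.Bruhat Cfsg.Agent.Nodes.OppDec Cfsg.Agent.Nodes.LeviDec
  Cfsg.Agent.Nodes.Coroot Cfsg.Agent.KFacts.RgdSL Cfsg.Agent.KFacts.RgdBorelTits Cfsg.Agent.KFacts.RgdFilt
  Cfsg.Agent.H533.T5 Cfsg.Agent.H798.T5Geo Cfsg.Agent.H798.T5Root Cfsg.Agent.H798.T5Bond Cfsg.Agent.H798.T5BTwo
open scoped commutatorElement

variable {I W Y : Type*} [Fintype I] [DecidableEq I] [Group W] [Group Y] {M : CoxeterMatrix I}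
  {cs : CoxeterSystem M W} {A : I → I → ℤ} {h : IsCartan M A} {p : ℕ} {T : Subgroup Y} {n : I → Y}
  {X : (I → ℤ) → Subgroup Y}

theorem comm_le2 (hI : IntComm cs h X) {i j : I} (hij : i ≠ j) {a g a' g' : ℤ} (hx : IsRoot cs h (T5Root.rt i j a g))
    (hy : IsRoot cs h (T5Root.rt i j a' g')) (hne : ¬ (a = a' ∧ g = g')) (hne' : ¬ (a = -a' ∧ g = -g'))
    {K : Subgroup Y} (hK : ∀ b c m k : ℤ, 0 < m → 0 < k → b = m * a + k * a' → c = m * g + k * g' →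
      IsRoot cs h (T5Root.rt i j b c) → X (T5Root.rt i j b c) ≤ K) {u v : Y} (hu : u ∈ X (T5Root.rt i j a g))
    (hv : v ∈ X (T5Root.rt i j a' g')) : ⁅u, v⁆ ∈ K :=
  comm_le hI hij hx hy hne hne' (fun m k hm hk hz => hK _ _ m k hm hk rfl rfl hz) hu hv

/-- a triple bond, `α_i` long, with the Chevalley commutator formula -/
structure G2 (cs : CoxeterSystem M W) (h : IsCartan M A) (X : (I → ℤ) → Subgroup Y) (i j : I) : Prop where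
  ne : i ≠ j
  a1 : A i j = -1
  a2 : A j i = -3
  int : IntComm cs h X

variable {i j : I}

attribute [local irreducible] T5Root.rt

local notation "V0" => X (T5Root.rt i j 1 0)
local notation "V1" => X (T5Root.rt i j 1 1)
local notation "V2" => X (T5Root.rt i j 1 2)
local notation "V3" => X (T5Root.rt i j 1 3)
local notation "ZZ" => X (T5Root.rt i j 2 3)
local notation "GG1" => X (T5Root.rt i j 0 1)
local notation "GM" => X (T5Root.rt i j 0 (-1))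
local notation "AM" => X (T5Root.rt i j (-1) 0)

namespace G2

variable (D : G2 cs h X i j)

include D

theorem r10 : IsRoot cs h (T5Root.rt i j 1 0) := (rt_G2_root (cs := cs) (h := h) D.a1 D.a2).1
theorem r01 : IsRoot cs h (T5Root.rt i j 0 1) := (rt_G2_root (cs := cs) (h := h) D.a1 D.a2).2.1
theorem r11 : IsRoot cs h (T5Root.rt i j 1 1) := (rt_G2_root (cs := cs) (h := h) D.a1 D.a2).2.2.1
theorem r12 : IsRoot cs h (T5Root.rt i j 1 2) := (rt_G2_root (cs := cs) (h := h) D.a1 D.a2).2.2.2.1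
theorem r13 : IsRoot cs h (T5Root.rt i j 1 3) := (rt_G2_root (cs := cs) (h := h) D.a1 D.a2).2.2.2.2.1
theorem r23 : IsRoot cs h (T5Root.rt i j 2 3) := (rt_G2_root (cs := cs) (h := h) D.a1 D.a2).2.2.2.2.2
theorem rm : IsRoot cs h (T5Root.rt i j 0 (-1)) := by
  have := D.r01.neg
  rwa [rt_neg, neg_zero] at this
theorem rn : IsRoot cs h (T5Root.rt i j (-1) 0) := by
  have := D.r10.neg
  rwa [rt_neg, neg_zero] at this

theorem lst {a g : ℤ} (hx : IsRoot cs h (T5Root.rt i j a g)) :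
    (a = 1 ∧ g = 0) ∨ (a = -1 ∧ g = 0) ∨ (a = 0 ∧ g = 1) ∨ (a = 0 ∧ g = -1) ∨
      (a = 1 ∧ g = 1) ∨ (a = -1 ∧ g = -1) ∨ (a = 1 ∧ g = 2) ∨ (a = -1 ∧ g = -2) ∨
      (a = 1 ∧ g = 3) ∨ (a = -1 ∧ g = -3) ∨ (a = 2 ∧ g = 3) ∨ (a = -2 ∧ g = -3) := rt_G2 D.ne D.a1 D.a2 hx

/-! ### commuting pairs -/

theorem c10_11 {u v : Y} (hu : u ∈ V0) (hv : v ∈ V1) : u * v = v * u :=
  commute_of D.int D.ne D.r10 D.r11 (by norm_num) (by norm_num)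
    (fun m k hm hk hz => by rcases D.lst hz with h1 | h1 | h1 | h1 | h1 | h1 | h1 | h1 | h1 | h1 | h1 | h1 <;> omega)
    hu hv

theorem c10_12 {u v : Y} (hu : u ∈ V0) (hv : v ∈ V2) : u * v = v * u :=
  commute_of D.int D.ne D.r10 D.r12 (by norm_num) (by norm_num)
    (fun m k hm hk hz => by rcases D.lst hz with h1 | h1 | h1 | h1 | h1 | h1 | h1 | h1 | h1 | h1 | h1 | h1 <;> omega)
    hu hv

theorem c10_23 {u v : Y} (hu : u ∈ V0) (hv : v ∈ ZZ) : u * v = v * u :=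
  commute_of D.int D.ne D.r10 D.r23 (by norm_num) (by norm_num)
    (fun m k hm hk hz => by rcases D.lst hz with h1 | h1 | h1 | h1 | h1 | h1 | h1 | h1 | h1 | h1 | h1 | h1 <;> omega)
    hu hv

theorem c11_13 {u v : Y} (hu : u ∈ V1) (hv : v ∈ V3) : u * v = v * u :=
  commute_of D.int D.ne D.r11 D.r13 (by norm_num) (by norm_num)
    (fun m k hm hk hz => by rcases D.lst hz with h1 | h1 | h1 | h1 | h1 | h1 | h1 | h1 | h1 | h1 | h1 | h1 <;> omega)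
    hu hv

theorem c11_23 {u v : Y} (hu : u ∈ V1) (hv : v ∈ ZZ) : u * v = v * u :=
  commute_of D.int D.ne D.r11 D.r23 (by norm_num) (by norm_num)
    (fun m k hm hk hz => by rcases D.lst hz with h1 | h1 | h1 | h1 | h1 | h1 | h1 | h1 | h1 | h1 | h1 | h1 <;> omega)
    hu hv

theorem c12_13 {u v : Y} (hu : u ∈ V2) (hv : v ∈ V3) : u * v = v * u :=
  commute_of D.int D.ne D.r12 D.r13 (by norm_num) (by norm_num)
    (fun m k hm hk hz => by rcases D.lst hz with h1 | h1 | h1 | h1 | h1 | h1 | h1 | h1 | h1 | h1 | h1 | h1 <;> omega)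
    hu hv

theorem c12_23 {u v : Y} (hu : u ∈ V2) (hv : v ∈ ZZ) : u * v = v * u :=
  commute_of D.int D.ne D.r12 D.r23 (by norm_num) (by norm_num)
    (fun m k hm hk hz => by rcases D.lst hz with h1 | h1 | h1 | h1 | h1 | h1 | h1 | h1 | h1 | h1 | h1 | h1 <;> omega)
    hu hv

theorem c13_23 {u v : Y} (hu : u ∈ V3) (hv : v ∈ ZZ) : u * v = v * u :=
  commute_of D.int D.ne D.r13 D.r23 (by norm_num) (by norm_num)
    (fun m k hm hk hz => by rcases D.lst hz with h1 | h1 | h1 | h1 | h1 | h1 | h1 | h1 | h1 | h1 | h1 | h1 <;> omega)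
    hu hv

theorem c01_13 {u v : Y} (hu : u ∈ GG1) (hv : v ∈ V3) : u * v = v * u :=
  commute_of D.int D.ne D.r01 D.r13 (by norm_num) (by norm_num)
    (fun m k hm hk hz => by rcases D.lst hz with h1 | h1 | h1 | h1 | h1 | h1 | h1 | h1 | h1 | h1 | h1 | h1 <;> omega)
    hu hv

theorem c01_23 {u v : Y} (hu : u ∈ GG1) (hv : v ∈ ZZ) : u * v = v * u :=
  commute_of D.int D.ne D.r01 D.r23 (by norm_num) (by norm_num)
    (fun m k hm hk hz => by rcases D.lst hz with h1 | h1 | h1 | h1 | h1 | h1 | h1 | h1 | h1 | h1 | h1 | h1 <;> omega)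
    hu hv

theorem cm_10 {u v : Y} (hu : u ∈ GM) (hv : v ∈ V0) : u * v = v * u :=
  commute_of D.int D.ne D.rm D.r10 (by norm_num) (by norm_num)
    (fun m k hm hk hz => by rcases D.lst hz with h1 | h1 | h1 | h1 | h1 | h1 | h1 | h1 | h1 | h1 | h1 | h1 <;> omega)
    hu hv

theorem cm_23 {u v : Y} (hu : u ∈ GM) (hv : v ∈ ZZ) : u * v = v * u :=
  commute_of D.int D.ne D.rm D.r23 (by norm_num) (by norm_num)
    (fun m k hm hk hz => by rcases D.lst hz with h1 | h1 | h1 | h1 | h1 | h1 | h1 | h1 | h1 | h1 | h1 | h1 <;> omega)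
    hu hv

theorem cn_01 {u v : Y} (hu : u ∈ AM) (hv : v ∈ GG1) : u * v = v * u :=
  commute_of D.int D.ne D.rn D.r01 (by norm_num) (by norm_num)
    (fun m k hm hk hz => by rcases D.lst hz with h1 | h1 | h1 | h1 | h1 | h1 | h1 | h1 | h1 | h1 | h1 | h1 <;> omega)
    hu hv

theorem cn_12 {u v : Y} (hu : u ∈ AM) (hv : v ∈ V2) : u * v = v * u :=
  commute_of D.int D.ne D.rn D.r12 (by norm_num) (by norm_num)
    (fun m k hm hk hz => by rcases D.lst hz with h1 | h1 | h1 | h1 | h1 | h1 | h1 | h1 | h1 | h1 | h1 | h1 <;> omega)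
    hu hv

theorem cn_13 {u v : Y} (hu : u ∈ AM) (hv : v ∈ V3) : u * v = v * u :=
  commute_of D.int D.ne D.rn D.r13 (by norm_num) (by norm_num)
    (fun m k hm hk hz => by rcases D.lst hz with h1 | h1 | h1 | h1 | h1 | h1 | h1 | h1 | h1 | h1 | h1 | h1 <;> omega)
    hu hv

/-! ### commutators -/

theorem k10_13 {u v : Y} (hu : u ∈ V0) (hv : v ∈ V3) : ⁅u, v⁆ ∈ ZZ := by
  refine comm_le2 D.int D.ne D.r10 D.r13 (by norm_num) (by norm_num) (fun b c m k hm hk e1 e2 hz => ?_) hu hv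
  rcases D.lst hz with ⟨rfl, rfl⟩ | ⟨rfl, rfl⟩ | ⟨rfl, rfl⟩ | ⟨rfl, rfl⟩ | ⟨rfl, rfl⟩ | ⟨rfl, rfl⟩ | ⟨rfl, rfl⟩ |
    ⟨rfl, rfl⟩ | ⟨rfl, rfl⟩ | ⟨rfl, rfl⟩ | ⟨rfl, rfl⟩ | ⟨rfl, rfl⟩ <;> first
    | (exfalso; omega)
    | exact le_rfl

theorem k11_12 {u v : Y} (hu : u ∈ V1) (hv : v ∈ V2) : ⁅u, v⁆ ∈ ZZ := by
  refine comm_le2 D.int D.ne D.r11 D.r12 (by norm_num) (by norm_num) (fun b c m k hm hk e1 e2 hz => ?_) hu hv
  rcases D.lst hz with ⟨rfl, rfl⟩ | ⟨rfl, rfl⟩ | ⟨rfl, rfl⟩ | ⟨rfl, rfl⟩ | ⟨rfl, rfl⟩ | ⟨rfl, rfl⟩ | ⟨rfl, rfl⟩ |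
    ⟨rfl, rfl⟩ | ⟨rfl, rfl⟩ | ⟨rfl, rfl⟩ | ⟨rfl, rfl⟩ | ⟨rfl, rfl⟩ <;> first
    | (exfalso; omega)
    | exact le_rfl

theorem k01_10 {u v : Y} (hu : u ∈ GG1) (hv : v ∈ V0) : ⁅u, v⁆ ∈ V1 ⊔ (V2 ⊔ V3 ⊔ ZZ) := by
  have key : ∀ K : Subgroup Y, V1 ≤ K → V2 ≤ K → V3 ≤ K → ZZ ≤ K → ⁅u, v⁆ ∈ K := by
    intro K h1 h2 h3 h4
    refine comm_le2 D.int D.ne D.r01 D.r10 (by norm_num) (by norm_num) (fun b c m k hm hk e1 e2 hz => ?_) hu hv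
    rcases D.lst hz with ⟨rfl, rfl⟩ | ⟨rfl, rfl⟩ | ⟨rfl, rfl⟩ | ⟨rfl, rfl⟩ | ⟨rfl, rfl⟩ | ⟨rfl, rfl⟩ | ⟨rfl, rfl⟩ |
      ⟨rfl, rfl⟩ | ⟨rfl, rfl⟩ | ⟨rfl, rfl⟩ | ⟨rfl, rfl⟩ | ⟨rfl, rfl⟩ <;> first
      | with_reducible exact h1
      | with_reducible exact h2
      | with_reducible exact h3
      | with_reducible exact h4
      | (exfalso; omega)
  exact key _ (le_sup_left) (le_trans (le_trans le_sup_left le_sup_left) le_sup_right) (le_trans (le_trans le_sup_right le_sup_left) le_sup_right) (le_trans le_sup_right le_sup_right)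

theorem k01_11 {u v : Y} (hu : u ∈ GG1) (hv : v ∈ V1) : ⁅u, v⁆ ∈ V2 ⊔ V3 ⊔ ZZ := by
  have key : ∀ K : Subgroup Y, V2 ≤ K → V3 ≤ K → ZZ ≤ K → ⁅u, v⁆ ∈ K := by
    intro K h2 h3 h4
    refine comm_le2 D.int D.ne D.r01 D.r11 (by norm_num) (by norm_num) (fun b c m k hm hk e1 e2 hz => ?_) hu hv
    rcases D.lst hz with ⟨rfl, rfl⟩ | ⟨rfl, rfl⟩ | ⟨rfl, rfl⟩ | ⟨rfl, rfl⟩ | ⟨rfl, rfl⟩ | ⟨rfl, rfl⟩ | ⟨rfl, rfl⟩ |
      ⟨rfl, rfl⟩ | ⟨rfl, rfl⟩ | ⟨rfl, rfl⟩ | ⟨rfl, rfl⟩ | ⟨rfl, rfl⟩ <;> first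
      | with_reducible exact h2
      | with_reducible exact h3
      | with_reducible exact h4
      | (exfalso; omega)
  exact key _ (le_trans le_sup_left le_sup_left) (le_trans le_sup_right le_sup_left) (le_sup_right)

theorem k01_12 {u v : Y} (hu : u ∈ GG1) (hv : v ∈ V2) : ⁅u, v⁆ ∈ V3 := by
  refine comm_le2 D.int D.ne D.r01 D.r12 (by norm_num) (by norm_num) (fun b c m k hm hk e1 e2 hz => ?_) hu hv
  rcases D.lst hz with ⟨rfl, rfl⟩ | ⟨rfl, rfl⟩ | ⟨rfl, rfl⟩ | ⟨rfl, rfl⟩ | ⟨rfl, rfl⟩ | ⟨rfl, rfl⟩ | ⟨rfl, rfl⟩ |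
    ⟨rfl, rfl⟩ | ⟨rfl, rfl⟩ | ⟨rfl, rfl⟩ | ⟨rfl, rfl⟩ | ⟨rfl, rfl⟩ <;> first
    | (exfalso; omega)
    | exact le_rfl

theorem km_11 {u v : Y} (hu : u ∈ GM) (hv : v ∈ V1) : ⁅u, v⁆ ∈ V0 := by
  refine comm_le2 D.int D.ne D.rm D.r11 (by norm_num) (by norm_num) (fun b c m k hm hk e1 e2 hz => ?_) hu hv
  rcases D.lst hz with ⟨rfl, rfl⟩ | ⟨rfl, rfl⟩ | ⟨rfl, rfl⟩ | ⟨rfl, rfl⟩ | ⟨rfl, rfl⟩ | ⟨rfl, rfl⟩ | ⟨rfl, rfl⟩ |
    ⟨rfl, rfl⟩ | ⟨rfl, rfl⟩ | ⟨rfl, rfl⟩ | ⟨rfl, rfl⟩ | ⟨rfl, rfl⟩ <;> first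
    | (exfalso; omega)
    | exact le_rfl

theorem km_12 {u v : Y} (hu : u ∈ GM) (hv : v ∈ V2) : ⁅u, v⁆ ∈ V0 ⊔ V1 ⊔ V2 ⊔ ZZ := by
  have key : ∀ K : Subgroup Y, V0 ≤ K → V1 ≤ K → V2 ≤ K → ZZ ≤ K → ⁅u, v⁆ ∈ K := by
    intro K h1 h2 h3 h4
    refine comm_le2 D.int D.ne D.rm D.r12 (by norm_num) (by norm_num) (fun b c m k hm hk e1 e2 hz => ?_) hu hv
    rcases D.lst hz with ⟨rfl, rfl⟩ | ⟨rfl, rfl⟩ | ⟨rfl, rfl⟩ | ⟨rfl, rfl⟩ | ⟨rfl, rfl⟩ | ⟨rfl, rfl⟩ | ⟨rfl, rfl⟩ |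
      ⟨rfl, rfl⟩ | ⟨rfl, rfl⟩ | ⟨rfl, rfl⟩ | ⟨rfl, rfl⟩ | ⟨rfl, rfl⟩ <;> first
      | with_reducible exact h1
      | with_reducible exact h2
      | with_reducible exact h3
      | with_reducible exact h4
      | (exfalso; omega)
  exact key _ (le_trans (le_trans le_sup_left le_sup_left) le_sup_left) (le_trans (le_trans le_sup_right le_sup_left) le_sup_left) (le_trans le_sup_right le_sup_left) (le_sup_right)

theorem km_13 {u v : Y} (hu : u ∈ GM) (hv : v ∈ V3) : ⁅u, v⁆ ∈ V0 ⊔ V1 ⊔ V2 ⊔ ZZ := by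
  have key : ∀ K : Subgroup Y, V0 ≤ K → V1 ≤ K → V2 ≤ K → ZZ ≤ K → ⁅u, v⁆ ∈ K := by
    intro K h1 h2 h3 h4
    refine comm_le2 D.int D.ne D.rm D.r13 (by norm_num) (by norm_num) (fun b c m k hm hk e1 e2 hz => ?_) hu hv
    rcases D.lst hz with ⟨rfl, rfl⟩ | ⟨rfl, rfl⟩ | ⟨rfl, rfl⟩ | ⟨rfl, rfl⟩ | ⟨rfl, rfl⟩ | ⟨rfl, rfl⟩ | ⟨rfl, rfl⟩ |
      ⟨rfl, rfl⟩ | ⟨rfl, rfl⟩ | ⟨rfl, rfl⟩ | ⟨rfl, rfl⟩ | ⟨rfl, rfl⟩ <;> first
      | with_reducible exact h1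
      | with_reducible exact h2
      | with_reducible exact h3
      | with_reducible exact h4
      | (exfalso; omega)
  exact key _ (le_trans (le_trans le_sup_left le_sup_left) le_sup_left) (le_trans (le_trans le_sup_right le_sup_left) le_sup_left) (le_trans le_sup_right le_sup_left) (le_sup_right)

theorem kn_11 {u v : Y} (hu : u ∈ AM) (hv : v ∈ V1) : ⁅u, v⁆ ∈ GG1 ⊔ (V2 ⊔ V3 ⊔ ZZ) := by
  have key : ∀ K : Subgroup Y, GG1 ≤ K → V2 ≤ K → V3 ≤ K → ZZ ≤ K → ⁅u, v⁆ ∈ K := by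
    intro K h1 h2 h3 h4
    refine comm_le2 D.int D.ne D.rn D.r11 (by norm_num) (by norm_num) (fun b c m k hm hk e1 e2 hz => ?_) hu hv
    rcases D.lst hz with ⟨rfl, rfl⟩ | ⟨rfl, rfl⟩ | ⟨rfl, rfl⟩ | ⟨rfl, rfl⟩ | ⟨rfl, rfl⟩ | ⟨rfl, rfl⟩ | ⟨rfl, rfl⟩ |
      ⟨rfl, rfl⟩ | ⟨rfl, rfl⟩ | ⟨rfl, rfl⟩ | ⟨rfl, rfl⟩ | ⟨rfl, rfl⟩ <;> first
      | with_reducible exact h1
      | with_reducible exact h2
      | with_reducible exact h3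
      | with_reducible exact h4
      | (exfalso; omega)
  exact key _ (le_sup_left) (le_trans (le_trans le_sup_left le_sup_left) le_sup_right) (le_trans (le_trans le_sup_right le_sup_left) le_sup_right) (le_trans le_sup_right le_sup_right)

theorem kn_23 {u v : Y} (hu : u ∈ AM) (hv : v ∈ ZZ) : ⁅u, v⁆ ∈ V3 := by
  refine comm_le2 D.int D.ne D.rn D.r23 (by norm_num) (by norm_num) (fun b c m k hm hk e1 e2 hz => ?_) hu hv
  rcases D.lst hz with ⟨rfl, rfl⟩ | ⟨rfl, rfl⟩ | ⟨rfl, rfl⟩ | ⟨rfl, rfl⟩ | ⟨rfl, rfl⟩ | ⟨rfl, rfl⟩ | ⟨rfl, rfl⟩ |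
    ⟨rfl, rfl⟩ | ⟨rfl, rfl⟩ | ⟨rfl, rfl⟩ | ⟨rfl, rfl⟩ | ⟨rfl, rfl⟩ <;> first
    | (exfalso; omega)
    | exact le_rfl

end G2

end Cfsg.Agent.H798.T5GTwo
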