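import Mathlib
import Cfsg.Agent.H798.T5GTwo

/-!
T5, defining characteristic, part 7 (helper798): the bond property of a triple bond (`G₂(q)`, `³D₄(q)`), `p ≥ 5`.
-/

set_option autoImplicit false
set_option linter.unusedSectionVars false
set_option maxHeartbeats 400000

namespace Cfsg.Agent.H798.T5GThree

open CoxeterSystem Cfsg.Agent.ChevalleyStructure.CoxeterGeom Cfsg.Agent.Tits.Roots Cfsg.Agent.Tits.Core
  Cfsg.Agent.Tits.RootComb Cfsg.Agent.Tits.Exchange Cfsg.Agent.Nodes.Reps Cfsg.Agent.Nodes.BNOf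
  Cfsg.Agent.Nodes.StabComb Cfsg.Agent.Nodes.Bruhat Cfsg.Agent.Nodes.OppDec Cfsg.Agent.Nodes.LeviDec
  Cfsg.Agent.Nodes.Coroot Cfsg.Agent.KFacts.RgdSL Cfsg.Agent.KFacts.RgdBorelTits Cfsg.Agent.KFacts.RgdFilt
  Cfsg.Agent.H533.T5 Cfsg.Agent.H798.T5Geo Cfsg.Agent.H798.T5Root Cfsg.Agent.H798.T5Bond Cfsg.Agent.H798.T5BTwo
  Cfsg.Agent.H798.T5GTwo
open scoped commutatorElement

/-! ### components -/

section Comp

variable {Y : Type*} [Group Y]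

/-- `L` normalises `K` and meets it trivially -/
structure CPair (K L : Subgroup Y) : Prop where
  nrm : ∀ r ∈ L, ∀ k ∈ K, r * k * r⁻¹ ∈ K
  inf : ∀ r ∈ L, r ∈ K → r = 1

/-- `r` is the `L`-component of `x` -/
def Cp (K L : Subgroup Y) (x r : Y) : Prop := r ∈ L ∧ x * r⁻¹ ∈ K

variable {K L : Subgroup Y}

theorem Cp.of_K {x : Y} (hx : x ∈ K) : Cp K L x 1 := ⟨one_mem _, by rwa [inv_one, mul_one]⟩

theorem Cp.of_L {x : Y} (hx : x ∈ L) : Cp K L x x := ⟨hx, by rw [mul_inv_cancel]; exact one_mem _⟩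

theorem Cp.mem {x : Y} (hx : Cp K L x 1) : x ∈ K := by
  have := hx.2
  rwa [inv_one, mul_one] at this

theorem CPair.mul (P : CPair K L) {x y r s : Y} (hx : Cp K L x r) (hy : Cp K L y s) : Cp K L (x * y) (r * s) := by
  refine ⟨mul_mem hx.1 hy.1, ?_⟩
  have e : x * y * (r * s)⁻¹ = x * r⁻¹ * (r * (y * s⁻¹) * r⁻¹) := by group
  rw [e]
  exact mul_mem hx.2 (P.nrm r hx.1 _ hy.2)

theorem CPair.uniq (P : CPair K L) {x r s : Y} (hx : Cp K L x r) (hy : Cp K L x s) : r = s := by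
  have h1 : r * s⁻¹ = 1 := by
    refine P.inf _ (mul_mem hx.1 (inv_mem hy.1)) ?_
    have e : r * s⁻¹ = (x * r⁻¹)⁻¹ * (x * s⁻¹) := by group
    rw [e]
    exact mul_mem (inv_mem hx.2) hy.2
  exact mul_inv_eq_one.1 h1

theorem CPair.inv (P : CPair K L) {x r : Y} (hx : Cp K L x r) : Cp K L x⁻¹ r⁻¹ := by
  refine ⟨inv_mem hx.1, ?_⟩
  have e : x⁻¹ * r⁻¹⁻¹ = r⁻¹ * (x * r⁻¹)⁻¹ * r⁻¹⁻¹ := by group
  rw [e]
  exact P.nrm _ (inv_mem hx.1) _ (inv_mem hx.2)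

theorem Cp.conj {x r g : Y} (hK : ∀ k ∈ K, g * k * g⁻¹ ∈ K) (hL : ∀ k ∈ L, g * k * g⁻¹ ∈ L) (hx : Cp K L x r) :
    Cp K L (g * x * g⁻¹) (g * r * g⁻¹) := by
  refine ⟨hL _ hx.1, ?_⟩
  have e : g * x * g⁻¹ * (g * r * g⁻¹)⁻¹ = g * (x * r⁻¹) * g⁻¹ := by group
  rw [e]
  exact hK _ hx.2

theorem Cp.conj' {x r g : Y} (hK : ∀ k ∈ K, g * k * g⁻¹ ∈ K) (hL : ∀ k ∈ L, ⁅g, k⁆ ∈ K) (hx : Cp K L x r) :
    Cp K L (g * x * g⁻¹) r := by
  refine ⟨hx.1, ?_⟩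
  have e : g * x * g⁻¹ * r⁻¹ = g * (x * r⁻¹) * g⁻¹ * ⁅g, r⁆ := by rw [commutatorElement_def]; group
  rw [e]
  exact mul_mem (hK _ hx.2) (hL _ hx.1)

theorem CPair.ex (P : CPair K L) {x : Y} (hx : x ∈ K ⊔ L) : ∃ r, Cp K L x r := by
  have h1 : L ≤ Subgroup.normalizer (K : Set Y) := by
    intro r hr
    rw [Subgroup.mem_normalizer_iff]
    intro k
    refine ⟨fun hk => P.nrm r hr k hk, fun hk => ?_⟩
    have := P.nrm r⁻¹ (inv_mem hr) _ hk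
    have e : r⁻¹ * (r * k * r⁻¹) * r⁻¹⁻¹ = k := by group
    rwa [e] at this
  have h2 : x ∈ ((K ⊔ L : Subgroup Y) : Set Y) := hx
  rw [Subgroup.coe_mul_of_right_le_normalizer_left _ _ h1, Set.mem_mul] at h2
  obtain ⟨k, hk, r, hr, e⟩ := h2
  refine ⟨r, hr, ?_⟩
  rw [← e, mul_inv_cancel_right]
  exact hk

theorem conj_sup {A B K : Subgroup Y} {g : Y} (hA : ∀ x ∈ A, g * x * g⁻¹ ∈ K) (hB : ∀ x ∈ B, g * x * g⁻¹ ∈ K) :
    ∀ x ∈ A ⊔ B, g * x * g⁻¹ ∈ K := by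
  intro x hx
  have h1 : A ⊔ B ≤ K.comap (MulAut.conj g).toMonoidHom := sup_le (fun x hx => hA x hx) (fun x hx => hB x hx)
  exact h1 hx

theorem conj_of_comm {K : Subgroup Y} {g x : Y} (hc : ⁅g, x⁆ ∈ K) (hx : x ∈ K) : g * x * g⁻¹ ∈ K := by
  have e : g * x * g⁻¹ = ⁅g, x⁆ * x := by rw [commutatorElement_def]; group
  rw [e]
  exact mul_mem hc hx

theorem conj_of_commute {K : Subgroup Y} {g x : Y} (hc : g * x = x * g) (hx : x ∈ K) : g * x * g⁻¹ ∈ K := by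
  rw [hc, mul_inv_cancel_right]
  exact hx

theorem comm_swap {K : Subgroup Y} {g x : Y} (hc : ⁅g, x⁆ ∈ K) : ⁅x, g⁆ ∈ K := by
  rw [← commutatorElement_inv]
  exact inv_mem hc

theorem eq_one_of_pow {p : ℕ} [Fact p.Prime] {k : ℕ} (hp : Nat.Coprime k p) {K : Subgroup Y} (hK : IsPGroup p K)
    {w : Y} (hw : w ∈ K) (h2 : w ^ k = 1) : w = 1 := by
  obtain ⟨l, hl⟩ := hK ⟨w, hw⟩
  have h3 : w ^ p ^ l = 1 := by simpa using congrArg Subtype.val hl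
  have h4 : orderOf w ∣ Nat.gcd k (p ^ l) :=
    Nat.dvd_gcd (orderOf_dvd_of_pow_eq_one h2) (orderOf_dvd_of_pow_eq_one h3)
  have h5 : Nat.gcd k (p ^ l) = 1 := Nat.Coprime.pow_right l hp
  rw [h5, Nat.dvd_one, orderOf_eq_one_iff] at h4
  exact h4

end Comp


variable {I W Y : Type*} [Fintype I] [DecidableEq I] [Group W] [Group Y] {M : CoxeterMatrix I}
  {cs : CoxeterSystem M W} {A : I → I → ℤ} {h : IsCartan M A} {p : ℕ} {T : Subgroup Y} {n : I → Y}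
  {X : (I → ℤ) → Subgroup Y} {i j : I}

attribute [local irreducible] T5Root.rt

local notation "V0" => X (T5Root.rt i j 1 0)
local notation "V1" => X (T5Root.rt i j 1 1)
local notation "V2" => X (T5Root.rt i j 1 2)
local notation "V3" => X (T5Root.rt i j 1 3)
local notation "ZZ" => X (T5Root.rt i j 2 3)
local notation "GG1" => X (T5Root.rt i j 0 1)
local notation "GM" => X (T5Root.rt i j 0 (-1))
local notation "AM" => X (T5Root.rt i j (-1) 0)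
local notation "NN2" => (X (T5Root.rt i j 1 2) ⊔ X (T5Root.rt i j 1 3) ⊔ X (T5Root.rt i j 2 3))
local notation "KK1" => (X (T5Root.rt i j 0 1) ⊔ (X (T5Root.rt i j 1 2) ⊔ X (T5Root.rt i j 1 3) ⊔ X (T5Root.rt i j 2 3)))
local notation "KK3" => (X (T5Root.rt i j 1 0) ⊔ X (T5Root.rt i j 1 1) ⊔ X (T5Root.rt i j 1 2) ⊔ X (T5Root.rt i j 2 3))

section Sep

variable [Finite W] (R : RGD cs h p T n X) (D : G2 cs h X i j)

include R D

theorem V_N2 {u : Y} (h1 : u ∈ V1) (h2 : u ∈ NN2) : u = 1 := by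
  refine sep R D.ne (-1) 1 1 0 (K := NN2) (L := V1) ?_ ?_ h2 h1
  · refine ⟨{(1, 2), (1, 3), (2, 3)}, ?_, ?_⟩
    · rintro x (rfl | rfl | rfl)
      · exact ⟨D.r12, by norm_num⟩
      · exact ⟨D.r13, by norm_num⟩
      · exact ⟨D.r23, by norm_num⟩
    · have hle := le_iSup (fun x : ({(1, 2), (1, 3), (2, 3)} : Set (ℤ × ℤ)) => X (T5Root.rt i j x.1.1 x.1.2))
      exact sup_le (sup_le (hle ⟨(1, 2), by simp⟩) (hle ⟨(1, 3), by simp⟩)) (hle ⟨(2, 3), by simp⟩)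
  · refine ⟨{(1, 1)}, ?_, ?_⟩
    · rintro x rfl
      exact ⟨D.r11, by norm_num, by norm_num⟩
    · exact le_iSup (fun x : ({(1, 1)} : Set (ℤ × ℤ)) => X (T5Root.rt i j x.1.1 x.1.2)) ⟨(1, 1), by simp⟩

theorem V_K1 {u : Y} (h1 : u ∈ V1) (h2 : u ∈ KK1) : u = 1 := by
  refine sep R D.ne (-1) 1 1 0 (K := KK1) (L := V1) ?_ ?_ h2 h1
  · refine ⟨{(0, 1), (1, 2), (1, 3), (2, 3)}, ?_, ?_⟩
    · rintro x (rfl | rfl | rfl | rfl)
      · exact ⟨D.r01, by norm_num⟩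
      · exact ⟨D.r12, by norm_num⟩
      · exact ⟨D.r13, by norm_num⟩
      · exact ⟨D.r23, by norm_num⟩
    · have hle := le_iSup (fun x : ({(0, 1), (1, 2), (1, 3), (2, 3)} : Set (ℤ × ℤ)) => X (T5Root.rt i j x.1.1 x.1.2))
      exact sup_le (hle ⟨(0, 1), by simp⟩) (sup_le (sup_le (hle ⟨(1, 2), by simp⟩) (hle ⟨(1, 3), by simp⟩))
        (hle ⟨(2, 3), by simp⟩))
  · refine ⟨{(1, 1)}, ?_, ?_⟩
    · rintro x rfl
      exact ⟨D.r11, by norm_num, by norm_num⟩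
    · exact le_iSup (fun x : ({(1, 1)} : Set (ℤ × ℤ)) => X (T5Root.rt i j x.1.1 x.1.2)) ⟨(1, 1), by simp⟩

theorem V_K3 {u : Y} (h1 : u ∈ V3) (h2 : u ∈ KK3) : u = 1 := by
  refine sep R D.ne 3 (-1) 0 1 (K := KK3) (L := V3) ?_ ?_ h2 h1
  · refine ⟨{(1, 0), (1, 1), (1, 2), (2, 3)}, ?_, ?_⟩
    · rintro x (rfl | rfl | rfl | rfl)
      · exact ⟨D.r10, by norm_num⟩
      · exact ⟨D.r11, by norm_num⟩
      · exact ⟨D.r12, by norm_num⟩
      · exact ⟨D.r23, by norm_num⟩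
    · have hle := le_iSup (fun x : ({(1, 0), (1, 1), (1, 2), (2, 3)} : Set (ℤ × ℤ)) => X (T5Root.rt i j x.1.1 x.1.2))
      exact sup_le (sup_le (sup_le (hle ⟨(1, 0), by simp⟩) (hle ⟨(1, 1), by simp⟩)) (hle ⟨(1, 2), by simp⟩))
        (hle ⟨(2, 3), by simp⟩)
  · refine ⟨{(1, 3)}, ?_, ?_⟩
    · rintro x rfl
      exact ⟨D.r13, by norm_num, by norm_num⟩
    · exact le_iSup (fun x : ({(1, 3)} : Set (ℤ × ℤ)) => X (T5Root.rt i j x.1.1 x.1.2)) ⟨(1, 3), by simp⟩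

theorem V_2 {u : Y} (h1 : u ∈ V2) (h2 : u ∈ V1 ⊔ ZZ) : u = 1 := by
  refine sep R D.ne 2 (-1) 0 1 (K := V1 ⊔ ZZ) (L := V2) ?_ ?_ h2 h1
  · refine ⟨{(1, 1), (2, 3)}, ?_, ?_⟩
    · rintro x (rfl | rfl)
      · exact ⟨D.r11, by norm_num⟩
      · exact ⟨D.r23, by norm_num⟩
    · have hle := le_iSup (fun x : ({(1, 1), (2, 3)} : Set (ℤ × ℤ)) => X (T5Root.rt i j x.1.1 x.1.2))
      exact sup_le (hle ⟨(1, 1), by simp⟩) (hle ⟨(2, 3), by simp⟩)
  · refine ⟨{(1, 2)}, ?_, ?_⟩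
    · rintro x rfl
      exact ⟨D.r12, by norm_num, by norm_num⟩
    · exact le_iSup (fun x : ({(1, 2)} : Set (ℤ × ℤ)) => X (T5Root.rt i j x.1.1 x.1.2)) ⟨(1, 2), by simp⟩

theorem V_3Z {u : Y} (h1 : u ∈ V3) (h2 : u ∈ ZZ) : u = 1 := V_K3 R D h1 (Subgroup.mem_sup_right h2)

/-! ### normalisers -/

omit R

omit [Finite W] in
theorem n10_N2 {g : Y} (hg : g ∈ V0) : ∀ x ∈ NN2, g * x * g⁻¹ ∈ NN2 := by
  refine conj_sup (conj_sup (fun x hx => ?_) (fun x hx => ?_)) (fun x hx => ?_)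
  · exact conj_of_commute (D.c10_12 hg hx) (Subgroup.mem_sup_left (Subgroup.mem_sup_left hx))
  · exact conj_of_comm (Subgroup.mem_sup_right (D.k10_13 hg hx)) (Subgroup.mem_sup_left (Subgroup.mem_sup_right hx))
  · exact conj_of_commute (D.c10_23 hg hx) (Subgroup.mem_sup_right hx)

omit [Finite W] in
theorem n11_N2 {g : Y} (hg : g ∈ V1) : ∀ x ∈ NN2, g * x * g⁻¹ ∈ NN2 := by
  refine conj_sup (conj_sup (fun x hx => ?_) (fun x hx => ?_)) (fun x hx => ?_)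
  · exact conj_of_comm (Subgroup.mem_sup_right (D.k11_12 hg hx)) (Subgroup.mem_sup_left (Subgroup.mem_sup_left hx))
  · exact conj_of_commute (D.c11_13 hg hx) (Subgroup.mem_sup_left (Subgroup.mem_sup_right hx))
  · exact conj_of_commute (D.c11_23 hg hx) (Subgroup.mem_sup_right hx)

omit [Finite W] in
theorem n01_N2 {g : Y} (hg : g ∈ GG1) : ∀ x ∈ NN2, g * x * g⁻¹ ∈ NN2 := by
  refine conj_sup (conj_sup (fun x hx => ?_) (fun x hx => ?_)) (fun x hx => ?_)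
  · exact conj_of_comm (Subgroup.mem_sup_left (Subgroup.mem_sup_right (D.k01_12 hg hx)))
      (Subgroup.mem_sup_left (Subgroup.mem_sup_left hx))
  · exact conj_of_commute (D.c01_13 hg hx) (Subgroup.mem_sup_left (Subgroup.mem_sup_right hx))
  · exact conj_of_commute (D.c01_23 hg hx) (Subgroup.mem_sup_right hx)

omit [Finite W] in
theorem nn_N2 {g : Y} (hg : g ∈ AM) : ∀ x ∈ NN2, g * x * g⁻¹ ∈ NN2 := by
  refine conj_sup (conj_sup (fun x hx => ?_) (fun x hx => ?_)) (fun x hx => ?_)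
  · exact conj_of_commute (D.cn_12 hg hx) (Subgroup.mem_sup_left (Subgroup.mem_sup_left hx))
  · exact conj_of_commute (D.cn_13 hg hx) (Subgroup.mem_sup_left (Subgroup.mem_sup_right hx))
  · exact conj_of_comm (Subgroup.mem_sup_left (Subgroup.mem_sup_right (D.kn_23 hg hx))) (Subgroup.mem_sup_right hx)

omit [Finite W] in
theorem n11_K1 {g : Y} (hg : g ∈ V1) : ∀ x ∈ KK1, g * x * g⁻¹ ∈ KK1 := by
  refine conj_sup (fun x hx => ?_) (fun x hx => Subgroup.mem_sup_right (n11_N2 D hg x hx))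
  exact conj_of_comm (Subgroup.mem_sup_right (comm_swap (D.k01_11 hx hg))) (Subgroup.mem_sup_left hx)

omit [Finite W] in
theorem nn_K1 {g : Y} (hg : g ∈ AM) : ∀ x ∈ KK1, g * x * g⁻¹ ∈ KK1 := by
  refine conj_sup (fun x hx => ?_) (fun x hx => Subgroup.mem_sup_right (nn_N2 D hg x hx))
  exact conj_of_commute (D.cn_01 hg hx) (Subgroup.mem_sup_left hx)

omit [Finite W] in
theorem n13_K3 {g : Y} (hg : g ∈ V3) : ∀ x ∈ KK3, g * x * g⁻¹ ∈ KK3 := by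
  refine conj_sup (conj_sup (conj_sup (fun x hx => ?_) (fun x hx => ?_)) (fun x hx => ?_)) (fun x hx => ?_)
  · exact conj_of_comm (Subgroup.mem_sup_right (comm_swap (D.k10_13 hx hg)))
      (Subgroup.mem_sup_left (Subgroup.mem_sup_left (Subgroup.mem_sup_left hx)))
  · exact conj_of_commute (D.c11_13 hx hg).symm
      (Subgroup.mem_sup_left (Subgroup.mem_sup_left (Subgroup.mem_sup_right hx)))
  · exact conj_of_commute (D.c12_13 hx hg).symm (Subgroup.mem_sup_left (Subgroup.mem_sup_right hx))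
  · exact conj_of_commute (D.c13_23 hg hx) (Subgroup.mem_sup_right hx)

omit [Finite W] in
theorem nm_K3 {g : Y} (hg : g ∈ GM) : ∀ x ∈ KK3, g * x * g⁻¹ ∈ KK3 := by
  refine conj_sup (conj_sup (conj_sup (fun x hx => ?_) (fun x hx => ?_)) (fun x hx => ?_)) (fun x hx => ?_)
  · exact conj_of_commute (D.cm_10 hg hx) (Subgroup.mem_sup_left (Subgroup.mem_sup_left (Subgroup.mem_sup_left hx)))
  · exact conj_of_comm (Subgroup.mem_sup_left (Subgroup.mem_sup_left (Subgroup.mem_sup_left (D.km_11 hg hx))))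
      (Subgroup.mem_sup_left (Subgroup.mem_sup_left (Subgroup.mem_sup_right hx)))
  · exact conj_of_comm (D.km_12 hg hx) (Subgroup.mem_sup_left (Subgroup.mem_sup_right hx))
  · exact conj_of_commute (D.cm_23 hg hx) (Subgroup.mem_sup_right hx)

include R

theorem pN2 : CPair NN2 V1 := ⟨fun _ hr k hk => n11_N2 D hr k hk, fun _ h1 h2 => V_N2 R D h1 h2⟩

theorem pK1 : CPair KK1 V1 := ⟨fun _ hr k hk => n11_K1 D hr k hk, fun _ h1 h2 => V_K1 R D h1 h2⟩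

theorem pK3 : CPair KK3 V3 := ⟨fun _ hr k hk => n13_K3 D hr k hk, fun _ h1 h2 => V_K3 R D h1 h2⟩

/-! ### conjugation by elements over the simple reflections -/

omit [Finite W] in
theorem i01 {m v : Y} (hm : Rp cs R.nsys (cs.simple i) m) (hv : v ∈ GG1) : m * v * m⁻¹ ∈ V1 := by
  have := R.conj_mem hm D.r01 hv
  rw [rep_left, D.a1] at this
  simpa using this

omit [Finite W] in
theorem i11 {m v : Y} (hm : Rp cs R.nsys (cs.simple i) m) (hv : v ∈ V1) : m * v * m⁻¹ ∈ GG1 := by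
  have := R.conj_mem hm D.r11 hv
  rw [rep_left, D.a1] at this
  simpa using this

omit [Finite W] in
theorem i13 {m v : Y} (hm : Rp cs R.nsys (cs.simple i) m) (hv : v ∈ V3) : m * v * m⁻¹ ∈ ZZ := by
  have := R.conj_mem hm D.r13 hv
  rw [rep_left, D.a1] at this
  simpa using this

omit [Finite W] in
theorem i12 {m v : Y} (hm : Rp cs R.nsys (cs.simple i) m) (hv : v ∈ V2) : m * v * m⁻¹ ∈ V2 := by
  have := R.conj_mem hm D.r12 hv
  rw [rep_left, D.a1] at this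
  simpa using this

omit [Finite W] in
theorem i23 {m v : Y} (hm : Rp cs R.nsys (cs.simple i) m) (hv : v ∈ ZZ) : m * v * m⁻¹ ∈ V3 := by
  have := R.conj_mem hm D.r23 hv
  rw [rep_left, D.a1] at this
  simpa using this

omit [Finite W] in
theorem j10 {m v : Y} (hm : Rp cs R.nsys (cs.simple j) m) (hv : v ∈ V0) : m * v * m⁻¹ ∈ V3 := by
  have := R.conj_mem hm D.r10 hv
  rw [rep_right, D.a2] at this
  simpa using this

omit [Finite W] in
theorem j13 {m v : Y} (hm : Rp cs R.nsys (cs.simple j) m) (hv : v ∈ V3) : m * v * m⁻¹ ∈ V0 := by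
  have := R.conj_mem hm D.r13 hv
  rw [rep_right, D.a2] at this
  simpa using this

omit [Finite W] in
theorem j11 {m v : Y} (hm : Rp cs R.nsys (cs.simple j) m) (hv : v ∈ V1) : m * v * m⁻¹ ∈ V2 := by
  have := R.conj_mem hm D.r11 hv
  rw [rep_right, D.a2] at this
  simpa using this

omit [Finite W] in
theorem j12 {m v : Y} (hm : Rp cs R.nsys (cs.simple j) m) (hv : v ∈ V2) : m * v * m⁻¹ ∈ V1 := by
  have := R.conj_mem hm D.r12 hv
  rw [rep_right, D.a2] at this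
  simpa using this

omit [Finite W] in
theorem j23 {m v : Y} (hm : Rp cs R.nsys (cs.simple j) m) (hv : v ∈ ZZ) : m * v * m⁻¹ ∈ ZZ := by
  have := R.conj_mem hm D.r23 hv
  rw [rep_right, D.a2] at this
  simpa using this

/-! ### step 1: the action of `V0` on `GG1` -/

omit [Finite W] in
omit R in
theorem k10_01 {u x : Y} (hu : u ∈ V0) (hx : x ∈ GG1) : ⁅u, x⁆ ∈ V1 ⊔ NN2 := comm_swap (D.k01_10 hx hu)

/-- the relation `⁅u, x⁆ ≡ b` modulo `NN2` -/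
theorem E_mul_left {u u' x b b' : Y} (hu : u ∈ V0) (h1 : Cp NN2 V1 ⁅u, x⁆ b) (h2 : Cp NN2 V1 ⁅u', x⁆ b') :
    Cp NN2 V1 ⁅u * u', x⁆ (b' * b) := by
  have e : ⁅u * u', x⁆ = u * ⁅u', x⁆ * u⁻¹ * ⁅u, x⁆ := by simp only [commutatorElement_def]; group
  rw [e]
  refine (pN2 R D).mul ?_ h1
  refine h2.conj' (n10_N2 D hu) fun k hk => ?_
  rw [commutatorElement_eq_one_iff_mul_comm.2 (D.c10_11 hu hk)]
  exact one_mem _

theorem E_mul_right {u x x' b b' : Y} (hx : x ∈ GG1) (h1 : Cp NN2 V1 ⁅u, x⁆ b) (h2 : Cp NN2 V1 ⁅u, x'⁆ b') :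
    Cp NN2 V1 ⁅u, x * x'⁆ (b * b') := by
  have e : ⁅u, x * x'⁆ = ⁅u, x⁆ * (x * ⁅u, x'⁆ * x⁻¹) := by simp only [commutatorElement_def]; group
  rw [e]
  exact (pN2 R D).mul h1 (h2.conj' (n01_N2 D hx) fun k hk => D.k01_11 hx hk)

theorem E_ex {u x : Y} (hu : u ∈ V0) (hx : x ∈ GG1) : ∃ b, Cp NN2 V1 ⁅u, x⁆ b := by
  refine (pN2 R D).ex ?_
  rw [sup_comm]
  exact k10_01 D hu hx

/-- `⁅u, x⁆ ≡ m x m⁻¹` for `m = y u y'` -/
theorem E_mu {u x y y' m : Y} (hu : u ∈ V0) (hx : x ∈ GG1) (hy : y ∈ AM) (hy' : y' ∈ AM)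
    (hm : Rp cs R.nsys (cs.simple i) m) (hme : m = y * u * y') : Cp NN2 V1 ⁅u, x⁆ (m * x * m⁻¹) := by
  obtain ⟨b, hb, ht⟩ := E_ex R D hu hx
  have e1 : y' * x * y'⁻¹ = x := by rw [D.cn_01 hy' hx]; group
  have e2 : y * x * y⁻¹ = x := by rw [D.cn_01 hy hx]; group
  have e3 : m * x * m⁻¹ = y * (⁅u, x⁆ * x) * y⁻¹ := by
    calc m * x * m⁻¹ = y * (u * (y' * x * y'⁻¹) * u⁻¹) * y⁻¹ := by rw [hme]; group
      _ = _ := by rw [e1, commutatorElement_def]; group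
  have h1 : Cp KK1 V1 (⁅u, x⁆ * x) (b * 1) :=
    (pK1 R D).mul ⟨hb, Subgroup.mem_sup_right ht⟩ (Cp.of_K (Subgroup.mem_sup_left hx))
  have h2 : Cp KK1 V1 (m * x * m⁻¹) b := by
    rw [e3]
    rw [mul_one] at h1
    exact h1.conj' (nn_K1 D hy) fun k hk => D.kn_11 hy hk
  have h3 := (pK1 R D).uniq h2 (Cp.of_L (i01 R D hm hx))
  rw [← h3]
  exact ⟨hb, ht⟩

end Sep

section Main

variable [Finite W] [Fact p.Prime] (hp : 5 ≤ p) (R : RGD cs h p T n X) (D : G2 cs h X i j)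

include R in
theorem tor {x y : Y} {z : I → ℤ} (hx : x ∈ T) (hz : IsRoot cs h z) (hy : y ∈ X z) : x * y * x⁻¹ ∈ X z := by
  rw [← R.tor z hz x hx]
  exact conj_mem_cj.2 hy

theorem neg_i : -sr i = T5Root.rt i j (-1) 0 := by rw [← rt_one_zero i j, rt_neg, neg_zero]

theorem neg_j : -sr j = T5Root.rt i j 0 (-1) := by rw [← rt_zero_one i j, rt_neg, neg_zero]

include R in
theorem mu_i {u : Y} (hu : u ∈ V0) (hu1 : u ≠ 1) : ∃ y ∈ AM, ∃ y' ∈ AM, ∃ m, Rp cs R.nsys (cs.simple i) m ∧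
    m = y * u * y' := by
  rw [rt_one_zero] at hu
  obtain ⟨a, ha, b, hb, m, hm, e⟩ := exists_mu_simple R hu hu1
  rw [neg_i (j := j)] at ha hb
  exact ⟨a, ha, b, hb, m, hm, e⟩

include R in
theorem mu_j {u : Y} (hu : u ∈ GG1) (hu1 : u ≠ 1) : ∃ y ∈ GM, ∃ y' ∈ GM, ∃ m, Rp cs R.nsys (cs.simple j) m ∧
    m = y * u * y' := by
  rw [rt_zero_one] at hu
  obtain ⟨a, ha, b, hb, m, hm, e⟩ := exists_mu_simple R hu hu1
  rw [neg_j (i := i)] at ha hb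
  exact ⟨a, ha, b, hb, m, hm, e⟩

include hp in
theorem p_odd : p ≠ 2 := by omega

include hp in
theorem cop6 : Nat.Coprime 6 p := by
  have hpp : p.Prime := Fact.out
  have h1 : Nat.Coprime 2 p := (Nat.coprime_primes Nat.prime_two hpp).2 (by omega)
  have h2 : Nat.Coprime 3 p := (Nat.coprime_primes Nat.prime_three hpp).2 (by omega)
  exact Nat.Coprime.mul_left h1 h2

include R in
theorem mmT {s : I} {m : Y} (hm : Rp cs R.nsys (cs.simple s) m) : m * m ∈ T := by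
  have := hm.mul hm
  rw [cs.simple_mul_simple_self] at this
  exact this.mem_of_one

include R in
theorem minv {s : I} {m : Y} (hm : Rp cs R.nsys (cs.simple s) m) : Rp cs R.nsys (cs.simple s) m⁻¹ := by
  have := hm.inv
  rwa [cs.inv_simple] at this

include R D

/-- `m t m⁻¹ = ⁅u, t⁆` on `V3` -/
theorem mu_13 {u t y y' m : Y} (hu : u ∈ V0) (ht : t ∈ V3) (hy : y ∈ AM) (hy' : y' ∈ AM)
    (hm : Rp cs R.nsys (cs.simple i) m) (hme : m = y * u * y') : m * t * m⁻¹ = ⁅u, t⁆ := by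
  have h1 := D.k10_13 hu ht
  have e1 : y' * t * y'⁻¹ = t := by rw [D.cn_13 hy' ht]; group
  have e2 : y * t * y⁻¹ = t := by rw [D.cn_13 hy ht]; group
  have e3 : m * t * m⁻¹ = ⁅y, ⁅u, t⁆⁆ * ⁅u, t⁆ * t := by
    calc m * t * m⁻¹ = y * (u * (y' * t * y'⁻¹) * u⁻¹) * y⁻¹ := by rw [hme]; group
      _ = y * (⁅u, t⁆ * t) * y⁻¹ := by rw [e1, commutatorElement_def]; group
      _ = ⁅y, ⁅u, t⁆⁆ * ⁅u, t⁆ * (y * t * y⁻¹) := by rw [commutatorElement_def y]; group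
      _ = _ := by rw [e2]
  have h2 : ⁅y, ⁅u, t⁆⁆ ∈ V3 := D.kn_23 hy h1
  have e4 : ⁅y, ⁅u, t⁆⁆ * t = (m * t * m⁻¹) * ⁅u, t⁆⁻¹ := by
    rw [e3, mul_assoc ⁅y, ⁅u, t⁆⁆ ⁅u, t⁆ t, ← D.c13_23 ht h1]; group
  have h3 : (m * t * m⁻¹) * ⁅u, t⁆⁻¹ = 1 :=
    V_3Z R D (by rw [← e4]; exact mul_mem h2 ht) (mul_mem (i13 R D hm ht) (inv_mem h1))
  exact mul_inv_eq_one.1 h3

/-- the elements of the torus -/
theorem exists_tor (hp : 5 ≤ p) : ∃ k ∈ T, ∃ q ∈ T, (∀ x ∈ GG1, k * x * k⁻¹ = x⁻¹) ∧ (∀ x ∈ V1, k * x * k⁻¹ = x⁻¹) ∧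
    (∀ x ∈ V3, k * x * k⁻¹ = x⁻¹) ∧ (∀ x ∈ GG1, q * x * q⁻¹ = x * x) ∧ (∀ x ∈ V1, q * (x * x) * q⁻¹ = x) ∧
    (∀ x ∈ V3, q * x * q⁻¹ = x * x) ∧
    (∀ x ∈ V0, q * x * q⁻¹ * (q * x * q⁻¹) * (q * x * q⁻¹ * (q * x * q⁻¹)) = x) := by
  obtain ⟨u, hu', hu1⟩ := exists_ne_one R i
  have hu : u ∈ V0 := by rwa [rt_one_zero]
  have huu : u * u ≠ 1 := fun h1 => hu1 (eq_one_of_sq (p_odd hp) (R.pgrp i) hu' h1)
  obtain ⟨a, ha, b, hb, m, hm, hme⟩ := mu_i (j := j) R hu hu1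
  obtain ⟨a2, ha2, b2, hb2, m2, hm2, hme2⟩ := mu_i (j := j) R (mul_mem hu hu) huu
  -- inversion
  have inv : ∀ {u a b m : Y}, u ∈ V0 → a ∈ AM → b ∈ AM → Rp cs R.nsys (cs.simple i) m → m = a * u * b →
      ∀ x ∈ GG1, m * m * x * (m * m)⁻¹ = x⁻¹ := by
    intro u a b m hu ha hb hm hme x hx
    have h1 := E_mu R D hu hx ha hb hm hme
    have h2 := E_mu (m := m⁻¹) R D (inv_mem hu) hx (inv_mem hb) (inv_mem ha) (minv R hm) (by rw [hme]; group)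
    have h3 := E_mul_left R D (inv_mem hu) h2 h1
    rw [inv_mul_cancel, commutatorElement_one_left, inv_inv] at h3
    have h4 := (pN2 R D).uniq h3 (Cp.of_K (one_mem _))
    have h5 : m * x * m⁻¹ = (m⁻¹ * x * m)⁻¹ := eq_inv_of_mul_eq_one_left h4
    calc m * m * x * (m * m)⁻¹ = m * (m * x * m⁻¹) * m⁻¹ := by group
      _ = x⁻¹ := by rw [h5]; group
  have inv' : ∀ {u a b m : Y}, u ∈ V0 → a ∈ AM → b ∈ AM → Rp cs R.nsys (cs.simple i) m → m = a * u * b →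
      ∀ x ∈ V1, m * m * x * (m * m)⁻¹ = x⁻¹ := by
    intro u a b m hu ha hb hm hme x hx
    have h1 := inv hu ha hb hm hme _ (i11 R D hm hx)
    calc m * m * x * (m * m)⁻¹ = m⁻¹ * (m * m * (m * x * m⁻¹) * (m * m)⁻¹) * m := by group
      _ = x⁻¹ := by rw [h1]; group
  have m2x : ∀ x ∈ GG1, m2 * x * m2⁻¹ = m * (x * x) * m⁻¹ := by
    intro x hx
    have h1 := E_mu R D hu hx ha hb hm hme
    have h2 := E_mul_left R D hu h1 h1
    have h3 := E_mu R D (mul_mem hu hu) hx ha2 hb2 hm2 hme2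
    rw [(pN2 R D).uniq h3 h2]; group
  have hT : m⁻¹ * m2 ∈ T := by
    have := (minv R hm).mul hm2
    rw [cs.simple_mul_simple_self] at this
    exact this.mem_of_one
  have hqG : ∀ x ∈ GG1, m⁻¹ * m2 * x * (m⁻¹ * m2)⁻¹ = x * x := by
    intro x hx
    calc m⁻¹ * m2 * x * (m⁻¹ * m2)⁻¹ = m⁻¹ * (m2 * x * m2⁻¹) * m := by group
      _ = x * x := by rw [m2x x hx]; group
  have hqV : ∀ x ∈ V1, m⁻¹ * m2 * (x * x) * (m⁻¹ * m2)⁻¹ = x := by
    intro y hy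
    have h1 : m2⁻¹ * y⁻¹ * m2 ∈ GG1 := by
      have := i11 R D (minv R hm2) (inv_mem hy)
      rwa [inv_inv] at this
    set x := m2⁻¹ * y⁻¹ * m2 with hx
    have h2 := m2x x h1
    have h3 : m2 * y * m2⁻¹ = x := by
      have h4 := inv' (mul_mem hu hu) ha2 hb2 hm2 hme2 y hy
      calc m2 * y * m2⁻¹ = m2⁻¹ * (m2 * m2 * y * (m2 * m2)⁻¹) * m2 := by group
        _ = x := by rw [h4]
    have h5 : m2 * x * m2⁻¹ = y⁻¹ := by rw [hx]; group
    rw [h5] at h2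
    have h6 : x * x = m⁻¹ * y⁻¹ * m := by rw [h2]; group
    have h7 := inv' hu ha hb hm hme y hy
    calc m⁻¹ * m2 * (y * y) * (m⁻¹ * m2)⁻¹ = m⁻¹ * ((m2 * y * m2⁻¹) * (m2 * y * m2⁻¹)) * m := by group
      _ = m⁻¹ * (m⁻¹ * y⁻¹ * m) * m := by rw [h3, h6]
      _ = (m * m)⁻¹ * y⁻¹ * (m * m) := by group
      _ = y := by rw [← h7]; group
  have hV3 : ∀ t ∈ V3, m * m * t * (m * m)⁻¹ = t⁻¹ := by
    intro t ht
    have h1 := mu_13 R D hu ht ha hb hm hme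
    have h2 := mu_13 (m := m⁻¹) R D (inv_mem hu) ht (inv_mem hb) (inv_mem ha) (minv R hm) (by rw [hme]; group)
    rw [inv_inv] at h2
    have h3 : ⁅u⁻¹, t⁆ = ⁅u, t⁆⁻¹ := by
      have h4 := D.c10_23 hu (D.k10_13 hu ht)
      calc ⁅u⁻¹, t⁆ = u⁻¹ * ⁅u, t⁆⁻¹ * u := by simp only [commutatorElement_def]; group
        _ = (⁅u, t⁆ * u)⁻¹ * u := by group
        _ = _ := by rw [← h4]; group
    rw [h3, ← h1] at h2
    calc m * m * t * (m * m)⁻¹ = m * (m * t * m⁻¹) * m⁻¹ := by group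
      _ = m * (m⁻¹ * t * m)⁻¹ * m⁻¹ := by rw [h2, inv_inv]
      _ = t⁻¹ := by group
  have hqV3 : ∀ t ∈ V3, m⁻¹ * m2 * t * (m⁻¹ * m2)⁻¹ = t * t := by
    intro t ht
    have h1 := mu_13 R D hu ht ha hb hm hme
    have h2 := mu_13 R D (mul_mem hu hu) ht ha2 hb2 hm2 hme2
    have h3 : ⁅u * u, t⁆ = ⁅u, t⁆ * ⁅u, t⁆ := by
      have h4 := D.c10_23 hu (D.k10_13 hu ht)
      calc ⁅u * u, t⁆ = u * ⁅u, t⁆ * u⁻¹ * ⁅u, t⁆ := by simp only [commutatorElement_def]; group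
        _ = _ := by rw [h4]; group
    rw [h3, ← h1] at h2
    calc m⁻¹ * m2 * t * (m⁻¹ * m2)⁻¹ = m⁻¹ * (m2 * t * m2⁻¹) * m := by group
      _ = t * t := by rw [h2]; group
  refine ⟨m * m, mmT R hm, m⁻¹ * m2, hT, inv hu ha hb hm hme, inv' hu ha hb hm hme, hV3, hqG, hqV, hqV3, ?_⟩
  intro v hv
  generalize m⁻¹ * m2 = q at *
  have hv' : q * v * q⁻¹ ∈ V0 := tor R hT D.r10 hv
  set v' := q * v * q⁻¹ with hv'def
  by_contra hne
  have hne' : v' * v' * (v' * v') * v⁻¹ ≠ 1 := fun h1 => hne (mul_inv_eq_one.1 h1)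
  have hvm : v' * v' * (v' * v') * v⁻¹ ∈ V0 := mul_mem (mul_mem (mul_mem hv' hv') (mul_mem hv' hv')) (inv_mem hv)
  obtain ⟨a3, ha3, b3, hb3, m3, hm3, hme3⟩ := mu_i (j := j) R hvm hne'
  obtain ⟨x, hx', hx1⟩ := exists_ne_one R j
  have hx : x ∈ GG1 := by rwa [rt_zero_one]
  obtain ⟨y, hy⟩ := E_ex R D hv hx
  obtain ⟨y1, hy1⟩ := E_ex R D hv' hx
  have h1 : Cp NN2 V1 ⁅v', x * x⁆ (q * y * q⁻¹) := by
    have h2 := hy.conj (g := q) (fun k hk => conj_sup (K := NN2) (conj_sup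
      (fun x hx => Subgroup.mem_sup_left (Subgroup.mem_sup_left (tor R hT D.r12 hx)))
      (fun x hx => Subgroup.mem_sup_left (Subgroup.mem_sup_right (tor R hT D.r13 hx))))
      (fun x hx => Subgroup.mem_sup_right (tor R hT D.r23 hx)) k hk) (fun k hk => tor R hT D.r11 hk)
    have e : q * ⁅v, x⁆ * q⁻¹ = ⁅v', x * x⁆ := by
      rw [← hqG x hx, hv'def]; simp only [commutatorElement_def]; group
    rwa [e] at h2
  have h2 : q * y * q⁻¹ = y1 * y1 := (pN2 R D).uniq h1 (E_mul_right R D hx hy1 hy1)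
  have h3 := E_mul_left R D hv' hy1 hy1
  have h4 := E_mul_left R D (mul_mem hv' hv') h3 h3
  have h5 : y1 * y1 * (y1 * y1) = y := by
    calc y1 * y1 * (y1 * y1) = q * (y * y) * q⁻¹ := by rw [← h2]; group
      _ = y := hqV y hy.1
  rw [h5] at h4
  obtain ⟨y2, hy2⟩ := E_ex R D (inv_mem hv) hx
  have h6 := E_mul_left R D (inv_mem hv) hy2 hy
  rw [inv_mul_cancel, commutatorElement_one_left] at h6
  have h7 : y * y2 = 1 := (pN2 R D).uniq h6 (Cp.of_K (one_mem _))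
  have h8 := E_mul_left R D (mul_mem (mul_mem hv' hv') (mul_mem hv' hv')) h4 hy2
  have h9 := E_mu R D hvm hx ha3 hb3 hm3 hme3
  have h10 : y2 * y = 1 := by rw [eq_inv_of_mul_eq_one_left h7, mul_inv_cancel]
  have h11 := (pN2 R D).uniq h9 h8
  rw [h10] at h11
  apply hx1
  calc x = m3⁻¹ * (m3 * x * m3⁻¹) * m3 := by group
    _ = 1 := by rw [h11]; group

/-- the torus normalises `KK3` -/
theorem tor_K3 {q : Y} (hq : q ∈ T) : ∀ k ∈ KK3, q * k * q⁻¹ ∈ KK3 :=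
  conj_sup (K := KK3) (conj_sup (conj_sup
    (fun _ hx => Subgroup.mem_sup_left (Subgroup.mem_sup_left (Subgroup.mem_sup_left (tor R hq D.r10 hx))))
    (fun _ hx => Subgroup.mem_sup_left (Subgroup.mem_sup_left (Subgroup.mem_sup_right (tor R hq D.r11 hx)))))
    (fun _ hx => Subgroup.mem_sup_left (Subgroup.mem_sup_right (tor R hq D.r12 hx))))
    (fun _ hx => Subgroup.mem_sup_right (tor R hq D.r23 hx))

/-- **Step 2**: an element of `GG1` commuting with `V2` is trivial. -/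
theorem eq_one_of_c12 (hp : 5 ≤ p) {w : Y} (hw : w ∈ GG1) (hc : ∀ c ∈ V2, w * c = c * w) : w = 1 := by
  obtain ⟨-, -, q, hq, -, -, -, hqG, hqV, hqV3, hq0⟩ := exists_tor R D hp
  have P3 := pK3 R D
  have v0K : ∀ {v : Y}, v ∈ V0 → v ∈ KK3 := fun hv =>
    Subgroup.mem_sup_left (Subgroup.mem_sup_left (Subgroup.mem_sup_left hv))
  have v1K : ∀ {v : Y}, v ∈ V1 → v ∈ KK3 := fun hv =>
    Subgroup.mem_sup_left (Subgroup.mem_sup_left (Subgroup.mem_sup_right hv))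
  have v2K : ∀ {v : Y}, v ∈ V2 → v ∈ KK3 := fun hv => Subgroup.mem_sup_left (Subgroup.mem_sup_right hv)
  have vZK : ∀ {v : Y}, v ∈ ZZ → v ∈ KK3 := fun hv => Subgroup.mem_sup_right hv
  -- `w` commutes with `NN2`
  have hcN : ∀ t ∈ NN2, w * t * w⁻¹ = t := by
    intro t ht
    have h1 : NN2 ≤ Subgroup.centralizer {w} := by
      refine sup_le (sup_le (fun x hx => ?_) (fun x hx => ?_)) (fun x hx => ?_) <;>
        rw [Subgroup.mem_centralizer_singleton_iff]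
      · exact (hc x hx).symm
      · exact (D.c01_13 hw hx).symm
      · exact (D.c01_23 hw hx).symm
    have h2 := h1 ht
    rw [Subgroup.mem_centralizer_singleton_iff] at h2
    rw [← h2]; group
  have N2K : NN2 ≤ KK3 ⊔ V3 := sup_le (sup_le (fun x hx => Subgroup.mem_sup_left (v2K hx))
    (fun x hx => Subgroup.mem_sup_right hx)) (fun x hx => Subgroup.mem_sup_left (vZK hx))
  have ex1 : ∀ {w : Y}, w ∈ GG1 → ∀ b ∈ V1, ∃ s, Cp KK3 V3 (w * b * w⁻¹) s := fun {w} hw b hb => by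
    refine P3.ex ?_
    have e : w * b * w⁻¹ = ⁅w, b⁆ * b := by rw [commutatorElement_def]; group
    rw [e]
    exact mul_mem (N2K (D.k01_11 hw hb)) (Subgroup.mem_sup_left (v1K hb))
  have ex0 : ∀ {w : Y}, w ∈ GG1 → ∀ v ∈ V0, ∃ s, Cp KK3 V3 (w * v * w⁻¹) s := fun {w} hw v hv => by
    refine P3.ex ?_
    have e : w * v * w⁻¹ = ⁅w, v⁆ * v := by rw [commutatorElement_def]; group
    rw [e]
    refine mul_mem ?_ (Subgroup.mem_sup_left (v0K hv))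
    exact (sup_le (fun x hx => Subgroup.mem_sup_left (v1K hx)) N2K : V1 ⊔ NN2 ≤ KK3 ⊔ V3) (D.k01_10 hw hv)
  have qw : q * w * q⁻¹ = w * w := hqG w hw
  -- `β₃ (w, b) = 1`
  have B3 : ∀ b ∈ V1, Cp KK3 V3 (w * b * w⁻¹) 1 := by
    intro b hb
    obtain ⟨s, hs⟩ := ex1 hw b hb
    have h1 : Cp KK3 V3 (w * w * b * (w * w)⁻¹) (s * s) := by
      have h2 : Cp KK3 V3 ⁅w, b⁆ s := by
        have := P3.mul hs (P3.inv (Cp.of_K (L := V3) (v1K hb)))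
        rw [inv_one, mul_one] at this
        have e : w * b * w⁻¹ * b⁻¹ = ⁅w, b⁆ := by rw [commutatorElement_def]
        rwa [e] at this
      have e : w * w * b * (w * w)⁻¹ = ⁅w, b⁆ * (w * b * w⁻¹) := by
        calc w * w * b * (w * w)⁻¹ = (w * ⁅w, b⁆ * w⁻¹) * (w * b * w⁻¹) := by
              rw [commutatorElement_def]; group
          _ = _ := by rw [hcN _ (D.k01_11 hw hb)]
      rw [e]
      exact P3.mul h2 hs
    have h2 : Cp KK3 V3 (w * w * (q * b * q⁻¹) * (w * w)⁻¹) (s * s) := by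
      have h3 := hs.conj (g := q) (tor_K3 R D hq) (fun k hk => tor R hq D.r13 hk)
      rw [hqV3 s hs.1] at h3
      have e : q * (w * b * w⁻¹) * q⁻¹ = w * w * (q * b * q⁻¹) * (w * w)⁻¹ := by rw [← qw]; group
      rwa [e] at h3
    have h3 := P3.mul h2 h2
    have e : w * w * (q * b * q⁻¹) * (w * w)⁻¹ * (w * w * (q * b * q⁻¹) * (w * w)⁻¹) =
        w * w * b * (w * w)⁻¹ := by
      calc w * w * (q * b * q⁻¹) * (w * w)⁻¹ * (w * w * (q * b * q⁻¹) * (w * w)⁻¹) =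
            w * w * (q * (b * b) * q⁻¹) * (w * w)⁻¹ := by group
        _ = _ := by rw [hqV b hb]
    rw [e] at h3
    have h4 : s * s = s * s * (s * s) := P3.uniq h1 h3
    have h5 : s * s = 1 := left_eq_mul.1 h4
    have h6 : s = 1 := eq_one_of_sq (p_odd hp) (R.pgrp' D.r13) hs.1 h5
    rwa [h6] at hs
  by_contra hw1
  have hw2 : w * w ≠ 1 := fun h1 => hw1 (eq_one_of_sq (p_odd hp) (R.pgrp' D.r01) hw h1)
  -- `α₃ (w, v) = m v m⁻¹`
  have A3 : ∀ {w a b m : Y}, w ∈ GG1 → a ∈ GM → b ∈ GM → Rp cs R.nsys (cs.simple j) m → m = a * w * b →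
      ∀ v ∈ V0, Cp KK3 V3 (w * v * w⁻¹) (m * v * m⁻¹) := by
    intro w a b m hw ha hb hm hme v hv
    obtain ⟨r, hr⟩ := ex0 hw v hv
    have e1 : b * v * b⁻¹ = v := by rw [D.cm_10 hb hv]; group
    have e2 : m * v * m⁻¹ = a * (w * v * w⁻¹) * a⁻¹ := by
      calc m * v * m⁻¹ = a * (w * (b * v * b⁻¹) * w⁻¹) * a⁻¹ := by rw [hme]; group
        _ = _ := by rw [e1]
    have h1 : Cp KK3 V3 (m * v * m⁻¹) r := by
      rw [e2]
      exact hr.conj' (nm_K3 D ha) fun k hk => D.km_13 ha hk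
    rw [P3.uniq (Cp.of_L (j10 R D hm hv)) h1]
    exact hr
  obtain ⟨a, ha, b, hb, m, hm, hme⟩ := mu_j (i := i) R hw hw1
  obtain ⟨a2, ha2, b2, hb2, m2, hm2, hme2⟩ := mu_j (i := i) R (mul_mem hw hw) hw2
  obtain ⟨v, hv', hv1⟩ := exists_ne_one R i
  have hv : v ∈ V0 := by rwa [rt_one_zero]
  have h1 := A3 hw ha hb hm hme v hv
  set r := m * v * m⁻¹ with hr
  -- the square
  have h2 : Cp KK3 V3 (w * w * v * (w * w)⁻¹) (r * r) := by
    have h3 := D.k01_10 hw hv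
    rw [sup_comm] at h3
    obtain ⟨bb, hbb, ht⟩ := (pN2 R D).ex h3
    -- `⁅w, v⁆ = t bb`
    have e1 : w * v * w⁻¹ = (⁅w, v⁆ * bb⁻¹) * bb * v := by rw [commutatorElement_def]; group
    set t := ⁅w, v⁆ * bb⁻¹ with htdef
    have h4 : Cp KK3 V3 t r := by
      have h5 : t = w * v * w⁻¹ * (bb * v)⁻¹ := by rw [e1]; group
      have h6 := P3.mul h1 (P3.inv (Cp.of_K (L := V3) (mul_mem (v1K hbb) (v0K hv))))
      rw [inv_one, mul_one] at h6
      rwa [h5]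
    have e2 : w * w * v * (w * w)⁻¹ = t * (w * bb * w⁻¹) * (w * v * w⁻¹) := by
      calc w * w * v * (w * w)⁻¹ = w * (w * v * w⁻¹) * w⁻¹ := by group
        _ = w * (t * bb * v) * w⁻¹ := by rw [e1]
        _ = (w * t * w⁻¹) * (w * bb * w⁻¹) * (w * v * w⁻¹) := by group
        _ = _ := by rw [hcN t ht]
    rw [e2]
    have := P3.mul (P3.mul h4 (B3 bb hbb)) h1
    rwa [mul_one] at this
  have h3 : Cp KK3 V3 (w * w * (q * v * q⁻¹) * (w * w)⁻¹) (r * r) := by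
    have h4 := h1.conj (g := q) (tor_K3 R D hq) (fun k hk => tor R hq D.r13 hk)
    rw [hqV3 r h1.1] at h4
    have e : q * (w * v * w⁻¹) * q⁻¹ = w * w * (q * v * q⁻¹) * (w * w)⁻¹ := by rw [← qw]; group
    rwa [e] at h4
  have h4 := P3.mul h3 h3
  have h5 := P3.mul h4 h4
  have e : w * w * (q * v * q⁻¹) * (w * w)⁻¹ * (w * w * (q * v * q⁻¹) * (w * w)⁻¹) *
      (w * w * (q * v * q⁻¹) * (w * w)⁻¹ * (w * w * (q * v * q⁻¹) * (w * w)⁻¹)) =
      w * w * v * (w * w)⁻¹ := by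
    calc w * w * (q * v * q⁻¹) * (w * w)⁻¹ * (w * w * (q * v * q⁻¹) * (w * w)⁻¹) *
        (w * w * (q * v * q⁻¹) * (w * w)⁻¹ * (w * w * (q * v * q⁻¹) * (w * w)⁻¹)) =
          w * w * (q * v * q⁻¹ * (q * v * q⁻¹) * (q * v * q⁻¹ * (q * v * q⁻¹))) * (w * w)⁻¹ := by group
      _ = _ := by rw [hq0 v hv]
  rw [e] at h5
  have h6 := P3.uniq h2 h5
  have h7 : r ^ 6 = 1 := by
    have h8 : r * r * (r ^ 6) = r * r := by
      calc r * r * (r ^ 6) = r * r * (r * r) * (r * r * (r * r)) := by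
            simp only [pow_succ, pow_zero, one_mul, mul_assoc]
        _ = r * r := h6.symm
    exact mul_eq_left.1 h8
  have h8 : r = 1 := eq_one_of_pow (cop6 hp) (R.pgrp' D.r13) h1.1 h7
  apply hv1
  calc v = m⁻¹ * r * m := by rw [hr]; group
    _ = 1 := by rw [h8]; group

end Main

end Cfsg.Agent.H798.T5GThree
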