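import Mathlib
import Cfsg.Agent.H798.T5GThree

/-!
T5, defining characteristic, part 8 (helper798): `bd_of_G2` : the bond property of a triple bond (`G₂(q)`, `³D₄(q)`),
`p ≥ 5`.
-/

set_option autoImplicit false
set_option linter.unusedSectionVars false
set_option maxHeartbeats 400000

namespace Cfsg.Agent.H798.T5GFour

open CoxeterSystem Cfsg.Agent.ChevalleyStructure.CoxeterGeom Cfsg.Agent.Tits.Roots Cfsg.Agent.Tits.Core
  Cfsg.Agent.Tits.RootComb Cfsg.Agent.Tits.Exchange Cfsg.Agent.Nodes.Reps Cfsg.Agent.Nodes.BNOf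
  Cfsg.Agent.Nodes.StabComb Cfsg.Agent.Nodes.Bruhat Cfsg.Agent.Nodes.OppDec Cfsg.Agent.Nodes.LeviDec
  Cfsg.Agent.Nodes.Coroot Cfsg.Agent.KFacts.RgdSL Cfsg.Agent.KFacts.RgdBorelTits Cfsg.Agent.KFacts.RgdFilt
  Cfsg.Agent.H533.T5 Cfsg.Agent.H798.T5Geo Cfsg.Agent.H798.T5Root Cfsg.Agent.H798.T5Bond Cfsg.Agent.H798.T5BTwo
  Cfsg.Agent.H798.T5GTwo Cfsg.Agent.H798.T5GThree
open scoped commutatorElement

variable {I W Y : Type*} [Fintype I] [DecidableEq I] [Group W] [Group Y] {M : CoxeterMatrix I}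
  {cs : CoxeterSystem M W} {A : I → I → ℤ} {h : IsCartan M A} {p : ℕ} {T : Subgroup Y} {n : I → Y}
  {X : (I → ℤ) → Subgroup Y} {i j : I}

attribute [local irreducible] T5Root.rt

local notation "V0" => X (T5Root.rt i j 1 0)
local notation "V1" => X (T5Root.rt i j 1 1)
local notation "V2" => X (T5Root.rt i j 1 2)
local notation "V3" => X (T5Root.rt i j 1 3)
local notation "ZZ" => X (T5Root.rt i j 2 3)
local notation "GG1" => X (T5Root.rt i j 0 1)
local notation "GM" => X (T5Root.rt i j 0 (-1))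
local notation "AM" => X (T5Root.rt i j (-1) 0)
local notation "NN2" => (X (T5Root.rt i j 1 2) ⊔ X (T5Root.rt i j 1 3) ⊔ X (T5Root.rt i j 2 3))
local notation "KK3" => (X (T5Root.rt i j 1 0) ⊔ X (T5Root.rt i j 1 1) ⊔ X (T5Root.rt i j 1 2) ⊔ X (T5Root.rt i j 2 3))

/-- the elements all of whose `P_j`-conjugates lie in `V_i ∩ V_j` -/
def Ball (cs : CoxeterSystem M W) (h : IsCartan M A) (T : Subgroup Y) (X : (I → ℤ) → Subgroup Y) (i j : I) (e : Y) :
    Prop := ∀ g ∈ PJ cs h T X {j}, g * e * g⁻¹ ∈ VJ cs h X {i} ∧ g * e * g⁻¹ ∈ VJ cs h X {j}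

theorem Ball.conj {e g : Y} (he : Ball cs h T X i j e) (hg : g ∈ PJ cs h T X {j}) :
    Ball cs h T X i j (g * e * g⁻¹) := by
  intro r hr
  have e1 : r * (g * e * g⁻¹) * r⁻¹ = (r * g) * e * (r * g)⁻¹ := by group
  rw [e1]
  exact he _ (mul_mem hr hg)

section Main

variable [Finite W] [Finite Y] [Fact p.Prime] (R : RGD cs h p T n X) (D : G2 cs h X i j)
  (hall : ∀ k, k = i ∨ k = j)

include R D hall

theorem shape {e : Y} (he : Ball cs h T X i j e) : e ∈ V1 ⊔ V2 ⊔ ZZ := by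
  have hij := D.ne
  have hnj : n j ∈ PJ cs h T X {j} := LJ_le_PJ (n_mem_LJ R rfl)
  have hni : n i ∈ PJ cs h T X {i} := LJ_le_PJ (n_mem_LJ R rfl)
  have h1 : e ∈ VJ cs h X {i} := by
    have := (he 1 (one_mem _)).1
    rwa [one_mul, inv_one, mul_one] at this
  have h2 : n i * e * (n i)⁻¹ ∈ VJ cs h X {i} := (P_conj_V R hni).2 h1
  have h3 : n i * (n j * e * (n j)⁻¹) * (n i)⁻¹ ∈ VJ cs h X {i} := (P_conj_V R hni).2 (he _ hnj).1
  have hk : Rp cs R.nsys (cs.simple i * cs.simple j * cs.simple i) (n i * n j * (n i)⁻¹) := by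
    have := ((rp_simple cs R.nsys i).mul (rp_simple cs R.nsys j)).mul (rp_simple cs R.nsys i).inv
    rwa [cs.inv_simple] at this
  have h4 : n i * n j * (n i)⁻¹ * (n i * e * (n i)⁻¹) * (n i * n j * (n i)⁻¹)⁻¹ ∈ RGD.B cs h T X := by
    have e1 : n i * n j * (n i)⁻¹ * (n i * e * (n i)⁻¹) * (n i * n j * (n i)⁻¹)⁻¹ =
        n i * (n j * e * (n j)⁻¹) * (n i)⁻¹ := by group
    rw [e1]
    exact VJ_le_B _ h3
  have h5 := Nodes.Slope.mem_of_conj_mem_B R hk.inv (VJ_le_U _ h2) (by rwa [inv_inv])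
  have h6 : (n i)⁻¹ * (n i * e * (n i)⁻¹) * n i ∈
      RGD.Sup X {x | x = T5Root.rt i j 1 1 ∨ x = T5Root.rt i j 1 2 ∨ x = T5Root.rt i j 2 3} := by
    refine conj_mem_Sup' R (rp_simple cs R.nsys i) (fun x hx => hx.1) (fun x hx => ?_) h5
    obtain ⟨hx1, hx0, hx2⟩ := hx
    rw [inv_inv] at hx2
    have hx3 : x = T5Root.rt i j (x i) (x j) := eq_rt hij fun k hki hkj => by
      rcases hall k with h7 | h7
      · exact absurd h7 hki
      · exact absurd h7 hkj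
    rw [hx3] at hx1 hx0 hx2 ⊢
    generalize x i = a at *
    generalize x j = g at *
    rw [rep_mul_apply, rep_mul_apply, rep_left, rep_right, rep_left, rt_nonneg hij, D.a1, D.a2] at hx2
    rw [rt_nonneg hij] at hx0
    rw [cs.inv_simple, rep_left, D.a1]
    rcases D.lst hx1 with h7 | h7 | h7 | h7 | h7 | h7 | h7 | h7 | h7 | h7 | h7 | h7
    · exfalso; omega
    · exfalso; omega
    · left; rw [h7.1, h7.2]; norm_num
    · exfalso; omega
    · exfalso; omega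
    · exfalso; omega
    · right; left; rw [h7.1, h7.2]; norm_num
    · exfalso; omega
    · right; right; rw [h7.1, h7.2]; norm_num
    · exfalso; omega
    · exfalso; omega
    · exfalso; omega
  have h7 : (n i)⁻¹ * (n i * e * (n i)⁻¹) * n i = e := by group
  rw [h7] at h6
  refine (RGD.Sup_le fun x hx => ?_ : RGD.Sup X {x | x = T5Root.rt i j 1 1 ∨ x = T5Root.rt i j 1 2 ∨
    x = T5Root.rt i j 2 3} ≤ _) h6
  rcases hx with rfl | rfl | rfl
  · exact le_trans le_sup_left le_sup_left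
  · exact le_trans le_sup_right le_sup_left
  · exact le_sup_right

omit hall in
omit [Finite Y] in
theorem shape_split {e : Y} (he : e ∈ V1 ⊔ V2 ⊔ ZZ) : ∃ b ∈ V1, ∃ c ∈ V2, ∃ z ∈ ZZ, e = c * z * b := by
  have hP : CPair (V2 ⊔ ZZ) V1 := by
    constructor
    · intro r hr
      refine conj_sup (fun x hx => ?_) (fun x hx => ?_)
      · exact conj_of_comm (Subgroup.mem_sup_right (D.k11_12 hr hx)) (Subgroup.mem_sup_left hx)
      · exact conj_of_commute (D.c11_23 hr hx) (Subgroup.mem_sup_right hx)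
    · intro r hr hr'
      exact V_N2 R D hr ((sup_le_sup_right le_sup_left _ : V2 ⊔ ZZ ≤ NN2) hr')
  have h1 : e ∈ (V2 ⊔ ZZ) ⊔ V1 := by
    rwa [sup_comm, ← sup_assoc]
  obtain ⟨b, hb, hk⟩ := hP.ex h1
  obtain ⟨c, hc, z, hz, e1⟩ := split_comm (fun x hx y hy => D.c12_23 hx hy) hk
  exact ⟨b, hb, c, hc, z, hz, by rw [← e1]; group⟩

/-- the `V2`-component of an element of the ball is trivial -/
theorem c_eq_one (hp : 5 ≤ p) {b c z : Y} (hb : b ∈ V1) (hc : c ∈ V2) (hz : z ∈ ZZ)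
    (he : Ball cs h T X i j (c * z * b)) : c = 1 := by
  obtain ⟨k, hk, -, -, hkG, hkV, hkV3, -⟩ := exists_tor R D hp
  have P3 := pK3 R D
  have v1K : ∀ {v : Y}, v ∈ V1 → v ∈ KK3 := fun hv =>
    Subgroup.mem_sup_left (Subgroup.mem_sup_left (Subgroup.mem_sup_right hv))
  have v2K : ∀ {v : Y}, v ∈ V2 → v ∈ KK3 := fun hv => Subgroup.mem_sup_left (Subgroup.mem_sup_right hv)
  have vZK : ∀ {v : Y}, v ∈ ZZ → v ∈ KK3 := fun hv => Subgroup.mem_sup_right hv
  have N2K : NN2 ≤ KK3 ⊔ V3 := sup_le (sup_le (fun x hx => Subgroup.mem_sup_left (v2K hx))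
    (fun x hx => Subgroup.mem_sup_right hx)) (fun x hx => Subgroup.mem_sup_left (vZK hx))
  have hSK : V1 ⊔ V2 ⊔ ZZ ≤ KK3 := sup_le (sup_le (fun _ hx => v1K hx) (fun _ hx => v2K hx)) (fun _ hx => vZK hx)
  have ex1 : ∀ {w : Y}, w ∈ GG1 → ∀ b ∈ V1, ∃ s, Cp KK3 V3 (w * b * w⁻¹) s := fun {w} hw b hb => by
    refine P3.ex ?_
    have e : w * b * w⁻¹ = ⁅w, b⁆ * b := by rw [commutatorElement_def]; group
    rw [e]
    exact mul_mem (N2K (D.k01_11 hw hb)) (Subgroup.mem_sup_left (v1K hb))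
  have hGP : ∀ {u : Y}, u ∈ GG1 → u ∈ PJ cs h T X {j} := fun {u} hu => by
    rw [rt_zero_one] at hu
    exact LJ_le_PJ (X_le_LJ (PosJ_subset {j} (sr_mem_PosJ rfl)) hu)
  -- the relation
  have rel : ∀ {u s : Y}, u ∈ GG1 → Cp KK3 V3 (u * b * u⁻¹) s → ⁅u, c⁆ * s = 1 := by
    intro u s hu hs
    have h1 := shape R D hall (he.conj (hGP hu))
    have h2 : Cp KK3 V3 (u * (c * z * b) * u⁻¹) 1 := Cp.of_K (hSK h1)
    have h3 : ⁅u, c⁆ ∈ V3 := D.k01_12 hu hc
    have h4 : Cp KK3 V3 (u * c * u⁻¹) ⁅u, c⁆ := by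
      have e1 : u * c * u⁻¹ = ⁅u, c⁆ * c := by rw [commutatorElement_def]; group
      rw [e1]
      have := P3.mul (Cp.of_L (K := KK3) h3) (Cp.of_K (L := V3) (v2K hc))
      rwa [mul_one] at this
    have h5 : Cp KK3 V3 (u * z * u⁻¹) 1 := by
      have e1 : u * z * u⁻¹ = z := by rw [D.c01_23 hu hz]; group
      rw [e1]
      exact Cp.of_K (vZK hz)
    have h6 := P3.mul (P3.mul h4 h5) hs
    have e1 : u * c * u⁻¹ * (u * z * u⁻¹) * (u * b * u⁻¹) = u * (c * z * b) * u⁻¹ := by group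
    rw [e1, mul_one] at h6
    exact P3.uniq h6 h2
  have hcomm : ∀ u ∈ GG1, ⁅u, c⁆ = 1 := by
    intro u hu
    obtain ⟨s, hs⟩ := ex1 hu b hb
    have h1 := rel hu hs
    have h2 : Cp KK3 V3 (u⁻¹ * b * u⁻¹⁻¹) s := by
      have h3 := hs.conj (g := k) (tor_K3 R D hk) (fun x hx => tor R hk D.r13 hx)
      rw [hkV3 s hs.1] at h3
      have e1 : k * (u * b * u⁻¹) * k⁻¹ = u⁻¹ * b⁻¹ * u := by
        calc k * (u * b * u⁻¹) * k⁻¹ = (k * u * k⁻¹) * (k * b * k⁻¹) * (k * u * k⁻¹)⁻¹ := by group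
          _ = _ := by rw [hkG u hu, hkV b hb, inv_inv]
      rw [e1] at h3
      have h4 := P3.inv h3
      have e2 : (u⁻¹ * b⁻¹ * u)⁻¹ = u⁻¹ * b * u⁻¹⁻¹ := by group
      rw [e2, inv_inv s] at h4
      exact h4
    have h3 := rel (inv_mem hu) h2
    have h4 : ⁅u, c⁆ = ⁅u⁻¹, c⁆ := by
      rw [eq_inv_of_mul_eq_one_left h1, eq_inv_of_mul_eq_one_left h3]
    have h5 : ⁅u⁻¹, c⁆ = ⁅u, c⁆⁻¹ := by
      have h6 := D.c01_13 hu (D.k01_12 hu hc)
      calc ⁅u⁻¹, c⁆ = u⁻¹ * ⁅u, c⁆⁻¹ * u := by simp only [commutatorElement_def]; group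
        _ = (⁅u, c⁆ * u)⁻¹ * u := by group
        _ = _ := by rw [← h6]; group
    refine eq_one_of_sq (p_odd hp) (R.pgrp' D.r13) (D.k01_12 hu hc) ?_
    calc ⁅u, c⁆ * ⁅u, c⁆ = ⁅u, c⁆ * ⁅u, c⁆⁻¹ := by rw [← h5, ← h4]
      _ = 1 := mul_inv_cancel _
  -- conjugate by `n i * n j * n i`
  have ri := rp_simple cs R.nsys i
  have rj := rp_simple cs R.nsys j
  set w := n i * (n j * (n i * c * (n i)⁻¹) * (n j)⁻¹) * (n i)⁻¹ with hwdef
  have hw : w ∈ GG1 := i11 R D ri (j12 R D rj (i12 R D ri hc))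
  have hw1 : w = 1 := by
    refine eq_one_of_c12 R D hp hw fun x hx => ?_
    have h1 : (n i)⁻¹ * ((n j)⁻¹ * ((n i)⁻¹ * x * (n i)⁻¹⁻¹) * (n j)⁻¹⁻¹) * (n i)⁻¹⁻¹ ∈ GG1 :=
      i11 R D (minv R ri) (j12 R D (minv R rj) (i12 R D (minv R ri) hx))
    set u := (n i)⁻¹ * ((n j)⁻¹ * ((n i)⁻¹ * x * (n i)⁻¹⁻¹) * (n j)⁻¹⁻¹) * (n i)⁻¹⁻¹ with hu
    have h2 := commutatorElement_eq_one_iff_mul_comm.1 (hcomm u h1)
    have hx' : x = n i * n j * n i * u * (n i * n j * n i)⁻¹ := by rw [hu]; group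
    have hw' : w = n i * n j * n i * c * (n i * n j * n i)⁻¹ := by rw [hwdef]; group
    calc w * x = n i * n j * n i * (c * u) * (n i * n j * n i)⁻¹ := by rw [hw', hx']; group
      _ = n i * n j * n i * (u * c) * (n i * n j * n i)⁻¹ := by rw [h2]
      _ = x * w := by rw [hw', hx']; group
  calc c = (n i)⁻¹ * ((n j)⁻¹ * ((n i)⁻¹ * w * n i) * n j) * n i := by rw [hwdef]; group
    _ = 1 := by rw [hw1]; group

/-- **No ball**, triple bond. -/
theorem ball_false_of_G2 (hp : 5 ≤ p) {e : Y} (he1 : e ≠ 1) (he0 : Ball cs h T X i j e) (hei : ¬ NT cs h X e i) :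
    False := by
  obtain ⟨b, hb, c', hc', z, hz, e'⟩ := shape_split R D (shape R D hall he0)
  have hc1 : c' = 1 := by
    rw [e'] at he0
    exact c_eq_one R D hall hp hb hc' hz he0
  rw [hc1, one_mul] at e'
  have hnj : n j ∈ PJ cs h T X {j} := LJ_le_PJ (n_mem_LJ R rfl)
  have ri := rp_simple cs R.nsys i
  have rj := rp_simple cs R.nsys j
  have he2 := he0.conj hnj
  obtain ⟨b2, hb2, c2, hc2, z2, hz2, e2⟩ := shape_split R D (shape R D hall he2)
  have hc21 : c2 = 1 := by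
    rw [e2] at he2
    exact c_eq_one R D hall hp hb2 hc2 hz2 he2
  rw [hc21, one_mul, e'] at e2
  have hb1 : b = 1 := by
    have h1 : n j * b * (n j)⁻¹ = 1 := by
      refine V_2 R D (j11 R D rj hb) ?_
      have h2 : n j * b * (n j)⁻¹ = (n j * z * (n j)⁻¹)⁻¹ * (z2 * b2) := by rw [← e2]; group
      rw [h2]
      exact mul_mem (inv_mem (Subgroup.mem_sup_right (j23 R D rj hz)))
        (mul_mem (Subgroup.mem_sup_right hz2) (Subgroup.mem_sup_left hb2))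
    calc b = (n j)⁻¹ * (n j * b * (n j)⁻¹) * n j := by group
      _ = 1 := by rw [h1]; group
  rw [hb1, mul_one] at e'
  -- `e = z`
  have h1 : n j * (n i * z * (n i)⁻¹) * (n j)⁻¹ ∈ V0 := j13 R D rj (i23 R D ri hz)
  rw [rt_one_zero] at h1
  have h2 : n j * (n i * z * (n i)⁻¹) * (n j)⁻¹ = (n j * n i) * e * (n j * n i)⁻¹ := by
    rw [← e']; group
  have h3 : (n j * n i) * e * (n j * n i)⁻¹ ∈ VJ cs h X {i} := by
    refine mem_V_of_not_NT hei _ ?_
    rw [← h2]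
    exact RGD.le_Sup (S := RGD.Pos cs h) ⟨isRoot_sr cs h i, sr_nonneg i⟩ h1
  rw [← h2] at h3
  have h4 := X_inf_V R h1 h3
  apply he1
  rw [e']
  calc z = (n j * n i)⁻¹ * (n j * (n i * z * (n i)⁻¹) * (n j)⁻¹) * (n j * n i) := by group
    _ = 1 := by rw [h4]; group

/-- **The bond property of a triple bond.** -/
theorem bd_of_G2 (hp : 5 ≤ p) : Bd cs h p X i j := by
  have hij := D.ne
  have hM : M i j ≠ 2 := by
    intro h1
    rcases h.rel i j hij with h2 | h2 | h2 | h2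
    · have := D.a1; omega
    · omega
    · omega
    · omega
  intro c d _ hc hdj hdi
  by_contra hW
  obtain ⟨y, hy1, hy2⟩ := exists_ball R hij hM hc hdj hdi hW
  refine ball_false_of_G2 R D hall hp (e := y * d * y⁻¹) (fun h1 => hy1 (by rw [h1]; exact one_mem _)) hy2 ?_
  exact fun h1 => hdi (h1.of_conj y)

end Main

end Cfsg.Agent.H798.T5GFour
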