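import Mathlib
import Cfsg.Agent.H798.T5BTwo

/-!
T5, defining characteristic, part 5 (helper798): `nc_of_intComm` : for a double bond with `α_i` long, the Chevalley
commutator formula and `p` odd, no element `≠ 1` of `X (α_i + α_j)` commutes with `X α_j`.
-/

set_option autoImplicit false
set_option linter.unusedSectionVars false
set_option maxHeartbeats 400000

namespace Cfsg.Agent.H798.T5NcB

open CoxeterSystem Cfsg.Agent.ChevalleyStructure.CoxeterGeom Cfsg.Agent.Tits.Roots Cfsg.Agent.Tits.Core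
  Cfsg.Agent.Tits.RootComb Cfsg.Agent.Tits.Exchange Cfsg.Agent.Nodes.Reps Cfsg.Agent.Nodes.BNOf
  Cfsg.Agent.Nodes.StabComb Cfsg.Agent.Nodes.Bruhat Cfsg.Agent.Nodes.OppDec Cfsg.Agent.Nodes.LeviDec
  Cfsg.Agent.Nodes.Coroot Cfsg.Agent.KFacts.RgdSL Cfsg.Agent.KFacts.RgdBorelTits Cfsg.Agent.KFacts.RgdFilt
  Cfsg.Agent.H533.T5 Cfsg.Agent.H798.T5Geo Cfsg.Agent.H798.T5Root Cfsg.Agent.H798.T5Bond Cfsg.Agent.H798.T5BTwo
open scoped commutatorElement

variable {I W Y : Type*} [Fintype I] [DecidableEq I] [Group W] [Group Y] {M : CoxeterMatrix I}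
  {cs : CoxeterSystem M W} {A : I → I → ℤ} {h : IsCartan M A} {p : ℕ} {T : Subgroup Y} {n : I → Y}
  {X : (I → ℤ) → Subgroup Y}

/-- the key case: `w ∈ X α_j` commuting with `X (α_i + α_j)` is trivial. -/
theorem eq_one_of_comm [Finite W] [Fact p.Prime] (hp : p ≠ 2) (R : RGD cs h p T n X) (hI : IntComm cs h X) {i j : I}
    (hij : i ≠ j) (hA1 : A i j = -1) (hA2 : A j i = -2) {w : Y} (hw : w ∈ X (rt i j 0 1))
    (hwc : ∀ y ∈ X (rt i j 1 1), w * y = y * w) : w = 1 := by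
  obtain ⟨r10, r01, r11, r12⟩ := rt_B2_root (cs := cs) (h := h) hA1 hA2
  have rm : IsRoot cs h (rt i j 0 (-1)) := by have := r01.neg; rwa [rt_neg, neg_zero] at this
  have rn : IsRoot cs h (rt i j (-1) 0) := by have := r10.neg; rwa [rt_neg, neg_zero] at this
  have lst := fun {a g : ℤ} (hx : IsRoot cs h (rt i j a g)) => rt_B2 hij hA1 hA2 hx
  -- commuting pairs
  have c10_11 : ∀ {u v : Y}, u ∈ X (rt i j 1 0) → v ∈ X (rt i j 1 1) → u * v = v * u := fun hu hv =>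
    commute_of hI hij r10 r11 (by norm_num) (by norm_num) (fun m k hm hk hz => by have := lst hz; omega) hu hv
  have c10_12 : ∀ {u v : Y}, u ∈ X (rt i j 1 0) → v ∈ X (rt i j 1 2) → u * v = v * u := fun hu hv =>
    commute_of hI hij r10 r12 (by norm_num) (by norm_num) (fun m k hm hk hz => by have := lst hz; omega) hu hv
  have c11_12 : ∀ {u v : Y}, u ∈ X (rt i j 1 1) → v ∈ X (rt i j 1 2) → u * v = v * u := fun hu hv =>
    commute_of hI hij r11 r12 (by norm_num) (by norm_num) (fun m k hm hk hz => by have := lst hz; omega) hu hv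
  have c01_12 : ∀ {u v : Y}, u ∈ X (rt i j 0 1) → v ∈ X (rt i j 1 2) → u * v = v * u := fun hu hv =>
    commute_of hI hij r01 r12 (by norm_num) (by norm_num) (fun m k hm hk hz => by have := lst hz; omega) hu hv
  have cm_10 : ∀ {u v : Y}, u ∈ X (rt i j 0 (-1)) → v ∈ X (rt i j 1 0) → u * v = v * u := fun hu hv =>
    commute_of hI hij rm r10 (by norm_num) (by norm_num) (fun m k hm hk hz => by have := lst hz; omega) hu hv
  have cn_01 : ∀ {u v : Y}, u ∈ X (rt i j (-1) 0) → v ∈ X (rt i j 0 1) → u * v = v * u := fun hu hv =>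
    commute_of hI hij rn r01 (by norm_num) (by norm_num) (fun m k hm hk hz => by have := lst hz; omega) hu hv
  have cn_12 : ∀ {u v : Y}, u ∈ X (rt i j (-1) 0) → v ∈ X (rt i j 1 2) → u * v = v * u := fun hu hv =>
    commute_of hI hij rn r12 (by norm_num) (by norm_num) (fun m k hm hk hz => by have := lst hz; omega) hu hv
  -- commutators
  have k01_10 : ∀ {u v : Y}, u ∈ X (rt i j 0 1) → v ∈ X (rt i j 1 0) → ∃ r ∈ X (rt i j 1 1),
      ∃ l ∈ X (rt i j 1 2), u * v * u⁻¹ = r * l * v := by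
    intro u v hu hv
    have h1 : ⁅u, v⁆ ∈ X (rt i j 1 1) ⊔ X (rt i j 1 2) := by
      refine comm_le hI hij r01 r10 (by norm_num) (by norm_num) (fun m k hm hk hz => ?_) hu hv
      have h2 := lst hz
      have h3 : (m * 0 + k * 1 = 1 ∧ m * 1 + k * 0 = 1) ∨ (m * 0 + k * 1 = 1 ∧ m * 1 + k * 0 = 2) := by omega
      rcases h3 with h3 | h3 <;> rw [h3.1, h3.2]
      · exact le_sup_left
      · exact le_sup_right
    obtain ⟨r, hr, l, hl, e⟩ := split_comm (fun x hx y hy => c11_12 hx hy) h1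
    refine ⟨r, hr, l, hl, ?_⟩
    rw [← e, commutatorElement_def]; group
  have km_11 : ∀ {u v : Y}, u ∈ X (rt i j 0 (-1)) → v ∈ X (rt i j 1 1) → ⁅u, v⁆ ∈ X (rt i j 1 0) := fun hu hv => by
    refine comm_le hI hij rm r11 (by norm_num) (by norm_num) (fun m k hm hk hz => ?_) hu hv
    have h2 := lst hz
    have h3 : m * 0 + k * 1 = 1 ∧ m * (-1) + k * 1 = 0 := by omega
    rw [h3.1, h3.2]
  have km_12 : ∀ {u v : Y}, u ∈ X (rt i j 0 (-1)) → v ∈ X (rt i j 1 2) →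
      ⁅u, v⁆ ∈ X (rt i j 1 0) ⊔ X (rt i j 1 1) := fun hu hv => by
    refine comm_le hI hij rm r12 (by norm_num) (by norm_num) (fun m k hm hk hz => ?_) hu hv
    have h2 := lst hz
    have h3 : (m * 0 + k * 1 = 1 ∧ m * (-1) + k * 2 = 0) ∨ (m * 0 + k * 1 = 1 ∧ m * (-1) + k * 2 = 1) := by omega
    rcases h3 with h3 | h3 <;> rw [h3.1, h3.2]
    · exact le_sup_left
    · exact le_sup_right
  -- separation
  have U1 : ∀ {u : Y}, u ∈ X (rt i j 1 0) ⊔ X (rt i j 1 1) → u ∈ X (rt i j 1 2) → u = 1 := fun h1 h2 => by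
    refine sep R hij 2 (-1) 0 1 (K := X (rt i j 1 0) ⊔ X (rt i j 1 1)) (L := X (rt i j 1 2)) ?_ ?_ h1 h2
    · refine ⟨{(1, 0), (1, 1)}, ?_, ?_⟩
      · rintro x (rfl | rfl)
        · exact ⟨r10, by norm_num⟩
        · exact ⟨r11, by norm_num⟩
      · exact sup_le (le_iSup (fun x : ({(1, 0), (1, 1)} : Set (ℤ × ℤ)) => X (rt i j x.1.1 x.1.2)) ⟨(1, 0), by simp⟩)
          (le_iSup (fun x : ({(1, 0), (1, 1)} : Set (ℤ × ℤ)) => X (rt i j x.1.1 x.1.2)) ⟨(1, 1), by simp⟩)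
    · refine ⟨{(1, 2)}, ?_, ?_⟩
      · rintro x rfl
        exact ⟨r12, by norm_num, by norm_num⟩
      · exact le_iSup (fun x : ({(1, 2)} : Set (ℤ × ℤ)) => X (rt i j x.1.1 x.1.2)) ⟨(1, 2), by simp⟩
  have U2 : ∀ {u : Y}, u ∈ X (rt i j 1 1) ⊔ X (rt i j 1 2) → u ∈ X (rt i j 0 1) → u = 1 := fun h1 h2 => by
    refine sep R hij 1 0 0 1 (K := X (rt i j 1 1) ⊔ X (rt i j 1 2)) (L := X (rt i j 0 1)) ?_ ?_ h1 h2
    · refine ⟨{(1, 1), (1, 2)}, ?_, ?_⟩
      · rintro x (rfl | rfl)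
        · exact ⟨r11, by norm_num⟩
        · exact ⟨r12, by norm_num⟩
      · exact sup_le (le_iSup (fun x : ({(1, 1), (1, 2)} : Set (ℤ × ℤ)) => X (rt i j x.1.1 x.1.2)) ⟨(1, 1), by simp⟩)
          (le_iSup (fun x : ({(1, 1), (1, 2)} : Set (ℤ × ℤ)) => X (rt i j x.1.1 x.1.2)) ⟨(1, 2), by simp⟩)
    · refine ⟨{(0, 1)}, ?_, ?_⟩
      · rintro x rfl
        exact ⟨r01, by norm_num, by norm_num⟩
      · exact le_iSup (fun x : ({(0, 1)} : Set (ℤ × ℤ)) => X (rt i j x.1.1 x.1.2)) ⟨(0, 1), by simp⟩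
  have U3 : ∀ {u : Y}, u ∈ X (rt i j 1 1) → u ∈ X (rt i j 1 2) → u = 1 := fun {u} h1 h2 => by
    have h3 := X_inf_X R r11 r12 (fun h4 => by rw [rt_inj hij] at h4; omega)
    have : u ∈ X (rt i j 1 1) ⊓ X (rt i j 1 2) := ⟨h1, h2⟩
    rwa [h3, Subgroup.mem_bot] at this
  have U4 : ∀ {u : Y}, u ∈ X (rt i j 1 0) → u ∈ X (rt i j 1 1) → u = 1 := fun {u} h1 h2 => by
    have h3 := X_inf_X R r10 r11 (fun h4 => by rw [rt_inj hij] at h4; omega)
    have : u ∈ X (rt i j 1 0) ⊓ X (rt i j 1 1) := ⟨h1, h2⟩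
    rwa [h3, Subgroup.mem_bot] at this
  -- conjugation by elements over `s_j`
  have m10 : ∀ {m v : Y}, Rp cs R.nsys (cs.simple j) m → v ∈ X (rt i j 1 0) → m * v * m⁻¹ ∈ X (rt i j 1 2) :=
    fun hm hv => by
      have := R.conj_mem hm r10 hv
      rw [rep_right, hA2] at this
      simpa using this
  have m11 : ∀ {m v : Y}, Rp cs R.nsys (cs.simple j) m → v ∈ X (rt i j 1 1) → m * v * m⁻¹ ∈ X (rt i j 1 1) :=
    fun hm hv => by
      have := R.conj_mem hm r11 hv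
      rw [rep_right, hA2] at this
      simpa using this
  have m12 : ∀ {m v : Y}, Rp cs R.nsys (cs.simple j) m → v ∈ X (rt i j 1 2) → m * v * m⁻¹ ∈ X (rt i j 1 0) :=
    fun hm hv => by
      have := R.conj_mem hm r12 hv
      rw [rep_right, hA2] at this
      simpa using this
  by_contra hw1
  have hw' : w ∈ X (sr j) := by rwa [rt_zero_one] at hw
  obtain ⟨a, ha, b, hb, m, hm, hme⟩ := exists_mu_simple R hw' hw1
  have ha' : a ∈ X (rt i j 0 (-1)) := by
    have : -sr j = rt i j 0 (-1) := by rw [← rt_zero_one i j, rt_neg, neg_zero]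
    rwa [this] at ha
  have hb' : b ∈ X (rt i j 0 (-1)) := by
    have : -sr j = rt i j 0 (-1) := by rw [← rt_zero_one i j, rt_neg, neg_zero]
    rwa [this] at hb
  -- (1)
  have L1 : ∀ {w a b m v r l : Y}, a ∈ X (rt i j 0 (-1)) → b ∈ X (rt i j 0 (-1)) → Rp cs R.nsys (cs.simple j) m →
      m = a * w * b → v ∈ X (rt i j 1 0) → r ∈ X (rt i j 1 1) → l ∈ X (rt i j 1 2) → w * v * w⁻¹ = r * l * v →
      m * v * m⁻¹ = l := by
    intro w a b m v r l ha hb hm hme hv hr hl e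
    have e1 : b * v * b⁻¹ = v := by rw [cm_10 hb hv]; group
    have e2 : a * v * a⁻¹ = v := by rw [cm_10 ha hv]; group
    have e3 : m * v * m⁻¹ = a * r * a⁻¹ * (a * l * a⁻¹) * v := by
      calc m * v * m⁻¹ = a * w * (b * v * b⁻¹) * w⁻¹ * a⁻¹ := by rw [hme]; group
        _ = a * (w * v * w⁻¹) * a⁻¹ := by rw [e1]; group
        _ = a * r * a⁻¹ * (a * l * a⁻¹) * (a * v * a⁻¹) := by rw [e]; group
        _ = _ := by rw [e2]
    have e4 : a * r * a⁻¹ = ⁅a, r⁆ * r := by rw [commutatorElement_def]; group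
    have e5 : a * l * a⁻¹ = ⁅a, l⁆ * l := by rw [commutatorElement_def]; group
    have h1 : ⁅a, r⁆ * r ∈ X (rt i j 1 0) ⊔ X (rt i j 1 1) :=
      mul_mem (Subgroup.mem_sup_left (km_11 ha hr)) (Subgroup.mem_sup_right hr)
    have h2 := km_12 ha hl
    have e6 : m * v * m⁻¹ * l⁻¹ = ⁅a, r⁆ * r * ⁅a, l⁆ * v := by
      rw [e3, e4, e5]
      have e7 : l * v = v * l := (c10_12 hv hl).symm
      calc ⁅a, r⁆ * r * (⁅a, l⁆ * l) * v * l⁻¹ = ⁅a, r⁆ * r * ⁅a, l⁆ * (l * v) * l⁻¹ := by group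
        _ = _ := by rw [e7]; group
    have h3 : m * v * m⁻¹ * l⁻¹ ∈ X (rt i j 1 0) ⊔ X (rt i j 1 1) := by
      rw [e6]
      exact mul_mem (mul_mem h1 h2) (Subgroup.mem_sup_left hv)
    exact mul_inv_eq_one.1 (U1 h3 (mul_mem (m10 hm hv) (inv_mem hl)))
  -- (2)
  have L2 : ∀ {y : Y}, y ∈ X (rt i j 1 1) → m * y * m⁻¹ = y := by
    intro y hy
    set a1 := ⁅b, y⁆ with ha1
    have h1 : a1 ∈ X (rt i j 1 0) := km_11 hb' hy
    obtain ⟨r1, hr1, l1, hl1, e1⟩ := k01_10 hw h1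
    have h2 := L1 ha' hb' hm hme h1 hr1 hl1 e1
    have e2 : b * y * b⁻¹ = a1 * y := by rw [ha1, commutatorElement_def]; group
    have e3 : a * y * a⁻¹ = ⁅a, y⁆ * y := by rw [commutatorElement_def]; group
    have e4 : b * a1 * b⁻¹ = a1 := by rw [cm_10 hb' h1]; group
    have e5 : w * y * w⁻¹ = y := by rw [hwc y hy]; group
    have e6 : m * y * m⁻¹ = l1 * (⁅a, y⁆ * y) := by
      calc m * y * m⁻¹ = a * w * (b * y * b⁻¹) * w⁻¹ * a⁻¹ := by rw [hme]; group
        _ = a * w * (b * a1 * b⁻¹ * y) * w⁻¹ * a⁻¹ := by rw [e2, e4]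
        _ = (m * a1 * m⁻¹) * (a * (w * y * w⁻¹) * a⁻¹) := by rw [hme]; group
        _ = _ := by rw [h2, e5, e3]
    have h3 : ⁅a, y⁆ ∈ X (rt i j 1 0) := km_11 ha' hy
    have h4 : l1 = 1 := by
      refine U1 ?_ hl1
      have : l1 = (m * y * m⁻¹) * (⁅a, y⁆ * y)⁻¹ := by rw [e6]; group
      rw [this]
      exact mul_mem (Subgroup.mem_sup_right (m11 hm hy))
        (inv_mem (mul_mem (Subgroup.mem_sup_left h3) (Subgroup.mem_sup_right hy)))
    rw [h4, one_mul] at e6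
    have h5 : ⁅a, y⁆ = 1 := by
      refine U4 h3 ?_
      have : ⁅a, y⁆ = (m * y * m⁻¹) * y⁻¹ := by rw [e6]; group
      rw [this]
      exact mul_mem (m11 hm hy) (inv_mem hy)
    rw [e6, h5, one_mul]
  have hm' : Rp cs R.nsys (cs.simple j) m⁻¹ := by
    have := hm.inv
    rwa [cs.inv_simple] at this
  -- (3)
  have L3 : ∀ {v : Y}, v ∈ X (rt i j 1 0) → m * m * v * (m * m)⁻¹ = v⁻¹ := by
    intro v hv
    obtain ⟨r, hr, l, hl, e⟩ := k01_10 hw hv
    obtain ⟨r', hr', l', hl', e'⟩ := k01_10 (inv_mem hw) hv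
    have h1 := L1 ha' hb' hm hme hv hr hl e
    have h2 := L1 (w := w⁻¹) (a := b⁻¹) (b := a⁻¹) (inv_mem hb') (inv_mem ha') hm' (by rw [hme]; group) hv hr' hl' e'
    rw [inv_inv] at e' h2
    have h3 : r' * r * (l' * l) = 1 := by
      have e1 : v = r' * l' * (r * l * v) := by
        calc v = w * (w⁻¹ * v * w) * w⁻¹ := by group
          _ = w * (r' * l' * v) * w⁻¹ := by rw [e']
          _ = (w * r' * w⁻¹) * (w * l' * w⁻¹) * (w * v * w⁻¹) := by group
          _ = r' * l' * (r * l * v) := by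
            rw [hwc r' hr', c01_12 hw hl', e]; group
      have e2 : r' * l' * (r * l) = 1 := by
        have : r' * l' * (r * l) * v = v := by
          calc r' * l' * (r * l) * v = r' * l' * (r * l * v) := by group
            _ = v := e1.symm
        exact mul_eq_right.1 this
      calc r' * r * (l' * l) = r' * (r * l') * l := by group
        _ = r' * (l' * r) * l := by rw [c11_12 hr hl']
        _ = r' * l' * (r * l) := by group
        _ = 1 := e2
    have h4 : l' * l = 1 := by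
      refine U3 ?_ (mul_mem hl' hl)
      have : l' * l = (r' * r)⁻¹ := by rw [eq_inv_iff_mul_eq_one]; rw [← h3]; exact (c11_12 (mul_mem hr' hr) (mul_mem hl' hl)).symm
      rw [this]
      exact inv_mem (mul_mem hr' hr)
    have h5 : m⁻¹ * v * m = (m * v * m⁻¹)⁻¹ := by
      rw [h1, h2]
      exact eq_inv_of_mul_eq_one_left h4
    calc m * m * v * (m * m)⁻¹ = m * (m * v * m⁻¹) * m⁻¹ := by group
      _ = m * (m⁻¹ * v * m)⁻¹ * m⁻¹ := by rw [h5, inv_inv]
      _ = v⁻¹ := by group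
  -- (4)
  have hmm : m * m ∈ T := by
    have := hm.mul hm
    rw [cs.simple_mul_simple_self] at this
    exact this.mem_of_one
  have htor : ∀ {x y : Y} {z : I → ℤ}, x ∈ T → IsRoot cs h z → y ∈ X z → x * y * x⁻¹ ∈ X z := by
    intro x y z hx hz hy
    rw [← R.tor z hz x hx]
    exact conj_mem_cj.2 hy
  set w' := m * m * w * (m * m)⁻¹ with hw'def
  have hw'X : w' ∈ X (rt i j 0 1) := htor hmm r01 hw
  have hxX : w * w' ∈ X (rt i j 0 1) := mul_mem hw hw'X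
  have L4 : ∀ {v : Y}, v ∈ X (rt i j 1 0) → ∃ l ∈ X (rt i j 1 2), w * w' * v * (w * w')⁻¹ = l * v := by
    intro v hv
    obtain ⟨r, hr, l, hl, e⟩ := k01_10 hw hv
    have hl2 : m * m * l * (m * m)⁻¹ ∈ X (rt i j 1 2) := htor hmm r12 hl
    set l2 := m * m * l * (m * m)⁻¹ with hl2def
    have e1 : w' * v⁻¹ * w'⁻¹ = r * l2 * v⁻¹ := by
      have h1 : m * m * r * (m * m)⁻¹ = r := by
        calc m * m * r * (m * m)⁻¹ = m * (m * r * m⁻¹) * m⁻¹ := by group
          _ = r := by rw [L2 hr, L2 hr]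
      calc w' * v⁻¹ * w'⁻¹ = w' * (m * m * v * (m * m)⁻¹) * w'⁻¹ := by rw [L3 hv]
        _ = m * m * (w * v * w⁻¹) * (m * m)⁻¹ := by rw [hw'def]; group
        _ = (m * m * r * (m * m)⁻¹) * (m * m * l * (m * m)⁻¹) * (m * m * v * (m * m)⁻¹) := by rw [e]; group
        _ = _ := by rw [h1, L3 hv]
    have e2 : w' * v * w'⁻¹ = v * l2⁻¹ * r⁻¹ := by
      calc w' * v * w'⁻¹ = (w' * v⁻¹ * w'⁻¹)⁻¹ := by group
        _ = _ := by rw [e1]; group
    refine ⟨l * l2⁻¹, mul_mem hl (inv_mem hl2), ?_⟩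
    have e3 : w * l2⁻¹ * w⁻¹ = l2⁻¹ := by rw [c01_12 hw (inv_mem hl2)]; group
    have e4 : w * r⁻¹ * w⁻¹ = r⁻¹ := by rw [hwc _ (inv_mem hr)]; group
    calc w * w' * v * (w * w')⁻¹ = w * (w' * v * w'⁻¹) * w⁻¹ := by group
      _ = (w * v * w⁻¹) * (w * l2⁻¹ * w⁻¹) * (w * r⁻¹ * w⁻¹) := by rw [e2]; group
      _ = r * l * v * l2⁻¹ * r⁻¹ := by rw [e, e3, e4]
      _ = r * l * (v * l2⁻¹) * r⁻¹ := by group
      _ = r * (l * l2⁻¹ * v) * r⁻¹ := by rw [c10_12 hv (inv_mem hl2)]; group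
      _ = (r * (l * l2⁻¹)) * v * r⁻¹ := by group
      _ = (l * l2⁻¹) * r * v * r⁻¹ := by rw [c11_12 hr (mul_mem hl (inv_mem hl2))]
      _ = (l * l2⁻¹) * (r * v) * r⁻¹ := by group
      _ = (l * l2⁻¹) * (v * r) * r⁻¹ := by rw [c10_11 hv hr]
      _ = _ := by group
  have hx1 : w * w' = 1 := by
    obtain ⟨v0, hv0, hv01⟩ := exists_ne_one R i
    have hv0' : v0 ∈ X (rt i j 1 0) := by rwa [rt_one_zero]
    obtain ⟨a', ha1, b', hb1, m1, hm1, hme1⟩ := exists_mu_simple R hv0 hv01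
    have hni : -sr i = rt i j (-1) 0 := by rw [← rt_one_zero i j, rt_neg, neg_zero]
    rw [hni] at ha1 hb1
    obtain ⟨l, hl, e⟩ := L4 hv0'
    generalize w * w' = x at hxX e
    have h1 : m1 * x * m1⁻¹ ∈ X (rt i j 1 1) := by
      have := R.conj_mem hm1 r01 hxX
      rw [rep_left, hA1] at this
      simpa using this
    have e0 : v0 * x * v0⁻¹ = l⁻¹ * x := by
      have : x * v0 = l * v0 * x := by rw [← e]; group
      calc v0 * x * v0⁻¹ = l⁻¹ * (l * v0 * x) * v0⁻¹ := by group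
        _ = _ := by rw [← this]; group
    have e1 : m1 * x * m1⁻¹ = l⁻¹ * x := by
      calc m1 * x * m1⁻¹ = a' * (v0 * (b' * x * b'⁻¹) * v0⁻¹) * a'⁻¹ := by rw [hme1]; group
        _ = a' * (l⁻¹ * x) * a'⁻¹ := by
          have : b' * x * b'⁻¹ = x := by rw [cn_01 hb1 hxX]; group
          rw [this, e0]
        _ = (a' * l⁻¹ * a'⁻¹) * (a' * x * a'⁻¹) := by group
        _ = _ := by rw [cn_12 ha1 (inv_mem hl), cn_01 ha1 hxX]; group
    refine U2 ?_ hxX
    have : x = l * (m1 * x * m1⁻¹) := by rw [e1]; group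
    rw [this]
    exact mul_mem (Subgroup.mem_sup_right hl) (Subgroup.mem_sup_left h1)
  -- (5)
  have h5 : m * m * w * (m * m)⁻¹ = w⁻¹ := (eq_inv_of_mul_eq_one_right hx1)
  have hja : ∀ {x : Y}, x ∈ X (-sr j) → m * m * x * (m * m)⁻¹ ∈ X (-sr j) := fun hx =>
    htor hmm (isRoot_sr cs h j).neg hx
  have e1 : m * m = (m * m * a * (m * m)⁻¹ * b) * (m⁻¹ * (a * (m * m * b * (m * m)⁻¹)) * m) := by
    have e2 : m = (m * m * a * (m * m)⁻¹) * w⁻¹ * (m * m * b * (m * m)⁻¹) := by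
      calc m = m * m * m * (m * m)⁻¹ := by group
        _ = m * m * (a * w * b) * (m * m)⁻¹ := by rw [← hme]
        _ = (m * m * a * (m * m)⁻¹) * (m * m * w * (m * m)⁻¹) * (m * m * b * (m * m)⁻¹) := by group
        _ = _ := by rw [h5]
    have e3 : w⁻¹ = b * m⁻¹ * a := by rw [hme]; group
    have e4 : m = (m * m * a * (m * m)⁻¹ * b) * m⁻¹ * (a * (m * m * b * (m * m)⁻¹)) := by
      calc m = (m * m * a * (m * m)⁻¹) * w⁻¹ * (m * m * b * (m * m)⁻¹) := e2
        _ = _ := by rw [e3]; group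
    calc m * m = m * 1 * m := by group
      _ = ((m * m * a * (m * m)⁻¹ * b) * m⁻¹ * (a * (m * m * b * (m * m)⁻¹))) * m := by rw [mul_one, ← e4]
      _ = _ := by group
  have h6 : m⁻¹ * (a * (m * m * b * (m * m)⁻¹)) * m ∈ X (sr j) := by
    have := R.conj_mem' hm (isRoot_sr cs h j).neg (mul_mem ha (hja hb))
    rwa [cs.inv_simple, map_neg, rep_simple_sr, neg_neg] at this
  have h7 : m * m * a * (m * m)⁻¹ * b = 1 := by
    refine X_inf_opp R (mul_mem (hja ha) hb) ?_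
    have : m * m * a * (m * m)⁻¹ * b = (m * m) * (m⁻¹ * (a * (m * m * b * (m * m)⁻¹)) * m)⁻¹ := by
      rw [eq_mul_inv_iff_mul_eq]; exact e1.symm
    rw [this]
    exact mul_mem (RGD.T_le_B hmm) (inv_mem (RGD.X_le_B (isRoot_sr cs h j) (sr_nonneg j) h6))
  have h8 : m * m = 1 := by
    rw [h7, one_mul] at e1
    have h9 : m * m ∈ X (sr j) ⊓ T := ⟨by rw [e1]; exact h6, hmm⟩
    rwa [X_inf_T R (isRoot_sr cs h j), Subgroup.mem_bot] at h9
  apply hw1
  refine eq_one_of_sq hp (R.pgrp j) hw' ?_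
  rw [h8, inv_one, one_mul, mul_one] at h5
  calc w * w = w * w⁻¹ := by rw [← h5]
    _ = 1 := mul_inv_cancel w

/-- **Double bonds**, `α_i` long. -/
theorem nc_of_intComm [Finite W] [Fact p.Prime] (hp : p ≠ 2) (R : RGD cs h p T n X) (hI : IntComm cs h X) {i j : I}
    (hij : i ≠ j) (hA1 : A i j = -1) (hA2 : A j i = -2) : Nc cs h X i j := by
  intro s hs hc
  obtain ⟨r10, r01, r11, r12⟩ := rt_B2_root (cs := cs) (h := h) hA1 hA2
  have e1 : rep cs h (cs.simple i) (sr j) = rt i j 1 1 := by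
    rw [← rt_zero_one i j, rep_left, hA1]; norm_num
  have e2 : rep cs h (cs.simple i) (rt i j 1 1) = sr j := by
    rw [rep_left, hA1, ← rt_zero_one i j]; norm_num
  rw [e1] at hs
  have h1 : n i * s * (n i)⁻¹ ∈ X (rt i j 0 1) := by
    have := R.conj_mem (rp_simple cs R.nsys i) r11 hs
    rwa [e2, ← rt_zero_one i j] at this
  have h2 : n i * s * (n i)⁻¹ = 1 := by
    refine eq_one_of_comm hp R hI hij hA1 hA2 h1 fun y hy => ?_
    have h3 : (n i)⁻¹ * y * n i ∈ X (sr j) := by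
      have := R.conj_mem' (rp_simple cs R.nsys i) r11 hy
      rwa [cs.inv_simple, e2] at this
    have h4 := hc _ h3
    calc n i * s * (n i)⁻¹ * y = n i * (s * ((n i)⁻¹ * y * n i)) * (n i)⁻¹ := by group
      _ = n i * ((n i)⁻¹ * y * n i * s) * (n i)⁻¹ := by rw [h4]
      _ = _ := by group
  have : s = (n i)⁻¹ * (n i * s * (n i)⁻¹) * n i := by group
  rw [this, h2]; group

end Cfsg.Agent.H798.T5NcB
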