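import Mathlib
import Cfsg.Agent.H798.T5GThree
import Cfsg.Agent.H798.T5GFour
import Cfsg.Agent.H798.T5NcB

/-!
T5, defining characteristic (helper798): `exists_to_V` : a bond with `α_i` long, the Chevalley commutator formula and
`|X α_i| = |X α_j|` : every element of `V_i` has a `P_i`-conjugate in `V_j`.
-/

set_option autoImplicit false
set_option linter.unusedSectionVars false
set_option maxHeartbeats 400000

namespace Cfsg.Agent.H798.T5Long

open CoxeterSystem Cfsg.Agent.ChevalleyStructure.CoxeterGeom Cfsg.Agent.Tits.Roots Cfsg.Agent.Tits.Core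
  Cfsg.Agent.Tits.RootComb Cfsg.Agent.Tits.Exchange Cfsg.Agent.Nodes.Reps Cfsg.Agent.Nodes.BNOf
  Cfsg.Agent.Nodes.StabComb Cfsg.Agent.Nodes.Bruhat Cfsg.Agent.Nodes.OppDec Cfsg.Agent.Nodes.LeviDec
  Cfsg.Agent.Nodes.Coroot Cfsg.Agent.KFacts.RgdSL Cfsg.Agent.KFacts.RgdBorelTits Cfsg.Agent.KFacts.RgdFilt
  Cfsg.Agent.H533.T5 Cfsg.Agent.H798.T5Geo Cfsg.Agent.H798.T5Root Cfsg.Agent.H798.T5Bond Cfsg.Agent.H798.T5BTwo
  Cfsg.Agent.H798.T5GTwo Cfsg.Agent.H798.T5GThree Cfsg.Agent.H798.T5NcB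
open scoped commutatorElement

variable {I W Y : Type*} [Fintype I] [DecidableEq I] [Group W] [Group Y] {M : CoxeterMatrix I}
  {cs : CoxeterSystem M W} {A : I → I → ℤ} {h : IsCartan M A} {p : ℕ} {T : Subgroup Y} {n : I → Y}
  {X : (I → ℤ) → Subgroup Y} {i j : I}

/-- positive roots different from `α_i`, `α_j`, `α_i + α_j` -/
def SS (cs : CoxeterSystem M W) (h : IsCartan M A) (i j : I) : Set (I → ℤ) :=
  {z | IsRoot cs h z ∧ 0 ≤ z ∧ z ≠ T5Root.rt i j 1 0 ∧ z ≠ T5Root.rt i j 0 1 ∧ z ≠ T5Root.rt i j 1 1}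

/-! ### combinatorics -/

theorem IB_cases (hij : i ≠ j) (hA : A i j = -1) {x1 x2 c1 c2 : ℤ} {z : I → ℤ} (hz : z ∈ SS cs h i j)
    (hI : IB cs h (T5Root.rt i j x1 x2) z (T5Root.rt i j c1 c2)) : ∃ a g m k : ℤ, 1 ≤ a ∧ 1 ≤ g ∧ a ≤ g ∧
      ¬ (a = 1 ∧ g = 1) ∧ 0 < m ∧ 0 < k ∧ c1 = m * x1 + k * a ∧ c2 = m * x2 + k * g := by
  obtain ⟨hr, m, k, hm, hk, e⟩ := hI
  have e0 : ∀ t, T5Root.rt i j c1 c2 t = m * T5Root.rt i j x1 x2 t + k * z t := fun t => by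
    have := congrFun e t
    simpa using this
  have hz1 : z = T5Root.rt i j (z i) (z j) := eq_rt hij fun t hi hj => by
    have h1 := e0 t
    rw [rt_other hi hj, rt_other hi hj, mul_zero, zero_add] at h1
    rcases mul_eq_zero.1 h1.symm with h2 | h2
    · omega
    · exact h2
  have ei := e0 i
  have ej := e0 j
  rw [rt_left hij, rt_left hij] at ei
  rw [rt_right hij, rt_right hij] at ej
  obtain ⟨hzr, hz0, hz2, hz3, hz4⟩ := hz
  rw [hz1] at hzr hz0 hz2 hz3 hz4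
  generalize z i = a at *
  generalize z j = g at *
  rw [rt_nonneg hij] at hz0
  rw [Ne, rt_inj hij] at hz2 hz3 hz4
  have h1 := rt_sign hij hzr
  have h2 := hzr.act (cs.simple i)
  rw [rep_left, hA] at h2
  have h3 := (rt_sign hij h2).1
  have h4 : g ≠ 0 := by
    rintro rfl
    rcases h1.2.1 rfl with h5 | h5 <;> omega
  have h5 : a ≠ 0 := by
    rintro rfl
    rcases h1.2.2 rfl with h5 | h5 <;> omega
  refine ⟨a, g, m, k, by omega, by omega, by omega, hz4, hm, hk, ei, ej⟩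

theorem mem_SS_of_IB (hij : i ≠ j) (hA : A i j = -1) {x1 x2 : ℤ} (hx : (x1 = 1 ∧ x2 = 0) ∨ (x1 = 0 ∧ x2 = 1) ∨
    (x1 = 1 ∧ x2 = 1) ∨ (x1 = -1 ∧ x2 = 0)) {z z' : I → ℤ} (hz : z ∈ SS cs h i j)
    (hI : IB cs h (T5Root.rt i j x1 x2) z z') : z' ∈ SS cs h i j := by
  have hpos : 0 ≤ z' := by
    obtain ⟨hr, m, k, hm, hk, e⟩ := hI
    rcases hr.pos_or_neg with h1 | h1
    · exact h1
    · exfalso
      have hzz : ∀ t, t ≠ i → z t = 0 := by
        intro t ht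
        have h2 : z' t ≤ 0 := h1 t
        have h3 : z' t = m * T5Root.rt i j x1 x2 t + k * z t := by
          have := congrFun e t
          simpa using this
        have h4 : (0 : ℤ) ≤ z t := hz.2.1 t
        have h5 : (0 : ℤ) ≤ T5Root.rt i j x1 x2 t := by
          by_cases htj : t = j
          · rw [htj, rt_right hij]; omega
          · rw [rt_other ht htj]
        have h6 : 0 ≤ m * T5Root.rt i j x1 x2 t := mul_nonneg hm.le h5
        have h7 : k * z t ≤ 0 := by linarith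
        nlinarith
      apply hz.2.2.1
      rw [rt_one_zero]
      exact hz.1.eq_sr hz.2.1 i hzz
  refine ⟨hI.1, hpos, ?_, ?_, ?_⟩
  · rintro rfl
    obtain ⟨a, g, m, k, h1, h2, h3, h4, h5, h6, e1, e2⟩ := IB_cases hij hA hz hI
    rcases hx with ⟨rfl, rfl⟩ | ⟨rfl, rfl⟩ | ⟨rfl, rfl⟩ | ⟨rfl, rfl⟩ <;> nlinarith
  · rintro rfl
    obtain ⟨a, g, m, k, h1, h2, h3, h4, h5, h6, e1, e2⟩ := IB_cases hij hA hz hI
    have h7 : g ≤ k * g := by nlinarith
    rcases hx with ⟨rfl, rfl⟩ | ⟨rfl, rfl⟩ | ⟨rfl, rfl⟩ | ⟨rfl, rfl⟩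
    · nlinarith
    · nlinarith
    · nlinarith
    · omega
  · rintro rfl
    obtain ⟨a, g, m, k, h1, h2, h3, h4, h5, h6, e1, e2⟩ := IB_cases hij hA hz hI
    have h7 : g ≤ k * g := by nlinarith
    have h8 : a ≤ k * a := by nlinarith
    rcases hx with ⟨rfl, rfl⟩ | ⟨rfl, rfl⟩ | ⟨rfl, rfl⟩ | ⟨rfl, rfl⟩
    · nlinarith
    · nlinarith
    · nlinarith
    · omega

/-- a positive root of the plane outside the list -/
theorem mem_SS_rt (hij : i ≠ j) {a g : ℤ} (hr : IsRoot cs h (T5Root.rt i j a g)) (h0 : 0 ≤ a ∧ 0 ≤ g)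
    (h1 : ¬ (a = 1 ∧ g = 0)) (h2 : ¬ (a = 0 ∧ g = 1)) (h3 : ¬ (a = 1 ∧ g = 1)) : T5Root.rt i j a g ∈ SS cs h i j :=
  ⟨hr, (rt_nonneg hij).2 h0, fun h4 => h1 ((rt_inj hij).1 h4), fun h4 => h2 ((rt_inj hij).1 h4),
    fun h4 => h3 ((rt_inj hij).1 h4)⟩

/-! ### commutators -/

attribute [local irreducible] T5Root.rt

local notation "XA" => X (T5Root.rt i j 1 0)
local notation "XG" => X (T5Root.rt i j 0 1)
local notation "XB" => X (T5Root.rt i j 1 1)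
local notation "XN" => X (T5Root.rt i j (-1) 0)
local notation "NS" => RGD.Sup X (SS cs h i j)

section Comm

variable (hI : IntComm cs h X) (hij : i ≠ j) (hA : A i j = -1)

theorem ra : IsRoot cs h (T5Root.rt i j 1 0) := by rw [rt_one_zero]; exact isRoot_sr cs h i
theorem rg : IsRoot cs h (T5Root.rt i j 0 1) := by rw [rt_zero_one]; exact isRoot_sr cs h j
include hA in
theorem rb : IsRoot cs h (T5Root.rt i j 1 1) := by
  have := (rg (cs := cs) (h := h) (i := i) (j := j)).act (cs.simple i)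
  rw [rep_left, hA] at this
  simpa using this
theorem rn : IsRoot cs h (T5Root.rt i j (-1) 0) := by
  have := (ra (cs := cs) (h := h) (i := i) (j := j)).neg
  rwa [rt_neg, neg_zero] at this

include hI hij hA

theorem comm_SS {x1 x2 : ℤ} (hr : IsRoot cs h (T5Root.rt i j x1 x2)) (hx : (x1 = 1 ∧ x2 = 0) ∨ (x1 = 0 ∧ x2 = 1) ∨
    (x1 = 1 ∧ x2 = 1) ∨ (x1 = -1 ∧ x2 = 0)) {u : Y} (hu : u ∈ X (T5Root.rt i j x1 x2)) {z : I → ℤ}
    (hz : z ∈ SS cs h i j) {v : Y} (hv : v ∈ X z) : ⁅u, v⁆ ∈ NS := by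
  have hne : T5Root.rt i j x1 x2 ≠ z := by
    rintro rfl
    rcases hx with ⟨rfl, rfl⟩ | ⟨rfl, rfl⟩ | ⟨rfl, rfl⟩ | ⟨rfl, rfl⟩
    · exact hz.2.2.1 rfl
    · exact hz.2.2.2.1 rfl
    · exact hz.2.2.2.2 rfl
    · have := (rt_nonneg hij).1 hz.2.1
      omega
  have hne' : T5Root.rt i j x1 x2 ≠ -z := by
    intro h1
    have h2 : z = T5Root.rt i j (-x1) (-x2) := by rw [← rt_neg, h1, neg_neg]
    rw [h2] at hz
    have h3 := (rt_nonneg hij).1 hz.2.1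
    rcases hx with ⟨rfl, rfl⟩ | ⟨rfl, rfl⟩ | ⟨rfl, rfl⟩ | ⟨rfl, rfl⟩
    · omega
    · omega
    · omega
    · exact hz.2.2.1 (by norm_num)
  refine FS_le (G := X) (S := {t | IB cs h (T5Root.rt i j x1 x2) z t}) ?_ (hI _ _ hr hz.1 hne hne' u hu v hv)
  intro t ht
  exact RGD.le_Sup (mem_SS_of_IB hij hA hx hz ht)

theorem nrm_SS {x1 x2 : ℤ} (hr : IsRoot cs h (T5Root.rt i j x1 x2)) (hx : (x1 = 1 ∧ x2 = 0) ∨ (x1 = 0 ∧ x2 = 1) ∨
    (x1 = 1 ∧ x2 = 1) ∨ (x1 = -1 ∧ x2 = 0)) {u : Y} (hu : u ∈ X (T5Root.rt i j x1 x2)) :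
    ∀ k ∈ NS, u * k * u⁻¹ ∈ NS := by
  intro k hk
  have h1 : NS ≤ (NS).comap (MulAut.conj u).toMonoidHom := by
    refine RGD.Sup_le fun z hz v hv => ?_
    show u * v * u⁻¹ ∈ NS
    exact conj_of_comm (comm_SS hI hij hA hr hx hu hz hv) (RGD.le_Sup hz hv)
  exact h1 hk

theorem nrmA {u : Y} (hu : u ∈ XA) : ∀ k ∈ NS, u * k * u⁻¹ ∈ NS := nrm_SS hI hij hA ra (Or.inl ⟨rfl, rfl⟩) hu
theorem nrmG {u : Y} (hu : u ∈ XG) : ∀ k ∈ NS, u * k * u⁻¹ ∈ NS :=
  nrm_SS hI hij hA rg (Or.inr (Or.inl ⟨rfl, rfl⟩)) hu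
theorem nrmB {u : Y} (hu : u ∈ XB) : ∀ k ∈ NS, u * k * u⁻¹ ∈ NS :=
  nrm_SS hI hij hA (rb hA) (Or.inr (Or.inr (Or.inl ⟨rfl, rfl⟩))) hu
theorem nrmN {u : Y} (hu : u ∈ XN) : ∀ k ∈ NS, u * k * u⁻¹ ∈ NS :=
  nrm_SS hI hij hA rn (Or.inr (Or.inr (Or.inr ⟨rfl, rfl⟩))) hu

theorem cAG {u v : Y} (hu : u ∈ XA) (hv : v ∈ XG) : ⁅u, v⁆ ∈ XB ⊔ NS := by
  refine comm_le hI hij ra rg (by norm_num) (by norm_num) (fun m k hm hk hz => ?_) hu hv
  by_cases h1 : m = 1 ∧ k = 1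
  · have e : T5Root.rt i j (m * 1 + k * 0) (m * 0 + k * 1) = T5Root.rt i j 1 1 := by rw [h1.1, h1.2]; norm_num
    rw [e]; exact le_sup_left
  · exact le_trans (RGD.le_Sup (mem_SS_rt hij hz ⟨by omega, by omega⟩ (by omega) (by omega) (by omega))) le_sup_right

theorem cAB {u v : Y} (hu : u ∈ XA) (hv : v ∈ XB) : ⁅u, v⁆ ∈ NS := by
  refine comm_le hI hij ra (rb hA) (by norm_num) (by norm_num) (fun m k hm hk hz => ?_) hu hv
  exact RGD.le_Sup (mem_SS_rt hij hz ⟨by omega, by omega⟩ (by omega) (by omega) (by omega))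

theorem cGB {u v : Y} (hu : u ∈ XG) (hv : v ∈ XB) : ⁅u, v⁆ ∈ NS := by
  refine comm_le hI hij rg (rb hA) (by norm_num) (by norm_num) (fun m k hm hk hz => ?_) hu hv
  exact RGD.le_Sup (mem_SS_rt hij hz ⟨by omega, by omega⟩ (by omega) (by omega) (by omega))

theorem cNG {u v : Y} (hu : u ∈ XN) (hv : v ∈ XG) : u * v = v * u := by
  refine commute_of hI hij rn rg (by norm_num) (by norm_num) (fun m k hm hk hz => ?_) hu hv
  have := (rt_sign hij hz).1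
  omega

theorem cNB {u v : Y} (hu : u ∈ XN) (hv : v ∈ XB) : ⁅u, v⁆ ∈ XG ⊔ NS := by
  refine comm_le hI hij rn (rb hA) (by norm_num) (by norm_num) (fun m k hm hk hz => ?_) hu hv
  have h1 := (rt_sign hij hz).1
  by_cases h2 : m = 1 ∧ k = 1
  · have e : T5Root.rt i j (m * (-1) + k * 1) (m * 0 + k * 1) = T5Root.rt i j 0 1 := by rw [h2.1, h2.2]; norm_num
    rw [e]; exact le_sup_left
  · exact le_trans (RGD.le_Sup (mem_SS_rt hij hz ⟨by omega, by omega⟩ (by omega) (by omega) (by omega))) le_sup_right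

end Comm

section Main

variable [Finite W] (R : RGD cs h p T n X) (hI : IntComm cs h X) (hij : i ≠ j) (hA : A i j = -1)

include R

omit [Finite W] in
include hA in
theorem mG {m v : Y} (hm : Rp cs R.nsys (cs.simple i) m) (hv : v ∈ XG) : m * v * m⁻¹ ∈ XB := by
  have := R.conj_mem hm rg hv
  rw [rep_left, hA] at this
  simpa using this

omit [Finite W] in
include hA in
theorem mB {m v : Y} (hm : Rp cs R.nsys (cs.simple i) m) (hv : v ∈ XB) : m * v * m⁻¹ ∈ XG := by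
  have := R.conj_mem hm (rb hA) hv
  rw [rep_left, hA] at this
  simpa using this

omit [Finite W] in
include hij hA in
theorem mS {m v : Y} (hm : Rp cs R.nsys (cs.simple i) m) (hv : v ∈ NS) : m * v * m⁻¹ ∈ VJ cs h X {j} := by
  rw [V_eq]
  refine conj_mem_Sup R hm (fun x hx => hx.1) (fun x hx => ?_) hv
  refine ⟨hx.1.act _, ?_, ?_⟩
  · exact hx.1.simple_nonneg hx.2.1 i (by rw [← rt_one_zero i j]; exact hx.2.2.1)
  · intro h1
    apply hx.2.2.2.2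
    have h2 := congrArg (rep cs h (cs.simple i)) h1
    rw [← rep_mul_apply, cs.simple_mul_simple_self, map_one, Module.End.one_apply, ← rt_zero_one i j, rep_left,
      hA] at h2
    rw [h2]; norm_num

omit [Finite W] in
omit R in
include hij hA in
theorem XB_le : XB ≤ VJ cs h X {j} :=
  RGD.le_Sup (S := NotJ cs h {j}) (z := T5Root.rt i j 1 1)
    ⟨rb hA, (rt_nonneg hij).2 ⟨by norm_num, by norm_num⟩, i, fun h1 => hij h1, by rw [rt_left hij]; norm_num⟩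

omit [Finite W] in
omit R in
include hij hA in
theorem NS_le : NS ≤ VJ cs h X {j} := by
  rw [V_eq]
  refine RGD.Sup_mono fun x hx => ⟨hx.1, hx.2.1, ?_⟩
  rw [← rt_zero_one i j]
  exact hx.2.2.2.1

include hI hij hA

theorem inf_NB {r : Y} (h1 : r ∈ XB) (h2 : r ∈ NS) : r = 1 := by
  have hm := rp_simple cs R.nsys i
  have h3 := mB R hA hm h1
  rw [rt_zero_one] at h3
  have h4 := X_inf_V R h3 (mS R hij hA hm h2)
  calc r = (n i)⁻¹ * (n i * r * (n i)⁻¹) * n i := by group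
    _ = 1 := by rw [h4]; group

theorem pNB : CPair NS XB := ⟨fun _ hr k hk => nrmB hI hij hA hr k hk, fun _ h1 h2 => inf_NB R hI hij hA h1 h2⟩

theorem pG : CPair (NS ⊔ XB) XG := by
  refine ⟨fun g hg k hk => ?_, fun r h1 h2 => ?_⟩
  · refine conj_sup (K := NS ⊔ XB) (fun x hx => Subgroup.mem_sup_left (nrmG hI hij hA hg x hx)) (fun x hx => ?_) k hk
    exact conj_of_comm (Subgroup.mem_sup_left (cGB hI hij hA hg hx)) (Subgroup.mem_sup_right hx)
  · rw [rt_zero_one] at h1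
    exact X_inf_V R h1 ((sup_le (NS_le hij hA) (XB_le hij hA) : NS ⊔ XB ≤ VJ cs h X {j}) h2)

theorem pGN : CPair (XG ⊔ NS) XB := by
  refine ⟨fun g hg k hk => ?_, fun r h1 h2 => ?_⟩
  · refine conj_sup (K := XG ⊔ NS) (fun x hx => ?_) (fun x hx => Subgroup.mem_sup_right (nrmB hI hij hA hg x hx)) k hk
    exact conj_of_comm (Subgroup.mem_sup_right (comm_swap (cGB hI hij hA hx hg))) (Subgroup.mem_sup_left hx)
  · have hm := rp_simple cs R.nsys i
    have h3 := mB R hA hm h1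
    rw [rt_zero_one] at h3
    have h4 : n i * r * (n i)⁻¹ ∈ VJ cs h X {j} :=
      conj_sup (K := VJ cs h X {j}) (fun x hx => XB_le hij hA (mG R hA hm hx)) (fun x hx => mS R hij hA hm hx) r h2
    have h5 := X_inf_V R h3 h4
    calc r = (n i)⁻¹ * (n i * r * (n i)⁻¹) * n i := by group
      _ = 1 := by rw [h5]; group

theorem E_ex {u x : Y} (hu : u ∈ XA) (hx : x ∈ XG) : ∃ b, Cp NS XB ⁅u, x⁆ b := by
  refine (pNB R hI hij hA).ex ?_
  rw [sup_comm]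
  exact cAG hI hij hA hu hx

theorem E_mul_left {u u' x b b' : Y} (hu : u ∈ XA) (h1 : Cp NS XB ⁅u, x⁆ b) (h2 : Cp NS XB ⁅u', x⁆ b') :
    Cp NS XB ⁅u * u', x⁆ (b' * b) := by
  have e : ⁅u * u', x⁆ = u * ⁅u', x⁆ * u⁻¹ * ⁅u, x⁆ := by simp only [commutatorElement_def]; group
  rw [e]
  exact (pNB R hI hij hA).mul (h2.conj' (nrmA hI hij hA hu) fun k hk => cAB hI hij hA hu hk) h1

/-- `⁅u, x⁆ ≡ m x m⁻¹` for `m = y u y'` -/
theorem E_mu {u x y y' m : Y} (hu : u ∈ XA) (hx : x ∈ XG) (hy : y ∈ XN) (hy' : y' ∈ XN)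
    (hm : Rp cs R.nsys (cs.simple i) m) (hme : m = y * u * y') : Cp NS XB ⁅u, x⁆ (m * x * m⁻¹) := by
  obtain ⟨b, hb, ht⟩ := E_ex R hI hij hA hu hx
  have e1 : y' * x * y'⁻¹ = x := by rw [cNG hI hij hA hy' hx]; group
  have e3 : m * x * m⁻¹ = y * (⁅u, x⁆ * x) * y⁻¹ := by
    calc m * x * m⁻¹ = y * (u * (y' * x * y'⁻¹) * u⁻¹) * y⁻¹ := by rw [hme]; group
      _ = _ := by rw [e1, commutatorElement_def]; group
  have P := pGN R hI hij hA
  have h1 : Cp (XG ⊔ NS) XB (⁅u, x⁆ * x) (b * 1) :=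
    P.mul ⟨hb, Subgroup.mem_sup_right ht⟩ (Cp.of_K (Subgroup.mem_sup_left hx))
  have h2 : Cp (XG ⊔ NS) XB (m * x * m⁻¹) b := by
    rw [e3]
    rw [mul_one] at h1
    refine h1.conj' (fun k hk => ?_) fun k hk => cNB hI hij hA hy hk
    exact conj_sup (K := XG ⊔ NS) (fun z hz => conj_of_commute (cNG hI hij hA hy hz) (Subgroup.mem_sup_left hz))
      (fun z hz => Subgroup.mem_sup_right (nrmN hI hij hA hy z hz)) k hk
  have h3 := P.uniq h2 (Cp.of_L (mG R hA hm hx))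
  rw [← h3]
  exact ⟨hb, ht⟩

omit hI hij hA in
theorem mu_i' {u : Y} (hu : u ∈ XA) (hu1 : u ≠ 1) : ∃ y ∈ XN, ∃ y' ∈ XN, ∃ m, Rp cs R.nsys (cs.simple i) m ∧
    m = y * u * y' := by
  rw [rt_one_zero] at hu
  obtain ⟨a, ha, b, hb, m, hm, e⟩ := exists_mu_simple R hu hu1
  rw [neg_i (j := j)] at ha hb
  exact ⟨a, ha, b, hb, m, hm, e⟩

theorem E_surj [Finite Y] (hc : Nat.card (X (sr i)) = Nat.card (X (sr j))) {x : Y} (hx : x ∈ XG) (hx1 : x ≠ 1)
    {b : Y} (hb : b ∈ XB) : ∃ u ∈ XA, Cp NS XB ⁅u, x⁆ b := by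
  have P := pNB R hI hij hA
  choose f hf using fun u : ↥(XA) => E_ex R hI hij hA u.2 hx
  let F : ↥(XA) → ↥(XB) := fun u => ⟨f u, (hf u).1⟩
  have hF : Function.Injective F := by
    intro u u' e
    have e1 : f u = f u' := congrArg Subtype.val e
    by_contra hne
    have hne' : ((u'⁻¹ * u : ↥(XA)) : Y) ≠ 1 := fun h1 => hne (by
      have h2 : u'⁻¹ * u = 1 := Subtype.ext h1
      exact (inv_mul_eq_one.1 h2).symm)
    have h1 : Cp NS XB ⁅(u'⁻¹ : Y) * u, x⁆ (f u * (f u')⁻¹) := by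
      refine E_mul_left R hI hij hA (inv_mem u'.2) ?_ (hf u)
      obtain ⟨b2, hb2⟩ := E_ex R hI hij hA (inv_mem u'.2) hx
      have h3 := E_mul_left R hI hij hA (inv_mem u'.2) hb2 (hf u')
      rw [inv_mul_cancel, commutatorElement_one_left] at h3
      have h4 : f u' * b2 = 1 := P.uniq h3 (Cp.of_K (one_mem _))
      rwa [eq_inv_of_mul_eq_one_right h4] at hb2
    rw [e1, mul_inv_cancel] at h1
    have hw : (u' : Y)⁻¹ * u ∈ XA := mul_mem (inv_mem u'.2) u.2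
    obtain ⟨y, hy, y', hy', m, hm, hme⟩ := mu_i' (j := j) R hw hne'
    have h2 := P.uniq h1 (E_mu R hI hij hA hw hx hy hy' hm hme)
    apply hx1
    calc x = m⁻¹ * (m * x * m⁻¹) * m := by group
      _ = 1 := by rw [← h2]; group
  have hcard : Nat.card ↥(XB) ≤ Nat.card ↥(XA) := by
    have h1 : Nat.card ↥(XB) ≤ Nat.card ↥(XG) := by
      refine Nat.card_le_card_of_injective (fun v : ↥(XB) => (⟨n i * v * (n i)⁻¹, mB R hA (rp_simple cs R.nsys i) v.2⟩ :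
        ↥(XG))) ?_
      intro v v' e
      have e1 : n i * (v : Y) * (n i)⁻¹ = n i * v' * (n i)⁻¹ := congrArg Subtype.val e
      exact Subtype.ext (mul_left_cancel (mul_right_cancel e1))
    rw [rt_zero_one, ← hc] at h1
    rwa [rt_one_zero]
  have hS : Function.Surjective F := by
    have h1 : Nat.card ↥(XA) = Nat.card ↥(XB) := le_antisymm (Nat.card_le_card_of_injective F hF) hcard
    exact ((Nat.bijective_iff_injective_and_card F).2 ⟨hF, h1⟩).2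
  obtain ⟨u, hu⟩ := hS ⟨b, hb⟩
  refine ⟨u, u.2, ?_⟩
  have := hf u
  rwa [show f u = b from congrArg Subtype.val hu] at this

/-- **Every element of `V_i` has a `P_i`-conjugate in `V_j`.** -/
theorem exists_to_V [Finite Y] (hc : Nat.card (X (sr i)) = Nat.card (X (sr j))) {e : Y} (he : e ∈ VJ cs h X {i}) :
    ∃ g ∈ PJ cs h T X {i}, g * e * g⁻¹ ∈ VJ cs h X {j} := by
  have hle : VJ cs h X {i} ≤ NS ⊔ XB ⊔ XG := by
    rw [V_eq]
    refine RGD.Sup_le fun x hx => ?_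
    obtain ⟨hx1, hx0, hx2⟩ := hx
    by_cases h1 : x = T5Root.rt i j 0 1
    · rw [h1]; exact le_sup_right
    by_cases h2 : x = T5Root.rt i j 1 1
    · rw [h2]; exact le_trans le_sup_right le_sup_left
    refine le_trans (RGD.le_Sup (S := SS cs h i j) ⟨hx1, hx0, ?_, h1, h2⟩) (le_trans le_sup_left le_sup_left)
    rw [rt_one_zero]
    exact hx2
  have hleV : NS ⊔ XB ≤ VJ cs h X {j} := sup_le (NS_le hij hA) (XB_le hij hA)
  obtain ⟨a, ha, ht⟩ := (pG R hI hij hA).ex (hle he)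
  by_cases ha1 : a = 1
  · subst ha1
    rw [inv_one, mul_one] at ht
    exact ⟨1, one_mem _, by rw [one_mul, inv_one, mul_one]; exact hleV ht⟩
  have P := pNB R hI hij hA
  obtain ⟨b, hb, hk⟩ := P.ex ht
  obtain ⟨u, hu, hub⟩ := E_surj R hI hij hA hc ha ha1 (inv_mem hb)
  have hni : n i ∈ PJ cs h T X {i} := LJ_le_PJ (n_mem_LJ R rfl)
  have huP : u ∈ PJ cs h T X {i} := by
    rw [rt_one_zero] at hu
    exact LJ_le_PJ (X_le_LJ (PosJ_subset {i} (sr_mem_PosJ rfl)) hu)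
  refine ⟨n i * u, mul_mem hni huP, ?_⟩
  -- `u e u⁻¹ = k a`
  have h1 : Cp NS XB (u * (e * a⁻¹) * u⁻¹) b := Cp.conj' (nrmA hI hij hA hu) (fun k hk => cAB hI hij hA hu hk) ⟨hb, hk⟩
  have h2 := P.mul h1 hub
  rw [mul_inv_cancel] at h2
  have h3 : u * e * u⁻¹ * a⁻¹ ∈ NS := by
    have e1 : u * (e * a⁻¹) * u⁻¹ * ⁅u, a⁆ = u * e * u⁻¹ * a⁻¹ := by rw [commutatorElement_def]; group
    rw [e1] at h2
    exact h2.mem
  have e2 : n i * u * e * (n i * u)⁻¹ = (n i * (u * e * u⁻¹ * a⁻¹) * (n i)⁻¹) * (n i * a * (n i)⁻¹) := by group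
  rw [e2]
  exact mul_mem (mS R hij hA (rp_simple cs R.nsys i) h3) (XB_le hij hA (mG R hA (rp_simple cs R.nsys i) ha))

end Main

/-- **Double bonds**: the long end of a double bond belongs to `T(d)`. -/
theorem nt_long_four [Finite W] [Finite Y] [Fact p.Prime] (hp : p ≠ 2) (R : RGD cs h p T n X) (hI : IntComm cs h X)
    (hij : i ≠ j) (hA1 : A i j = -1) (hA2 : A j i = -2) (hM : M i j = 4)
    (hc : Nat.card (X (sr i)) = Nat.card (X (sr j))) {d : Y} (hd : NT cs h X d j) : NT cs h X d i := by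
  by_contra hdi
  obtain ⟨g0, hd1, hd2⟩ := hd
  obtain ⟨g, hg, hg'⟩ := exists_to_V R hI hij hA1 hc (mem_V_of_not_NT hdi g0 hd1)
  obtain ⟨y, hy1, hy2⟩ := exists_ball_of_mem R hd2 hdi ⟨g, hg, hg'⟩
  exact ball_false_of_nc R hM (nc_of_intComm hp R hI hij hA1 hA2) hy1 hy2

/-- **Triple bonds**: the long end belongs to `T(d)`. -/
theorem nt_long_six [Finite W] [Finite Y] [Fact p.Prime] (hp : 5 ≤ p) (R : RGD cs h p T n X) (D : G2 cs h X i j)
    (hall : ∀ k : I, k = i ∨ k = j)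
    (hc : Nat.card (X (sr i)) = Nat.card (X (sr j))) {d : Y} (hd : NT cs h X d j) : NT cs h X d i := by
  by_contra hdi
  obtain ⟨g0, hd1, hd2⟩ := hd
  obtain ⟨g, hg, hg'⟩ := exists_to_V R D.int D.ne D.a1 hc (mem_V_of_not_NT hdi g0 hd1)
  obtain ⟨y, hy1, hy2⟩ := exists_ball_of_mem R hd2 hdi ⟨g, hg, hg'⟩
  refine T5GFour.ball_false_of_G2 R D hall hp (e := y * d * y⁻¹) (fun h1 => hy1 (by rw [h1]; exact one_mem _)) hy2 ?_
  exact fun h1 => hdi (h1.of_conj y)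

end Cfsg.Agent.H798.T5Long
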