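import Cfsg.Agent.H256.SporB
import Cfsg.Agent.NotCT.Orders
import Cfsg.Agent.KFacts.ON.Qs
import Cfsg.Agent.KFacts.ON.OneClass

/-!
# The `Z*_p` theorem, `p` odd: the row `ON`

`C(f)` has the quasisimple subgroup `J = C(v)` of index two, `J / Z(J) ≅ L₃(4)`, `Z(J) = ⟨v⟩` cyclic of
order four, `Z(S) = ⟨f⟩`.
-/

set_option autoImplicit false

namespace Cfsg.Agent.H798.RowON

open Subgroup Cfsg Cfsg.Agent.H256.ZBasic Cfsg.Agent.H256.ZRed Cfsg.Agent.H256.ZTool
  Cfsg.Agent.H256.OddInner Cfsg.Agent.H256.Spor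
open Cfsg.Agent.SporadicB.ON45Word (on)
open Cfsg.Agent.KFacts.ON.Struct Cfsg.Agent.KFacts.ON.OneClass Cfsg.Agent.KFacts.ON.Qs
open Cfsg.Agent.ONType
open Cfsg.Agent.ONType.TupK (K0)

universe u v

theorem card_quot : Nat.card (J ⧸ center J) = 20160 := by
  have := Cfsg.Agent.KFacts.ON.Cent.finite_ON
  have h1 : (center J).map J.subtype = zpowers Cfsg.Agent.KFacts.ON.Words.v := by
    ext x
    constructor
    · rintro ⟨c, hc, rfl⟩
      exact mem_center.1 hc
    · intro hx
      have hxJ : x ∈ J := (zpowers_le.2 vJ) hx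
      exact ⟨⟨x, hxJ⟩, mem_center.2 hx, rfl⟩
  have h2 : Nat.card (center J) = 4 := by
    rw [Nat.card_congr ((center J).equivMapOfInjective J.subtype (subtype_injective _)).toEquiv, h1,
      Nat.card_zpowers]
    have h4 : orderOf Cfsg.Agent.KFacts.ON.Words.v ∣ 2 ^ 2 := orderOf_dvd_of_pow_eq_one v4
    have hne : ¬ Cfsg.Agent.KFacts.ON.Words.v ^ 2 ^ 1 = 1 := by
      rw [pow_one, pow_two, Cfsg.Agent.KFacts.ON.Words.vv]
      exact f_ne_one
    exact orderOf_eq_prime_pow (p := 2) (n := 1) hne (by simpa using v4)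
  have h3 := Subgroup.card_eq_card_quotient_mul_card_subgroup (center J)
  rw [card_J, h2] at h3
  omega

theorem not_comm : ∃ a b : J ⧸ center J, a * b ≠ b * a := by
  have hs := simple_J
  by_contra hcon
  push Not at hcon
  have := isPerfect_J
  have h1 : commutator (J ⧸ center J) = ⊥ := by
    rw [_root_.commutator_def, commutator_eq_bot_iff_le_centralizer]
    intro a _ b _
    exact hcon _ _
  have h2 : commutator (J ⧸ center J) = ⊤ := by
    have h3 : commutator J = ⊤ := Group.IsPerfect.commutator_eq_top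
    have h4 := congrArg (Subgroup.map (QuotientGroup.mk' (center J))) h3
    rw [_root_.commutator_def, map_commutator, Subgroup.map_top_of_surjective _ (QuotientGroup.mk'_surjective _)] at h4
    exact h4
  rw [h1] at h2
  exact bot_ne_top h2

theorem no_min {p : ℕ} (hp : p.Prime) (hp2 : p ≠ 2) (hd : p ∣ 20160) (y : Cfsg.Spor.ON) (hy : MinCex p y) :
    False := by
  have hf : Fact p.Prime := ⟨hp⟩
  have hfin := Cfsg.Agent.KFacts.ON.Cent.finite_ON
  have hs := simple_J
  refine false_of_hom (z := on .f) hy hp2 ff f_ne_one ?_ (P := J) ?_ ?_ ?_ not_comm ?_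
    (QuotientGroup.mk' (center J)) (QuotientGroup.mk'_surjective _) ?_
  · obtain ⟨S, hS⟩ := exists_sylow
    refine ⟨S, ?_, ?_, ?_⟩
    · show on .f ∈ (S : Subgroup _)
      rw [hS]
      exact (TupS.T0_le_S Cfsg.Agent.KFacts.ON.OneClass.hs) (TupT0.f_mem Cfsg.Agent.KFacts.ON.OneClass.hs)
    · intro x hx
      have hx' : x ∈ (S : Subgroup _) := hx
      rw [hS] at hx'
      exact Cfsg.Agent.KFacts.ON.Struct.mem_K0.1 (TupS.S_le Cfsg.Agent.KFacts.ON.OneClass.hs hx')
    · intro w hw _ hc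
      have hw' : w ∈ (S : Subgroup _) := hw
      rw [hS] at hw'
      exact center_S hw' fun x hx => hc x (by
        show x ∈ (S : Subgroup _)
        rw [hS]; exact hx)
  · intro h
    exact d_not_mem (by rw [h]; trivial)
  · intro x hx
    exact Cfsg.Agent.KFacts.ON.Struct.mem_K0.1 (J_le hx)
  · apply idx_of_rel
    right
    have h1 : centralizer ({on .f} : Set Cfsg.Spor.ON) = K0 := by
      ext x
      rw [mem_centralizer_singleton_iff]
      exact Cfsg.Agent.KFacts.ON.Struct.mem_K0.symm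
    rw [h1]
    exact index_J
  · rw [card_quot]; exact hd
  · intro x hx h
    have h1 : x ∈ center J := (QuotientGroup.eq_one_iff x).1 hx
    have h2 : (x : Cfsg.Spor.ON) ∈ zpowers Cfsg.Agent.KFacts.ON.Words.v := mem_center.1 h1
    obtain ⟨k, hk⟩ := mem_zpowers_iff.1 h2
    have h3 : x ^ 4 = 1 := by
      apply Subtype.ext
      show (x : Cfsg.Spor.ON) ^ 4 = 1
      rw [← hk, ← zpow_natCast, ← zpow_mul, mul_comm, zpow_mul, zpow_natCast, v4, one_zpow]
    have h4 := orderOf_dvd_of_pow_eq_one h3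
    rw [h] at h4
    have h5 : p ∣ 2 ^ 2 := h4
    exact hp2 ((Nat.prime_dvd_prime_iff_eq hp Nat.prime_two).1 (hp.dvd_of_dvd_pow h5))

theorem on {K : Type v} [Group K] {p : ℕ} (h : Spor.IsoON K) (hp : p.Prime) (hp2 : p ≠ 2) :
    Row.{u} p K := by
  refine row_spor hp hp2 (Cfsg.Agent.H256.OddInner.on h) fun _ _ _ _ hc y hy => ?_
  rw [Cfsg.Agent.NotCT.Orders.on h] at hc
  obtain ⟨q, hq, hqp⟩ := mem_of_cube hp [(2, 9), (3, 4), (5, 1), (7, 3), (11, 1), (19, 1), (31, 1)]
    (by decide +kernel) (by norm_num) ((dvd_pow_self p three_ne_zero).trans hc)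
  have hd : p ∣ 20160 := by
    fin_cases hq <;> simp only at hqp <;> subst hqp <;>
      first | exact absurd rfl hp2 | (norm_num; done) | exact absurd hc (by norm_num)
  obtain ⟨e⟩ := h
  exact no_min hp hp2 hd (e y) (MinCex.map hy e)

end Cfsg.Agent.H798.RowON
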