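import Cfsg.Agent.H129.UntwT
import Cfsg.Agent.H129.DataF4h
import Cfsg.Agent.S1092
import Cfsg.Agent.S2372

/-!
# The torus of order `q⁴ - q² + 1` of `F₄(q)`: centralisers and Sylow subgroups (helper798)
-/

set_option autoImplicit false

namespace Cfsg.Agent.H798.RowTw

open Subgroup

/-- **The torus of order `q⁴ - q² + 1` of `F₄(q)`.** -/
theorem f4_torus {F : Type*} [Field F] [Fintype F] (q : ℕ) (hF : Fintype.card F = q) :
    ∃ T : Subgroup ↥(Cfsg.Lie.chevF4.group F), IsCyclic ↥T ∧ Nat.card ↥T + q ^ 2 = q ^ 4 + 1 ∧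
      ∀ r : ℕ, r.Prime → ∀ y ∈ T, orderOf y = r → Subgroup.centralizer {y} ≤ T := by
  have hq2 : 2 ≤ q := by rw [← hF]; exact Fintype.one_lt_card
  have hp : Cfsg.Agent.Nodes.RGDChev.IsType Cfsg.Lie.chevF4 4 CoxeterMatrix.F₄ := by simp
  have hW : Nat.card CoxeterMatrix.F₄.Group = 1152 :=
    Cfsg.Agent.S1092.result (⟨4, CoxeterMatrix.F₄⟩, 1152) (by simp)
  have : Finite CoxeterMatrix.F₄.Group := Nat.finite_of_card_ne_zero (by rw [hW]; norm_num)
  have hle : q ^ 2 ≤ q ^ 4 := Nat.pow_le_pow_right (by omega) (by norm_num)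
  obtain ⟨N, hN⟩ : ∃ N, N = q ^ 4 + 1 - q ^ 2 := ⟨_, rfl⟩
  have hN' : N + q ^ 2 = q ^ 4 + 1 := by omega
  have hNz : (N : ℤ) = 1 - (q : ℤ) ^ 2 + (q : ℤ) ^ 4 := by
    have h : ((N + q ^ 2 : ℕ) : ℤ) = ((q ^ 4 + 1 : ℕ) : ℤ) := by rw [hN']
    push_cast at h
    linarith
  obtain ⟨T, h1, h2, h3, h4, -⟩ := Cfsg.Agent.H129.UntwT.untw_T hp CoxeterMatrix.F₄.toCoxeterSystem (by norm_num) hF
    Cfsg.Agent.H129.TorusChar.invC_F4 one_ne_zero Cfsg.Agent.H129.DataF4h.hA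
    Cfsg.Agent.H129.DataF4h.chainOK Cfsg.Agent.H129.DataF4h.cycOK Cfsg.Agent.H129.DataF4h.rootOK
    (N := N) (d := 1) (by rw [Cfsg.Agent.H129.DataF4h.fN_eq, hNz])
    (Cfsg.Agent.H129.UntwData.coprime_of_eq (a := (q : ℤ) ^ 3 - q) (by rw [hNz]; ring)) (Or.inl rfl)
  rw [one_mul] at h3
  have hTN : Nat.card ↥T = N := Nat.dvd_antisymm h2 h3
  refine ⟨T, h1, by rw [hTN, hN'], fun r hr y hy hyr => ?_⟩
  have hrN : r ∣ N := by
    rw [← hTN, ← hyr, ← Subgroup.orderOf_mk y hy]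
    exact orderOf_dvd_natCard _
  have hrz : (r : ℤ) ∣ 1 - (q : ℤ) ^ 2 + (q : ℤ) ^ 4 := by
    rw [← hNz]; exact Int.natCast_dvd_natCast.2 hrN
  have hr2 : r ≠ 2 := by
    rintro rfl
    have h5 : (2 : ℤ) ∣ 1 - (q : ℤ) ^ 2 + (q : ℤ) ^ 4 := by exact_mod_cast hrz
    have h6 : (1 - (q : ℤ) ^ 2 + (q : ℤ) ^ 4) % 2 = 1 := by
      rcases Int.even_or_odd' (q : ℤ) with ⟨c, hc | hc⟩ <;> rw [hc] <;> ring_nf <;> omega
    omega
  have hr3 : r ≠ 3 := by
    rintro rfl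
    have h5 : (3 : ℤ) ∣ 1 - (q : ℤ) ^ 2 + (q : ℤ) ^ 4 := by exact_mod_cast hrz
    have h6 : ((q : ℤ) % 3 = 0 ∨ (q : ℤ) % 3 = 1 ∨ (q : ℤ) % 3 = 2) := by omega
    have h7 : (1 - (q : ℤ) ^ 2 + (q : ℤ) ^ 4) % 3 = 1 := by
      rcases h6 with h | h | h
      · obtain ⟨c, hc⟩ : ∃ c : ℤ, (q : ℤ) = 3 * c := ⟨(q : ℤ) / 3, by omega⟩
        rw [hc]; ring_nf; omega
      · obtain ⟨c, hc⟩ : ∃ c : ℤ, (q : ℤ) = 3 * c + 1 := ⟨(q : ℤ) / 3, by omega⟩
        rw [hc]; ring_nf; omega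
      · obtain ⟨c, hc⟩ : ∃ c : ℤ, (q : ℤ) = 3 * c + 2 := ⟨(q : ℤ) / 3, by omega⟩
        rw [hc]; ring_nf; omega
    omega
  refine h4 r hr ?_ ?_ y hy hyr
  · rw [hW]
    intro h
    have h5 : (1152 : ℕ) = 2 ^ 7 * 3 ^ 2 := by norm_num
    rw [h5] at h
    rcases (Nat.Prime.dvd_mul hr).1 h with h | h
    · exact hr2 ((Nat.prime_dvd_prime_iff_eq hr Nat.prime_two).1 (hr.dvd_of_dvd_pow h))
    · exact hr3 ((Nat.prime_dvd_prime_iff_eq hr Nat.prime_three).1 (hr.dvd_of_dvd_pow h))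
  · intro s hs
    rcases Cfsg.Agent.H129.DataF4h.dvd_of_G hrz s hs with h1 | h1
    · exact hr.one_lt.ne' (Nat.dvd_one.1 (by exact_mod_cast h1))
    · exact hr2 ((Nat.prime_dvd_prime_iff_eq hr Nat.prime_two).1 (by exact_mod_cast h1))

section Hall

variable {G : Type*} [Group G] [Finite G] {T : Subgroup G}

/-- A Sylow subgroup of `G` meeting the isolated torus lies in it. -/
theorem le_of_mem (hT : IsCyclic ↥T) (hc : ∀ r : ℕ, r.Prime → ∀ y ∈ T, orderOf y = r → centralizer {y} ≤ T)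
    {r : ℕ} [hr : Fact r.Prime] (R : Sylow r G) {y : G} (hy : y ∈ T) (hyr : orderOf y = r) (hyR : y ∈ (R : Subgroup G)) :
    (R : Subgroup G) ≤ T := by
  have hR1 : (R : Subgroup G) ≠ ⊥ := by
    intro h
    rw [h, mem_bot] at hyR
    rw [hyR, orderOf_one] at hyr
    exact hr.1.one_lt.ne hyr
  have hnt : Nontrivial ↥(R : Subgroup G) := (Subgroup.nontrivial_iff_ne_bot _).2 hR1
  have hZ : Nontrivial (center ↥(R : Subgroup G)) := R.isPGroup'.center_nontrivial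
  have hpZ : IsPGroup r ↥(center ↥(R : Subgroup G)) := R.isPGroup'.to_subgroup _
  obtain ⟨n, hn0, hn⟩ := (hpZ.nontrivial_iff_card).1 hZ
  have hdv : r ∣ Nat.card ↥(center ↥(R : Subgroup G)) := by rw [hn]; exact dvd_pow_self _ hn0.ne'
  obtain ⟨z, hz⟩ := exists_prime_orderOf_dvd_card' r hdv
  have hz' : orderOf ((z : ↥(R : Subgroup G)) : G) = r := by
    rw [Subgroup.orderOf_coe, Subgroup.orderOf_coe, hz]
  have hzc : ∀ w ∈ (R : Subgroup G), w * ((z : ↥(R : Subgroup G)) : G) = ((z : ↥(R : Subgroup G)) : G) * w := by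
    intro w hw
    exact congrArg Subtype.val (mem_center_iff.1 z.2 ⟨w, hw⟩)
  have hzT : ((z : ↥(R : Subgroup G)) : G) ∈ T := by
    apply hc r hr.1 y hy hyr
    rw [mem_centralizer_singleton_iff]
    exact (hzc y hyR).symm
  intro w hw
  apply hc r hr.1 _ hzT hz'
  rw [mem_centralizer_singleton_iff]
  exact hzc w hw

theorem conj_isolated (hc : ∀ r : ℕ, r.Prime → ∀ y ∈ T, orderOf y = r → centralizer {y} ≤ T) (g : G) :
    ∀ r : ℕ, r.Prime → ∀ y ∈ T.map (MulAut.conj g).toMonoidHom, orderOf y = r →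
      centralizer {y} ≤ T.map (MulAut.conj g).toMonoidHom := by
  rintro r hr _ ⟨y, hy, rfl⟩ hyr w hw
  have h1 : orderOf y = r := by
    rw [← hyr]
    exact (MulEquiv.orderOf_eq (MulAut.conj g) y).symm
  rw [mem_centralizer_singleton_iff] at hw
  refine ⟨g⁻¹ * w * g, hc r hr y hy h1 ?_, ?_⟩
  · rw [mem_centralizer_singleton_iff]
    have h2 : w * (g * y * g⁻¹) = g * y * g⁻¹ * w := hw
    calc g⁻¹ * w * g * y = g⁻¹ * (w * (g * y * g⁻¹)) * g := by group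
      _ = g⁻¹ * (g * y * g⁻¹ * w) * g := by rw [h2]
      _ = y * (g⁻¹ * w * g) := by group
  · show g * (g⁻¹ * w * g) * g⁻¹ = w
    group

/-- Everything about the primes dividing the order of an isolated cyclic subgroup. -/
theorem isolated (hT : IsCyclic ↥T) (hc : ∀ r : ℕ, r.Prime → ∀ y ∈ T, orderOf y = r → centralizer {y} ≤ T)
    {r : ℕ} [hr : Fact r.Prime] (hrT : r ∣ Nat.card ↥T) :
    (∀ R : Subgroup G, IsPGroup r R → IsCyclic ↥R) ∧
      ∀ x y : G, orderOf x = r → x * y = y * x → orderOf y ∣ Nat.card ↥T := by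
  obtain ⟨⟨z, hzT⟩, hz⟩ := exists_prime_orderOf_dvd_card' r hrT
  have hz' : orderOf z = r := by rw [← hz]; exact (Subgroup.orderOf_mk z hzT).symm
  have hzp : IsPGroup r ↥(zpowers z) := IsPGroup.of_card (n := 1) (by rw [Nat.card_zpowers, hz', pow_one])
  obtain ⟨R, hR⟩ := hzp.exists_le_sylow
  have hRT : (R : Subgroup G) ≤ T := le_of_mem hT hc R hzT hz' (hR (mem_zpowers z))
  have hconj : ∀ Q : Subgroup G, IsPGroup r Q → ∃ g : G, Q ≤ T.map (MulAut.conj g).toMonoidHom := by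
    intro Q hQ
    obtain ⟨Q', hQ'⟩ := hQ.exists_le_sylow
    obtain ⟨g, hg⟩ := MulAction.exists_smul_eq G R Q'
    refine ⟨g, hQ'.trans ?_⟩
    rw [← hg]
    rintro _ ⟨w, hw, rfl⟩
    exact ⟨w, hRT hw, rfl⟩
  constructor
  · intro Q hQ
    obtain ⟨g, hg⟩ := hconj Q hQ
    have h1 : IsCyclic ↥(T.map (MulAut.conj g).toMonoidHom) :=
      isCyclic_of_surjective _ ((T.equivMapOfInjective _ (MulAut.conj g).injective).surjective)
    exact isCyclic_of_injective (Subgroup.inclusion hg) (Subgroup.inclusion_injective hg)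
  · intro x y hx hxy
    have hxp : IsPGroup r ↥(zpowers x) := IsPGroup.of_card (n := 1) (by rw [Nat.card_zpowers, hx, pow_one])
    obtain ⟨g, hg⟩ := hconj _ hxp
    have h1 : y ∈ T.map (MulAut.conj g).toMonoidHom := by
      apply conj_isolated hc g r hr.1 x (hg (mem_zpowers x)) hx
      rw [mem_centralizer_singleton_iff]
      exact hxy.symm
    have h2 : Nat.card ↥(T.map (MulAut.conj g).toMonoidHom) = Nat.card ↥T :=
      (Nat.card_congr (T.equivMapOfInjective _ (MulAut.conj g).injective).toEquiv).symm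
    rw [← h2, ← Subgroup.orderOf_mk y h1]
    exact orderOf_dvd_natCard _

end Hall

end Cfsg.Agent.H798.RowTw
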