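import Cfsg.Agent.H798.RowTwB
import Cfsg.Agent.H798.RowTwC
import Cfsg.Agent.H977.TwF4Two
import Cfsg.Agent.S1068

/-!
# The row `²F₄` of S4329 (helper798)
-/

set_option autoImplicit false

namespace Cfsg.Agent.H798.RowTw

open Subgroup Cfsg Cfsg.Lie Cfsg.Agent.H568 Cfsg.Agent.H967.CopMat Cfsg.Agent.H967.CopSz
  Cfsg.Agent.ChevalleyStructure.Elts

universe u

theorem twF4_le_group {K : Type*} [Field K] (e : ℕ) : twistedF4 K e ≤ chevF4.group K := by
  have hD : InList chevF4 := by simp [InList]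
  unfold twistedF4 ChevalleyDatum.genSubgroup
  rw [Subgroup.closure_le]
  rintro g ⟨w, -, hg⟩
  rw [← eq_wordG_iff hD] at hg
  rw [SetLike.mem_coe, hg]
  clear hg
  induction w with
  | nil => exact one_mem _
  | cons p w ih => rw [wordG_cons]; exact mul_mem (xG_mem_group hD _ _) ih

/-- an element centralising all `p`-subgroups which it normalises, and commuting with no element of order `p` -/
theorem noNorm_of_pcent {S : Type*} [Group S] {p : ℕ} [hp : Fact p.Prime] {x : S} (h : PCent p x)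
    (hc : ∀ y : S, orderOf y = p → x * y ≠ y * x) : NoNorm p x := by
  intro Q hQ hn
  by_contra hb
  obtain ⟨y, hy1'⟩ := Subgroup.ne_bot_iff_exists_ne_one.1 hb
  have hy1 : (y : S) ≠ 1 := fun h => hy1' (Subtype.ext h)
  obtain ⟨j, hj⟩ := hQ y
  have hj' : (y : S) ^ p ^ j = 1 := by simpa using congrArg Subtype.val hj
  obtain ⟨i, -, hi⟩ := (Nat.dvd_prime_pow hp.1).1 (orderOf_dvd_of_pow_eq_one hj')
  have hi0 : i ≠ 0 := by
    rintro rfl
    rw [pow_zero, orderOf_eq_one_iff] at hi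
    exact hy1 hi
  obtain ⟨i', rfl⟩ := Nat.exists_eq_succ_of_ne_zero hi0
  have h6 : orderOf ((y : S) ^ p ^ i') = p := by
    rw [orderOf_pow_of_dvd (pow_ne_zero _ hp.1.ne_zero) (by rw [hi]; exact pow_dvd_pow _ (Nat.le_succ _)), hi,
      Nat.pow_div (Nat.le_succ _) hp.1.pos]
    simp
  exact hc _ h6 ((show Commute x (y : S) from h Q hQ hn y y.2).pow_right _).eq

open Cfsg.Agent.H977.TwF4Two in
/-- the faithful representation of degree 26 -/
theorem exists_rep {F : Type*} [Field F] [Finite F] [CharP F 2] (e : ℕ) [IsSimpleGroup ↥(twistedF4 F e)]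
    (hna : ¬ IsMulCommutative ↥(twistedF4 F e)) :
    ∃ ρ : ↥(twistedF4 F e) →* Matrix (Fin 26) (Fin 26) F, Function.Injective ρ ∧
      ∀ (σ : F ≃+* F) (g : ↥(twistedF4 F e)), ρ (fieldAut (stab_f4 e) σ g) = (ρ g).map σ := by
  have h1 := ker_bot (twistedF4 F e) (twistedF4_le e) hna
  rcases (inferInstance : (homA (twistedF4 F e) (twistedF4_le e)).ker.Normal).eq_bot_or_eq_top with h | h
  · refine ⟨homA (twistedF4 F e) (twistedF4_le e), (MonoidHom.ker_eq_bot_iff _).1 h, fun σ g => ?_⟩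
    ext i j
    rfl
  · rw [h, top_inf_eq] at h1
    refine ⟨homC (twistedF4 F e) (twistedF4_le e), (MonoidHom.ker_eq_bot_iff _).1 h1, fun σ g => ?_⟩
    ext i j
    rfl

/-- **The row of the large Ree groups.** -/
theorem row_2f4 (K : Type u) [Group K] [Finite K] [IsSimpleGroup K] (h : Cfsg.Lie.Iso2F4 K) (p : ℕ)
    [hp : Fact p.Prime] (hp2 : p ≠ 2) : Cfsg.Agent.H568.Row p K := by
  obtain ⟨F, iF, iF', m, hm, hF, ⟨e⟩⟩ := h
  have hs : IsSimpleGroup ↥(twistedF4 F (2 ^ m)) := e.symm.isSimpleGroup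
  have hcard := Cfsg.Agent.S1068.result hF
  have hF' : Nat.card F = 2 ^ (2 * m + 1) := by rw [Nat.card_eq_fintype_card, hF]
  have h2f : Fact (Nat.Prime 2) := ⟨Nat.prime_two⟩
  have hc2 : CharP F 2 := charP_of_card Nat.prime_two hF
  obtain ⟨l, hl, hE, hdv, hl2⟩ := Cfsg.Agent.Lib.Zsigmondy.exists_primitive (a := 2) (n := 12 * (2 * m + 1)) le_rfl
    (by omega) (by omega) (by omega)
  have hlle : 12 * (2 * m + 1) ≤ l - 1 := Nat.le_of_dvd (by have := hl.two_le; omega) hdv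
  have hq1 : 1 ≤ 2 ^ (2 * m + 1) := Nat.one_le_pow _ _ (by norm_num)
  have hldvd : l ∣ (2 ^ (2 * m + 1)) ^ 6 + 1 := by
    have h1 : l ∣ 2 ^ (12 * (2 * m + 1)) - 1 := (hE _).2 dvd_rfl
    have h2 : 2 ^ (12 * (2 * m + 1)) - 1 = (2 ^ (6 * (2 * m + 1)) - 1) * ((2 ^ (2 * m + 1)) ^ 6 + 1) := by
      have h3 : 2 ^ (12 * (2 * m + 1)) = ((2 ^ (2 * m + 1)) ^ 6) ^ 2 := by rw [← pow_mul, ← pow_mul]; ring_nf
      have h4 : 2 ^ (6 * (2 * m + 1)) = (2 ^ (2 * m + 1)) ^ 6 := by rw [← pow_mul]; ring_nf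
      rw [h3, h4]
      exact fac _
    rw [h2] at h1
    rcases hl.dvd_mul.1 h1 with h3 | h3
    · have h4 := (hE _).1 h3
      have := Nat.le_of_dvd (by omega) h4
      omega
    · exact h3
  have hdc : l ∣ Nat.card ↥(twistedF4 F (2 ^ m)) := by
    rw [hcard]
    exact hldvd.mul_left _
  have : Fact l.Prime := ⟨hl⟩
  obtain ⟨x, hx⟩ := exists_prime_orderOf_dvd_card' l hdc
  have hna : ¬ IsMulCommutative ↥(twistedF4 F (2 ^ m)) := by
    intro hc
    have h1 : (Nat.card ↥(twistedF4 F (2 ^ m))).Prime := by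
      let _ : CommGroup ↥(twistedF4 F (2 ^ m)) := { mul_comm := fun a b => hc.is_comm.comm a b }
      exact IsSimpleGroup.prime_card
    have h2 : 2 ∣ Nat.card ↥(twistedF4 F (2 ^ m)) := by
      rw [hcard, mul_assoc, mul_assoc, mul_assoc]
      exact ((dvd_pow_self 2 (by omega)).trans (dvd_pow_self _ (by norm_num))).mul_right _
    have h3 := (Nat.prime_dvd_prime_iff_eq Nat.prime_two h1).1 h2
    have h4 := (Nat.prime_dvd_prime_iff_eq hl h1).1 hdc
    omega
  obtain ⟨ρ, hρi, hρ⟩ := exists_rep (F := F) (2 ^ m) hna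
  -- the torus of `F₄(q)`
  obtain ⟨T, hT, hTc, hTi⟩ := f4_torus (F := F) _ hF
  have hlT : l ∣ Nat.card ↥T := by
    set q := 2 ^ (2 * m + 1) with hq
    have h1 : (q ^ 2 + 1) * (Nat.card ↥T) = q ^ 6 + 1 := by
      have h2 : (q ^ 2 + 1) * (Nat.card ↥T + q ^ 2) = (q ^ 2 + 1) * (q ^ 4 + 1) := by rw [hTc]
      rw [mul_add] at h2
      have h3 : (q ^ 2 + 1) * (q ^ 4 + 1) = (q ^ 6 + 1) + (q ^ 2 + 1) * q ^ 2 := by ring
      rw [h3] at h2
      exact Nat.add_right_cancel h2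
    rw [← h1] at hldvd
    rcases hl.dvd_mul.1 hldvd with h2 | h2
    · exfalso
      have h3 : l ∣ 2 ^ (4 * (2 * m + 1)) - 1 := by
        have h4 : 2 ^ (4 * (2 * m + 1)) - 1 = (q ^ 2 - 1) * (q ^ 2 + 1) := by
          have h5 : 2 ^ (4 * (2 * m + 1)) = (q ^ 2) ^ 2 := by rw [hq, ← pow_mul, ← pow_mul]; ring_nf
          rw [h5]
          exact fac _
        rw [h4]
        exact h2.mul_left _
      have h4 := Nat.le_of_dvd (by omega) ((hE _).1 h3)
      omega
    · exact h2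
  have hle := twF4_le_group (K := F) (2 ^ m)
  let inc := Subgroup.inclusion hle
  have hinc : Function.Injective inc := Subgroup.inclusion_injective hle
  refine (row_mat (G := twistedF4 F (2 ^ m)) hna (stab_f4 _) ?_ ρ hρi hρ Nat.prime_two hF' ⟨m, rfl⟩ hl (by omega) hE
    (by rw [Fintype.card_fin]; norm_num) (by rw [Fintype.card_fin]; omega) (by omega) (S2128.result hm hF) hx hp2
    (fun h => absurd h hp2) ?_).congr e.symm
  · intro ψ
    obtain ⟨g, σ, h⟩ := Cfsg.Agent.H71.FldAut.twF4_aut hm hF ψ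
    exact ⟨g, σ, h⟩
  · by_cases hcom : ∃ y : ↥(twistedF4 F (2 ^ m)), orderOf y = p ∧ x * y = y * x
    · obtain ⟨y, hy, hxy⟩ := hcom
      have h1 := (isolated hT hTi hlT).2 (inc x) (inc y) (by rw [orderOf_injective inc hinc, hx])
        (by rw [← map_mul, ← map_mul, hxy])
      rw [orderOf_injective inc hinc, hy] at h1
      refine Or.inl ⟨default, ?_⟩
      have h2 := (isolated hT hTi h1).1 (((default : Sylow p ↥(twistedF4 F (2 ^ m))) : Subgroup _).map inc)
        ((default : Sylow p ↥(twistedF4 F (2 ^ m))).isPGroup'.map _)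
      exact (((default : Sylow p ↥(twistedF4 F (2 ^ m))) : Subgroup _).equivMapOfInjective inc hinc).isCyclic.2 h2
    · push Not at hcom
      refine Or.inr ⟨x, noNorm_of_pcent ?_ hcom⟩
      have hlp : l ≠ p := by
        rintro rfl
        exact hcom x hx rfl
      refine pcent_of ρ hρi hp.1 hp2 ?_ hl (by rw [Fintype.card_fin]; omega) hx hlp
      intro h0
      have h2 := (CharP.cast_eq_zero_iff F 2 p).1 h0
      exact hp2 ((Nat.prime_dvd_prime_iff_eq Nat.prime_two hp.1).1 h2).symm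

end Cfsg.Agent.H798.RowTw
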