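import Cfsg.Agent.H798.T5Tp
import Cfsg.Agent.H798.T5Root
import Cfsg.Agent.H106.MBase

/-!
T5, defining characteristic (helper798): assembly.

* `mrow_of`, `wrow_of` : `MRow` / `WRow` from common types for pairs of inner elements, and outer elements of all types;
* `nt_all_of_conn` : simply laced connected diagrams.
-/

set_option autoImplicit false
set_option linter.unusedSectionVars false
set_option maxHeartbeats 400000

namespace Cfsg.Agent.H798.T5Asm

open Cfsg CoxeterSystem Cfsg.Agent.ChevalleyStructure.CoxeterGeom Cfsg.Agent.Tits.Roots Cfsg.Agent.Tits.Core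
  Cfsg.Agent.Tits.Core.Bldg
  Cfsg.Agent.Tits.OfBN Cfsg.Agent.Schreier.BNSch Cfsg.Agent.Tits.OppRes Cfsg.Agent.FixBN.OfBN
  Cfsg.Agent.Tits.RootComb Cfsg.Agent.Nodes.Comb Cfsg.Agent.Nodes.Reps Cfsg.Agent.Nodes.BNOf
  Cfsg.Agent.Nodes.StabComb Cfsg.Agent.Nodes.Bruhat Cfsg.Agent.Nodes.OppDec Cfsg.Agent.Nodes.LeviDec
  Cfsg.Agent.LieExceptional.BNPairCore
open Cfsg.Agent.H460.Typed Cfsg.Agent.H460.EllC Cfsg.Agent.H460.PanL
  Cfsg.Agent.H185.TypedTw Cfsg.Agent.H460.EllPan Cfsg.Agent.H460.Engine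
open Cfsg.Agent.H533.T5 Cfsg.Agent.H957.T5M
open Cfsg.Agent.H798.T5Geo Cfsg.Agent.H798.T5Pan Cfsg.Agent.H798.T5Tp

section Asm

variable {K : Type*} [Group K] [Finite K] {ℓ : ℕ} [Fact ℓ.Prime] {l : ℕ} {M : CoxeterMatrix (Fin l)} {Q : Fin l → ℕ}
  {A : Fin l → Fin l → ℤ} {h : IsCartan M A} {T : Subgroup K} {n : Fin l → K}
  {X : (Fin l → ℤ) → Subgroup K} [Finite M.Group]

omit [Finite K] [Finite M.Group] in
/-- the kernel of `conj` -/
theorem exists_of_inner [IsSimpleGroup K] (hc : ∃ a b : K, a * b ≠ b * a) {c : MulAut K}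
    (hi : ∃ g : K, c = MulAut.conj g) (ho : orderOf c = ℓ) :
    ∃ x : K, c = MulAut.conj x ∧ x ^ ℓ = 1 ∧ x ≠ 1 := by
  obtain ⟨x, rfl⟩ := hi
  have hp : ℓ.Prime := Fact.out
  refine ⟨x, rfl, ?_, ?_⟩
  · have h1 : MulAut.conj (x ^ ℓ) = 1 := by rw [map_pow, ← ho, pow_orderOf_eq_one]
    have h2 : x ^ ℓ ∈ Subgroup.center K := by
      rw [Subgroup.mem_center_iff]
      intro g
      have h3 : x ^ ℓ * g * (x ^ ℓ)⁻¹ = g := by
        have := congrArg (fun f : MulAut K => f g) h1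
        rwa [MulAut.conj_apply, MulAut.one_apply] at this
      calc g * x ^ ℓ = x ^ ℓ * g * (x ^ ℓ)⁻¹ * x ^ ℓ := by rw [h3]
        _ = x ^ ℓ * g := by group
    rcases (inferInstance : (Subgroup.center K).Normal).eq_bot_or_eq_top with h3 | h3
    · rwa [h3, Subgroup.mem_bot] at h2
    · exfalso
      obtain ⟨a, b, hab⟩ := hc
      apply hab
      have : b ∈ Subgroup.center K := h3 ▸ Subgroup.mem_top b
      exact Subgroup.mem_center_iff.1 this a
  · rintro rfl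
    rw [map_one, orderOf_one] at ho
    exact hp.one_lt.ne ho

variable (R : RGD M.toCoxeterSystem h ℓ T n X) {E : Eng ℓ K M Q} (hB : E.P.B = RGD.B M.toCoxeterSystem h T X)
  (he : ∀ i, (E.e i : K) = n i)

include R hB he

/-- a common type -/
theorem mpair_of_TP (h5 : 5 ≤ ℓ) (hF : ∀ i, FNode E.P E.U (E.e i : K) (Q i)) {c d : MulAut K} (hc : c ^ ℓ = 1)
    (hd : d ^ ℓ = 1) {i : Fin l} (hci : TP E c i) (hdi : TP E d i) : MPair ℓ (MulAut.conj : K →* MulAut K).range c d :=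
  hci.mpair h5 (hF i) hdi hc hd

/-- **The middle row.** -/
theorem mrow_of [IsSimpleGroup K] [Nonempty (Fin l)] (hcc : ∃ a b : K, a * b ≠ b * a)
    (hG : GG M.toCoxeterSystem h T X = ⊤) (h5 : 5 ≤ ℓ)
    (hF : ∀ i, FNode E.P E.U (E.e i : K) (Q i))
    (hin : ∀ x y : K, x ^ ℓ = 1 → y ^ ℓ = 1 → x ≠ 1 → y ≠ 1 →
      (∃ i, NT M.toCoxeterSystem h X x i ∧ NT M.toCoxeterSystem h X y i) ∨
        MPair ℓ (MulAut.conj : K →* MulAut K).range (MulAut.conj x) (MulAut.conj y))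
    (hout : ∀ c : MulAut K, orderOf c = ℓ → (∃ g : K, c = MulAut.conj g) ∨ ∀ i, TP E c i) : MRow ℓ K := by
  obtain ⟨i0⟩ := (inferInstance : Nonempty (Fin l))
  have pw : ∀ {c : MulAut K}, orderOf c = ℓ → c ^ ℓ = 1 := fun {c} hc => by rw [← hc, pow_orderOf_eq_one]
  have hNT : ∀ x : K, x ^ ℓ = 1 → x ≠ 1 → ∃ i, NT M.toCoxeterSystem h X x i := by
    intro x hx hx1
    refine exists_NT R hG ?_ hx1
    rw [IsPGroup.iff_card]
    refine ⟨1, ?_⟩
    rw [Nat.card_zpowers, pow_one, orderOf_eq_prime hx hx1]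
  intro c d hc hd
  rcases hout c hc with hc1 | hc1
  · obtain ⟨x, rfl, hx, hx1⟩ := exists_of_inner hcc hc1 hc
    rcases hout d hd with hd1 | hd1
    · obtain ⟨y, rfl, hy, hy1⟩ := exists_of_inner hcc hd1 hd
      rcases hin x y hx hy hx1 hy1 with ⟨i, h1, h2⟩ | h1
      · exact mpair_of_TP R hB he h5 hF (pw hc) (pw hd) (tp_of_NT R hB he h1) (tp_of_NT R hB he h2)
      · exact h1
    · obtain ⟨i, hi⟩ := hNT x hx hx1
      exact mpair_of_TP R hB he h5 hF (pw hc) (pw hd) (tp_of_NT R hB he hi) (hd1 i)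
  · rcases hout d hd with hd1 | hd1
    · obtain ⟨y, rfl, hy, hy1⟩ := exists_of_inner hcc hd1 hd
      obtain ⟨i, hi⟩ := hNT y hy hy1
      exact mpair_of_TP R hB he h5 hF (pw hc) (pw hd) (hc1 i) (tp_of_NT R hB he hi)
    · exact mpair_of_TP R hB he h5 hF (pw hc) (pw hd) (hc1 i0) (hd1 i0)

/-- **The weak row.** -/
theorem wrow_of [IsSimpleGroup K] [Nonempty (Fin l)] (hcc : ∃ a b : K, a * b ≠ b * a)
    (hG : GG M.toCoxeterSystem h T X = ⊤) (h5 : 5 ≤ ℓ)
    (hF : ∀ i, FNode E.P E.U (E.e i : K) (Q i))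
    (hin : ∀ x y : K, x ^ ℓ = 1 → y ^ ℓ = 1 → x ≠ 1 → y ≠ 1 →
      (∃ i, NT M.toCoxeterSystem h X x i ∧ NT M.toCoxeterSystem h X y i) ∨
        WPair ℓ (⊤ : Subgroup K) x y)
    (hout : ∀ c : MulAut K, orderOf c = ℓ → (∃ g : K, c = MulAut.conj g) ∨ ∀ i, TP E c i) : WRow ℓ K := by
  obtain ⟨i0⟩ := (inferInstance : Nonempty (Fin l))
  have pw : ∀ {c : MulAut K}, orderOf c = ℓ → c ^ ℓ = 1 := fun {c} hc => by rw [← hc, pow_orderOf_eq_one]
  have hNT : ∀ x : K, x ^ ℓ = 1 → x ≠ 1 → ∃ i, NT M.toCoxeterSystem h X x i := by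
    intro x hx hx1
    refine exists_NT R hG ?_ hx1
    rw [IsPGroup.iff_card]
    refine ⟨1, ?_⟩
    rw [Nat.card_zpowers, pow_one, orderOf_eq_prime hx hx1]
  have hinj : Function.Injective (MulAut.conj : K →* MulAut K) := by
    rw [injective_iff_map_eq_one]
    intro x hx
    by_contra hx1
    rcases (inferInstance : (MulAut.conj : K →* MulAut K).ker.Normal).eq_bot_or_eq_top with h3 | h3
    · apply hx1
      rw [← Subgroup.mem_bot, ← h3]
      exact hx
    · obtain ⟨a, b, hab⟩ := hcc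
      apply hab
      have h4 : a ∈ (MulAut.conj : K →* MulAut K).ker := h3 ▸ Subgroup.mem_top a
      have h5 : a * b * a⁻¹ = b := by
        have := congrArg (fun f : MulAut K => f b) (MonoidHom.mem_ker.1 h4)
        simpa using this
      calc a * b = a * b * a⁻¹ * a := by group
        _ = b * a := by rw [h5]
  intro c d hc hd
  rcases hout c hc with hc1 | hc1
  · obtain ⟨x, rfl, hx, hx1⟩ := exists_of_inner hcc hc1 hc
    rcases hout d hd with hd1 | hd1
    · obtain ⟨y, rfl, hy, hy1⟩ := exists_of_inner hcc hd1 hd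
      rcases hin x y hx hy hx1 hy1 with ⟨i, h1, h2⟩ | h1
      · exact (mpair_of_TP R hB he h5 hF (pw hc) (pw hd) (tp_of_NT R hB he h1) (tp_of_NT R hB he h2)).weak
      · obtain ⟨g, -, h2⟩ := h1
        refine ⟨MulAut.conj g, ⟨g, rfl⟩, fun h3 => h2 ?_⟩
        have h4 := closure_pair_map (MulAut.conj : K →* MulAut K) x (g * y * g⁻¹)
        rw [map_mul, map_mul, map_inv] at h4
        rw [← h4] at h3
        exact (h3.comap_of_injective (MulAut.conj : K →* MulAut K) hinj).to_le (Subgroup.le_comap_map _ _)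
    · obtain ⟨i, hi⟩ := hNT x hx hx1
      exact (mpair_of_TP R hB he h5 hF (pw hc) (pw hd) (tp_of_NT R hB he hi) (hd1 i)).weak
  · rcases hout d hd with hd1 | hd1
    · obtain ⟨y, rfl, hy, hy1⟩ := exists_of_inner hcc hd1 hd
      obtain ⟨i, hi⟩ := hNT y hy hy1
      exact (mpair_of_TP R hB he h5 hF (pw hc) (pw hd) (hc1 i) (tp_of_NT R hB he hi)).weak
    · exact (mpair_of_TP R hB he h5 hF (pw hc) (pw hd) (hc1 i0) (hd1 i0)).weak

end Asm

section Conn

variable {I W Y : Type*} [Fintype I] [DecidableEq I] [Group W] [Group Y] {M : CoxeterMatrix I}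
  {cs : CoxeterSystem M W} {A : I → I → ℤ} {h : IsCartan M A} {p : ℕ} {T : Subgroup Y} {n : I → Y}
  {X : (I → ℤ) → Subgroup Y} [Finite W]

/-- Simply laced connected diagrams: all types occur. -/
theorem nt_all_of_conn (R : RGD cs h p T n X)
    (hconn : ∀ J : Set I, J.Nonempty → J ≠ Set.univ → ∃ a ∈ J, ∃ b, b ∉ J ∧ M a b ≠ 2)
    (hM : ∀ i j, i ≠ j → M i j = 2 ∨ M i j = 3) {x : Y} {i : I} (hx : NT cs h X x i) (j : I) : NT cs h X x j := by
  by_contra hj
  obtain ⟨a, ha, b, hb, hab⟩ := hconn {k | NT cs h X x k} ⟨i, hx⟩ (fun h1 => hj (by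
    have : j ∈ {k | NT cs h X x k} := h1 ▸ Set.mem_univ j
    exact this))
  have hne : b ≠ a := by rintro rfl; exact hb ha
  have h3 : M b a = 3 := by
    rcases hM b a hne with h1 | h1
    · rw [M.symmetric] at h1
      exact absurd h1 hab
    · exact h1
  exact hb (T5Root.NT.of_three R h3 ha)

end Conn

end Cfsg.Agent.H798.T5Asm
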