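import Cfsg.Agent.H798.T5Untw
import Cfsg.Agent.H798.T5GFour
import Cfsg.Agent.H798.T5NcB
import Cfsg.Agent.CpAut.RgdTwD4
import Cfsg.Agent.CpAut.RgdTwE6
import Cfsg.Agent.H185.TypedTw

/-!
T5, defining characteristic (helper798): `²E₆(q)`, `³D₄(q)`, `p ∣ q`, `p ≥ 5`: `WRow`, and `MRow` from the special pairs.
-/

set_option autoImplicit false
set_option linter.unusedSectionVars false
set_option maxHeartbeats 400000

namespace Cfsg.Agent.H798.T5Tw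

open CoxeterSystem Cfsg.Agent.ChevalleyStructure.CoxeterGeom Cfsg.Agent.Tits.Roots Cfsg.Agent.Tits.Core
  Cfsg.Agent.Tits.Exchange Cfsg.Agent.Nodes.Reps Cfsg.Agent.Nodes.BNOf Cfsg.Agent.Nodes.BNOf.RGD
  Cfsg.Agent.Nodes.StabComb
  Cfsg.Agent.Nodes.Bruhat Cfsg.Agent.Nodes.OppDec Cfsg.Agent.Nodes.RGDTwGen Cfsg.Agent.Nodes.RGDChev
  Cfsg.Agent.Nodes.RGDFold Cfsg.Agent.Nodes.RGDFoldSL
open Cfsg.Agent.KFacts.RgdOpp Cfsg.Agent.KFacts.RgdAut Cfsg.Agent.KFacts.RgdDiag Cfsg.Agent.KFacts.RgdRigid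
  Cfsg.Agent.KFacts.RgdField Cfsg.Agent.KFacts.RgdTau Cfsg.Agent.KFacts.RgdNodes Cfsg.Agent.KFacts.RgdFilt
open Cfsg.Lie Cfsg.Agent.ChevalleyStructure Cfsg.Agent.ChevalleyStructure.Elts Cfsg.Agent.ChevStructure.FieldMap
open Cfsg.Agent.ChevalleyStructure.SL2Hom (up lo)
open Cfsg.Agent.FixBN Cfsg.Agent.FixBN.FieldRGD Cfsg.Agent.H460.Typed
open Cfsg.Agent.H185.TypedTw (FNode fnode_of_sl)
open Cfsg.Agent.H533.T5 Cfsg.Agent.H957.T5M
open Cfsg.Agent.H798.T5Geo Cfsg.Agent.H798.T5Pan Cfsg.Agent.H798.T5Tp Cfsg.Agent.H798.T5Asm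
open Cfsg.Agent.H798.T5Untw (intComm_restrict comm_of_not)
open Cfsg.Agent.CpAut
open scoped MatrixGroups

theorem conj_injective {G : Type*} [Group G] [IsSimpleGroup G] (hna : ¬ IsMulCommutative G) :
    Function.Injective (MulAut.conj : G →* MulAut G) := by
  rw [injective_iff_map_eq_one]
  intro x hx
  by_contra hx1
  rcases (inferInstance : (MulAut.conj : G →* MulAut G).ker.Normal).eq_bot_or_eq_top with h3 | h3
  · apply hx1
    rw [← Subgroup.mem_bot, ← h3]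
    exact hx
  · obtain ⟨a, b, hab⟩ := comm_of_not hna
    apply hab
    have h4 : a ∈ (MulAut.conj : G →* MulAut G).ker := h3 ▸ Subgroup.mem_top a
    have h5 : a * b * a⁻¹ = b := by
      have := congrArg (fun f : MulAut G => f b) (MonoidHom.mem_ker.1 h4)
      rwa [MulAut.conj_apply, MulAut.one_apply] at this
    calc a * b = a * b * a⁻¹ * a := by group
      _ = b * a := by rw [h5]

section E6

open Cfsg.Agent.KFacts.TwESix.NodeCoord Cfsg.Agent.KFacts.TwESix.Out Cfsg.Agent.KFacts.TwESix.OutTwo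
open Cfsg.Agent.Nodes.RGDTwE6 Cfsg.Agent.Nodes.RGDTwNode.E6
open Cfsg.Agent.ChevalleyStructure.TwE6Basic (hE6 single_mem pair_mem twisted_le_iff exists_frob)
open Cfsg.Agent.CpAut.RgdTwE6 (st rs st_pow ntau_st ntau_of_ftau ftau_pow eq_one_of_rs)

variable {K : Type} [Field K] [Fintype K] (p : ℕ) [Fact p.Prime] [CharP K p] {q : ℕ} {φ : K →+* K}
  (hφ : ∀ x, φ x = x ^ q) (hqq : ∀ t : K, (t ^ q) ^ q = t)

local notation "cF" => CoxeterMatrix.toCoxeterSystem CoxeterMatrix.F₄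

theorem finW_E6 : Finite (CoxeterMatrix.F₄).Group :=
  Nodes.RGDFold.finite_W (hp := Nodes.RGDTwE6.hp) CoxeterMatrix.F₄.toCoxeterSystem Nodes.RGDTwE6.isCartan
      Nodes.RGDTwE6.foldData

theorem gen_E6 : RGD.B cF Nodes.RGDTwE6.isCartan (T K q) (X φ q) ⊔
    NN cF (Cfsg.Agent.Nodes.RGDTwE6.rgd cF hφ hqq p).nsys = ⊤ :=
  Cfsg.Agent.Nodes.RGDLib.rgd_gen_of_G1 (Cfsg.Agent.Nodes.RGDTwE6.rgd cF hφ hqq p) (G1_eq_top cF hφ hqq)

theorem fnode_E6 [Finite (CoxeterMatrix.F₄).Group] (i : Fin 4) :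
    FNode ((Cfsg.Agent.Nodes.RGDTwE6.rgd cF hφ hqq p).bnPair (gen_E6 p hφ hqq))
      (RGD.Sup (X φ q) (RGD.Pos cF Nodes.RGDTwE6.isCartan)) (Cfsg.Agent.Nodes.RGDTwE6.nn hφ i) (Nat.card (KF φ i)) := by
  refine fnode_of_sl _ (gen_E6 p hφ hqq) (PhiE hφ hqq i) (b := 1) one_ne_zero ?_ ?_ ?_ ?_
  · intro y
    rw [mem_X hφ hqq]
    exact ⟨fun ⟨a, e⟩ => ⟨a, e.symm⟩, fun ⟨a, e⟩ => ⟨a, e.symm⟩⟩
  · intro a ha
    refine (coordE hφ hqq i).inj ?_
    show PhiE hφ hqq i (SL2Hom.up a) = PhiE hφ hqq i (SL2Hom.up 0)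
    have h3 : (SL2Hom.up (0 : KF φ i)) = 1 := by
      apply Subtype.ext
      show (!![1, 0; 0, 1] : Matrix (Fin 2) (Fin 2) _) = 1
      exact Matrix.one_fin_two.symm
    rw [h3, map_one]
    exact ha
  · intro c hc
    refine T_le_B ?_
    have h3 : dd c hc = hS c := by
      apply Subtype.ext
      exact (coe_hS hc).symm
    rw [h3]
    exact PhiE_hS hφ hqq i c hc
  · have h3 : ww (1 : KF φ i) one_ne_zero = wS 1 := by
      apply Subtype.ext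
      exact (coe_wS one_ne_zero).symm
    rw [h3]
    exact PhiE_wS hφ hqq i

include hφ hqq in
/-- **Outer automorphisms of `²E₆(q)`.** -/
theorem hout_E6 {E : Cfsg.Agent.H460.Engine.Eng p ↥(twistedE6 K q) CoxeterMatrix.F₄ (fun i => Nat.card (KF φ i))}
    (hB : E.P.B = RGD.B cF Nodes.RGDTwE6.isCartan (T K q) (X φ q)) (he : ∀ i, (E.e i : ↥(twistedE6 K q)) = nn hφ i)
    (hp2 : p ≠ 2) (hq : IsPrimePow q) (hK : Fintype.card K = q ^ 2) [IsSimpleGroup ↥(twistedE6 K q)]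
    {x : MulAut ↥(twistedE6 K q)} (hx : orderOf x = p) : (∃ g, x = MulAut.conj g) ∨ ∀ i, TP E x i := by
  have hp : p.Prime := Fact.out
  have hW := finW_E6
  have R := Cfsg.Agent.Nodes.RGDTwE6.rgd cF hφ hqq p
  have hG1 := G1_top cF hφ hqq
  have hxp : x ^ p = 1 := by rw [← hx, pow_orderOf_eq_one]
  have hτ : ∀ (β : MulAut ↥(twistedE6 K q)) (τ' : ∀ i, KF φ i ≃+* KF φ i),
      NTau (T K q) (X φ q) (chE hφ hqq) β τ' → β ^ p = 1 →
      ∃ τ : K ≃+* K, τ' = rs hφ τ ∧ τ ^ p = 1 := by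
    intro β τ' S hβ
    obtain ⟨τ, S'⟩ := exists_ftau hφ hqq cF p S.diag
    refine ⟨τ, NTau.unique (coordE hφ hqq) S (ntau_of_ftau hφ hqq S'), ?_⟩
    have h2 := ftau_pow hφ hqq S' p
    rw [hβ] at h2
    exact FTau.unique hφ hqq h2 (FTau.one hφ hqq)
  have hrs1 : rs hφ (1 : K ≃+* K) = 1 := by
    funext i
    ext a
    rfl
  rcases RgdNConj.inner_or_conj R hG1 (coordE hφ hqq) (fun σ hσ hσ' _ => by
      apply perm_F4 σ hσ
      intro h3
      have h4 := hσ' 0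
      rw [h3] at h4
      exact card_ne hφ hqq hK hq.one_lt h4) (fun β τ' S hβ => by
      obtain ⟨τ, rfl, hτp⟩ := hτ β τ' S hβ
      by_cases h1 : τ = 1
      · left
        rw [h1, hrs1]
      · right
        exact fun i hi => h1 (eq_one_of_rs hφ hqq hp hp2 hτp i hi)) hxp with h1 | ⟨β, τ', S, hβ, hτ1, h1⟩
  · exact Or.inl h1
  · right
    obtain ⟨τ, rfl, hτp⟩ := hτ β τ' S hβ
    have hτ1' : τ ≠ 1 := by
      rintro rfl
      exact hτ1 hrs1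
    obtain ⟨e, he'⟩ := h1 (st q τ) (st_pow τ hτp) (ntau_st hφ hqq τ cF p)
    rw [he']
    refine TP.conj_all ?_ e
    exact tp_of_ntau R hB he (coordE hφ hqq) (RgdUntw.symTwo_F4.eq_one hp hp2) (st_pow τ hτp)
      (ntau_st hφ hqq τ cF p) (fun i hi => hτ1' (eq_one_of_rs hφ hqq hp hp2 hτp i hi))

include p hφ hqq in
theorem intComm_E6 : IntComm cF Nodes.RGDTwE6.isCartan (X φ q) :=
  intComm_restrict (KFacts.RgdFiltTwAll.intComm_fold cF Nodes.RGDTwE6.isCartan foldData (foldGrp hφ hqq) p) _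
    (fun _ hz => Nodes.RGDFold.R_le cF Nodes.RGDTwE6.isCartan foldData (foldGrp hφ hqq) p hz)

include hφ hqq in
theorem cases_E6 [IsSimpleGroup ↥(twistedE6 K q)] {x y : ↥(twistedE6 K q)} (hx : x ^ p = 1) (hy : y ^ p = 1)
    (hx1 : x ≠ 1) (hy1 : y ≠ 1) :
    (∃ i, NT cF Nodes.RGDTwE6.isCartan (X φ q) x i ∧ NT cF Nodes.RGDTwE6.isCartan (X φ q) y i) ∨
    (NT cF Nodes.RGDTwE6.isCartan (X φ q) x 1 ∧ ¬ NT cF Nodes.RGDTwE6.isCartan (X φ q) x 2 ∧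
      NT cF Nodes.RGDTwE6.isCartan (X φ q) y 2 ∧ ¬ NT cF Nodes.RGDTwE6.isCartan (X φ q) y 1) ∨
    (NT cF Nodes.RGDTwE6.isCartan (X φ q) y 1 ∧ ¬ NT cF Nodes.RGDTwE6.isCartan (X φ q) y 2 ∧
      NT cF Nodes.RGDTwE6.isCartan (X φ q) x 2 ∧ ¬ NT cF Nodes.RGDTwE6.isCartan (X φ q) x 1) := by
  have hW := finW_E6
  have R := Cfsg.Agent.Nodes.RGDTwE6.rgd cF hφ hqq p
  have hG1 := G1_top cF hφ hqq
  have hG := KFacts.RgdFilt.GG_eq_top (T := T K q) hG1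
  have key : ∀ x : ↥(twistedE6 K q), x ^ p = 1 → x ≠ 1 →
      NT cF Nodes.RGDTwE6.isCartan (X φ q) x 1 ∨ NT cF Nodes.RGDTwE6.isCartan (X φ q) x 2 := by
    intro x hx hx1
    obtain ⟨i, hi⟩ := exists_NT R hG (c := x) (by
      rw [IsPGroup.iff_card]
      refine ⟨1, ?_⟩
      rw [Nat.card_zpowers, pow_one, orderOf_eq_prime hx hx1]) hx1
    fin_cases i
    · exact Or.inl (T5Root.NT.of_three R (by decide) hi)
    · exact Or.inl hi
    · exact Or.inr hi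
    · exact Or.inr (T5Root.NT.of_three R (by decide) hi)
  have h1 := key x hx hx1
  have h2 := key y hy hy1
  by_cases h3 : ∃ i, NT cF Nodes.RGDTwE6.isCartan (X φ q) x i ∧ NT cF Nodes.RGDTwE6.isCartan (X φ q) y i
  · exact Or.inl h3
  · right
    push Not at h3
    have a1 := h3 1
    have a2 := h3 2
    tauto

include hφ hqq in
theorem bd_E6 (hp2 : p ≠ 2) : T5Bond.Bd cF Nodes.RGDTwE6.isCartan p (X φ q) 1 2 := by
  have hW := finW_E6
  have R := Cfsg.Agent.Nodes.RGDTwE6.rgd cF hφ hqq p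
  exact T5Bond.bd_of_nc R (by decide)
    (T5NcB.nc_of_intComm hp2 R (intComm_E6 p hφ hqq) (by decide) (by decide) (by decide))

include hφ hqq in
theorem wrow_E6 (h5 : 5 ≤ p) (hq : IsPrimePow q) (hK : Fintype.card K = q ^ 2) [IsSimpleGroup ↥(twistedE6 K q)]
    (hna : ¬ IsMulCommutative ↥(twistedE6 K q)) : WRow p ↥(twistedE6 K q) := by
  have hp : p.Prime := Fact.out
  have hW := finW_E6
  have R := Cfsg.Agent.Nodes.RGDTwE6.rgd cF hφ hqq p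
  have hG1 := G1_top cF hφ hqq
  obtain ⟨E, hB, he, hF⟩ := exists_eng_of (Q := fun i => Nat.card (KF φ i)) R (gen_E6 p hφ hqq)
    (TwGood.isSolvable_T Nodes.RGDTwE6.hp) (fun i => fnode_E6 p hφ hqq i) (by norm_num)
  refine wrow_of R hB he (comm_of_not hna) (KFacts.RgdFilt.GG_eq_top (T := T K q) hG1) h5 hF ?_
    (fun c hc => hout_E6 p hφ hqq hB he (by omega) hq hK hc)
  intro x y hx hy hx1 hy1
  have pg : ∀ x : ↥(twistedE6 K q), x ^ p = 1 → x ≠ 1 → IsPGroup p (Subgroup.zpowers x) := by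
    intro x hx hx1
    rw [IsPGroup.iff_card]
    refine ⟨1, ?_⟩
    rw [Nat.card_zpowers, pow_one, orderOf_eq_prime hx hx1]
  have hBd := bd_E6 p hφ hqq (by omega)
  rcases cases_E6 p hφ hqq hx hy hx1 hy1 with h1 | ⟨h1, h2, h3, h4⟩ | ⟨h1, h2, h3, h4⟩
  · exact Or.inl h1
  · exact Or.inr (hBd x y (pg y hy hy1) h1 h3 h4)
  · exact Or.inr (hBd y x (pg x hx hx1) h1 h3 h4).symm

include hφ hqq in
/-- **`MRow` of `²E₆(q)` from the special pairs.** -/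
theorem mrow_E6_of (h5 : 5 ≤ p) (hq : IsPrimePow q) (hK : Fintype.card K = q ^ 2) [IsSimpleGroup ↥(twistedE6 K q)]
    (hna : ¬ IsMulCommutative ↥(twistedE6 K q))
    (hsp : ∀ x y : ↥(twistedE6 K q), x ^ p = 1 → y ^ p = 1 → x ≠ 1 → y ≠ 1 →
      NT cF Nodes.RGDTwE6.isCartan (X φ q) x 1 → ¬ NT cF Nodes.RGDTwE6.isCartan (X φ q) x 2 →
      NT cF Nodes.RGDTwE6.isCartan (X φ q) y 2 → ¬ NT cF Nodes.RGDTwE6.isCartan (X φ q) y 1 →
      MPair p (⊤ : Subgroup ↥(twistedE6 K q)) x y) : MRow p ↥(twistedE6 K q) := by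
  have hp : p.Prime := Fact.out
  have hW := finW_E6
  have R := Cfsg.Agent.Nodes.RGDTwE6.rgd cF hφ hqq p
  have hG1 := G1_top cF hφ hqq
  obtain ⟨E, hB, he, hF⟩ := exists_eng_of (Q := fun i => Nat.card (KF φ i)) R (gen_E6 p hφ hqq)
    (TwGood.isSolvable_T Nodes.RGDTwE6.hp) (fun i => fnode_E6 p hφ hqq i) (by norm_num)
  refine mrow_of R hB he (comm_of_not hna) (KFacts.RgdFilt.GG_eq_top (T := T K q) hG1) h5 hF ?_
    (fun c hc => hout_E6 p hφ hqq hB he (by omega) hq hK hc)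
  intro x y hx hy hx1 hy1
  have up : ∀ {x y : ↥(twistedE6 K q)}, MPair p (⊤ : Subgroup ↥(twistedE6 K q)) x y →
      MPair p (MulAut.conj : ↥(twistedE6 K q) →* MulAut ↥(twistedE6 K q)).range (MulAut.conj x) (MulAut.conj y) := by
    intro x y h
    have h6 := h.of_injective (MulAut.conj : ↥(twistedE6 K q) →* MulAut ↥(twistedE6 K q)) (conj_injective hna)
    rwa [← MonoidHom.range_eq_map] at h6
  rcases cases_E6 p hφ hqq hx hy hx1 hy1 with h1 | ⟨h1, h2, h3, h4⟩ | ⟨h1, h2, h3, h4⟩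
  · exact Or.inl h1
  · exact Or.inr (up (hsp x y hx hy hx1 hy1 h1 h2 h3 h4))
  · exact Or.inr (up (hsp y x hy hx hy1 hx1 h1 h2 h3 h4).symm)

end E6

section D4

open Cfsg.Agent.ChevalleyStructure.SignedSymm
open Cfsg.Agent.KFacts.TwDFour.Out
open Cfsg.Agent.Nodes.RGDTwD4 Cfsg.Agent.Nodes.RGDTwNode.D4
open Cfsg.Agent.ParSys.Fam.D4 (hf)
open Cfsg.Agent.CpAut.RgdTwD4 (st rs st_pow ntau_st ntau_of_dtau dtau_pow eq_one_of_rs)

variable {K : Type} [Field K] [Fintype K] (p : ℕ) [Fact p.Prime] [CharP K p] {q : ℕ} {φ : K →+* K}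
  (hφ : ∀ x, φ x = x ^ q) (hK : Fintype.card K = q ^ 3)

local notation "cG" => CoxeterMatrix.toCoxeterSystem CoxeterMatrix.G₂

theorem finW_D4 : Finite (CoxeterMatrix.G₂).Group :=
  Nodes.RGDFold.finite_W (hp := Nodes.RGDTwD4.hp) CoxeterMatrix.G₂.toCoxeterSystem Nodes.RGDTwD4.isCartan
      Nodes.RGDTwD4.foldData

theorem gen_D4 : RGD.B cG Nodes.RGDTwD4.isCartan (T K q) (X φ q) ⊔
    NN cG (Cfsg.Agent.Nodes.RGDTwD4.rgd cG hK hφ p).nsys = ⊤ :=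
  Cfsg.Agent.Nodes.RGDLib.rgd_gen_of_G1 (Cfsg.Agent.Nodes.RGDTwD4.rgd cG hK hφ p) (G1_eq_top cG hK hφ)

theorem fnode_D4 [Finite (CoxeterMatrix.G₂).Group] (i : Fin 2) :
    FNode ((Cfsg.Agent.Nodes.RGDTwD4.rgd cG hK hφ p).bnPair (gen_D4 p hφ hK))
      (RGD.Sup (X φ q) (RGD.Pos cG Nodes.RGDTwD4.isCartan)) (Cfsg.Agent.Nodes.RGDTwD4.n hφ i) (Nat.card (KD φ i)) := by
  refine fnode_of_sl _ (gen_D4 p hφ hK) (PhiD hφ hK i) (b := 1) one_ne_zero ?_ ?_ ?_ ?_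
  · intro y
    rw [mem_X hφ hK]
    exact ⟨fun ⟨a, e⟩ => ⟨a, e.symm⟩, fun ⟨a, e⟩ => ⟨a, e.symm⟩⟩
  · intro a ha
    refine (coordD hφ hK i).inj ?_
    show PhiD hφ hK i (SL2Hom.up a) = PhiD hφ hK i (SL2Hom.up 0)
    have h3 : (SL2Hom.up (0 : KD φ i)) = 1 := by
      apply Subtype.ext
      show (!![1, 0; 0, 1] : Matrix (Fin 2) (Fin 2) _) = 1
      exact Matrix.one_fin_two.symm
    rw [h3, map_one]
    exact ha
  · intro c hc
    refine T_le_B ?_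
    have h3 : dd c hc = hS c := by
      apply Subtype.ext
      exact (coe_hS hc).symm
    rw [h3]
    exact PhiD_hS hφ hK i c hc
  · have h3 : ww (1 : KD φ i) one_ne_zero = wS 1 := by
      apply Subtype.ext
      exact (coe_wS one_ne_zero).symm
    rw [h3]
    exact PhiD_wS hφ hK i

include hφ hK in
/-- **Outer automorphisms of `³D₄(q)`.** -/
theorem hout_D4 {E : Cfsg.Agent.H460.Engine.Eng p ↥(twistedD4 K q) CoxeterMatrix.G₂ (fun i => Nat.card (KD φ i))}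
    (hB : E.P.B = RGD.B cG Nodes.RGDTwD4.isCartan (T K q) (X φ q)) (he : ∀ i, (E.e i : ↥(twistedD4 K q)) = n hφ i)
    (hp2 : p ≠ 2) (hp3 : p ≠ 3) (hq : IsPrimePow q) [IsSimpleGroup ↥(twistedD4 K q)]
    {x : MulAut ↥(twistedD4 K q)} (hx : orderOf x = p) : (∃ g, x = MulAut.conj g) ∨ ∀ i, TP E x i := by
  have hp : p.Prime := Fact.out
  have hW := finW_D4
  have R := Cfsg.Agent.Nodes.RGDTwD4.rgd cG hK hφ p
  have hG1 := G1_eq_top cG hK hφ
  have hxp : x ^ p = 1 := by rw [← hx, pow_orderOf_eq_one]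
  have hτ : ∀ (β : MulAut ↥(twistedD4 K q)) (τ' : ∀ i, KD φ i ≃+* KD φ i),
      NTau (T K q) (X φ q) (chD hφ hK) β τ' → β ^ p = 1 →
      ∃ τ : K ≃+* K, τ' = rs hφ τ ∧ τ ^ p = 1 := by
    intro β τ' S hβ
    obtain ⟨τ, S'⟩ := exists_dtau hφ hK cG p S.diag
    refine ⟨τ, NTau.unique (coordD hφ hK) S (ntau_of_dtau hφ hK S'), ?_⟩
    have h2 := dtau_pow hφ hK S' p
    rw [hβ] at h2
    exact DTau.unique hφ hK h2 (DTau.one hφ hK)
  have hrs1 : rs hφ (1 : K ≃+* K) = 1 := by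
    funext i
    ext a
    rfl
  rcases RgdNConj.inner_or_conj R hG1 (coordD hφ hK) (fun σ hσ hσ' _ => by
      apply perm_G2 σ
      intro h3
      have h4 := hσ' 0
      rw [h3] at h4
      exact card_ne hφ hK hq.one_lt h4) (fun β τ' S hβ => by
      obtain ⟨τ, rfl, hτp⟩ := hτ β τ' S hβ
      by_cases h1 : τ = 1
      · left
        rw [h1, hrs1]
      · right
        exact fun i hi => h1 (eq_one_of_rs hφ hK hp hp3 hτp i hi)) hxp with h1 | ⟨β, τ', S, hβ, hτ1, h1⟩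
  · exact Or.inl h1
  · right
    obtain ⟨τ, rfl, hτp⟩ := hτ β τ' S hβ
    have hτ1' : τ ≠ 1 := by
      rintro rfl
      exact hτ1 hrs1
    obtain ⟨e, he'⟩ := h1 (st q τ) (st_pow τ hτp) (ntau_st hφ hK τ cG p)
    rw [he']
    refine TP.conj_all ?_ e
    exact tp_of_ntau R hB he (coordD hφ hK) (RgdUntw.symTwo_G2.eq_one hp hp2) (st_pow τ hτp)
      (ntau_st hφ hK τ cG p) (fun i hi => hτ1' (eq_one_of_rs hφ hK hp hp3 hτp i hi))

include p hφ hK in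
theorem intComm_D4 : IntComm cG Nodes.RGDTwD4.isCartan (X φ q) :=
  intComm_restrict (KFacts.RgdFiltTwAll.intComm_fold cG Nodes.RGDTwD4.isCartan foldData (foldGrp hφ (D4Fixed.twisted_le_fix hK hφ)) p) _
    (fun _ hz => Nodes.RGDFold.R_le cG Nodes.RGDTwD4.isCartan foldData (foldGrp hφ (D4Fixed.twisted_le_fix hK hφ)) p hz)

include hφ hK in
theorem cases_D4 [IsSimpleGroup ↥(twistedD4 K q)] {x y : ↥(twistedD4 K q)} (hx : x ^ p = 1) (hy : y ^ p = 1)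
    (hx1 : x ≠ 1) (hy1 : y ≠ 1) :
    (∃ i, NT cG Nodes.RGDTwD4.isCartan (X φ q) x i ∧ NT cG Nodes.RGDTwD4.isCartan (X φ q) y i) ∨
    (NT cG Nodes.RGDTwD4.isCartan (X φ q) x 0 ∧ ¬ NT cG Nodes.RGDTwD4.isCartan (X φ q) x 1 ∧
      NT cG Nodes.RGDTwD4.isCartan (X φ q) y 1 ∧ ¬ NT cG Nodes.RGDTwD4.isCartan (X φ q) y 0) ∨
    (NT cG Nodes.RGDTwD4.isCartan (X φ q) y 0 ∧ ¬ NT cG Nodes.RGDTwD4.isCartan (X φ q) y 1 ∧
      NT cG Nodes.RGDTwD4.isCartan (X φ q) x 1 ∧ ¬ NT cG Nodes.RGDTwD4.isCartan (X φ q) x 0) := by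
  have hW := finW_D4
  have R := Cfsg.Agent.Nodes.RGDTwD4.rgd cG hK hφ p
  have hG1 := G1_eq_top cG hK hφ
  have hG := KFacts.RgdFilt.GG_eq_top (T := T K q) hG1
  have key : ∀ x : ↥(twistedD4 K q), x ^ p = 1 → x ≠ 1 →
      NT cG Nodes.RGDTwD4.isCartan (X φ q) x 0 ∨ NT cG Nodes.RGDTwD4.isCartan (X φ q) x 1 := by
    intro x hx hx1
    obtain ⟨i, hi⟩ := exists_NT R hG (c := x) (by
      rw [IsPGroup.iff_card]
      refine ⟨1, ?_⟩
      rw [Nat.card_zpowers, pow_one, orderOf_eq_prime hx hx1]) hx1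
    fin_cases i
    · exact Or.inl hi
    · exact Or.inr hi
  have h1 := key x hx hx1
  have h2 := key y hy hy1
  by_cases h3 : ∃ i, NT cG Nodes.RGDTwD4.isCartan (X φ q) x i ∧ NT cG Nodes.RGDTwD4.isCartan (X φ q) y i
  · exact Or.inl h3
  · right
    push Not at h3
    have a1 := h3 0
    have a2 := h3 1
    tauto

include hφ hK in
theorem bd_D4 (h5 : 5 ≤ p) : T5Bond.Bd cG Nodes.RGDTwD4.isCartan p (X φ q) 0 1 := by
  have hW := finW_D4
  have R := Cfsg.Agent.Nodes.RGDTwD4.rgd cG hK hφ p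
  exact T5GFour.bd_of_G2 R ⟨by decide, by decide, by decide, intComm_D4 p hφ hK⟩ (by decide) h5

include hφ hK in
theorem wrow_D4 (h5 : 5 ≤ p) (hq : IsPrimePow q) [IsSimpleGroup ↥(twistedD4 K q)]
    (hna : ¬ IsMulCommutative ↥(twistedD4 K q)) : WRow p ↥(twistedD4 K q) := by
  have hp : p.Prime := Fact.out
  have hW := finW_D4
  have R := Cfsg.Agent.Nodes.RGDTwD4.rgd cG hK hφ p
  have hG1 := G1_eq_top cG hK hφ
  obtain ⟨E, hB, he, hF⟩ := exists_eng_of (Q := fun i => Nat.card (KD φ i)) R (gen_D4 p hφ hK)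
    (TwGood.isSolvable_T Nodes.RGDTwD4.hp) (fun i => fnode_D4 p hφ hK i) (by norm_num)
  refine wrow_of R hB he (comm_of_not hna) (KFacts.RgdFilt.GG_eq_top (T := T K q) hG1) h5 hF ?_
    (fun c hc => hout_D4 p hφ hK hB he (by omega) (by omega) hq hc)
  intro x y hx hy hx1 hy1
  have pg : ∀ x : ↥(twistedD4 K q), x ^ p = 1 → x ≠ 1 → IsPGroup p (Subgroup.zpowers x) := by
    intro x hx hx1
    rw [IsPGroup.iff_card]
    refine ⟨1, ?_⟩
    rw [Nat.card_zpowers, pow_one, orderOf_eq_prime hx hx1]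
  have hBd := bd_D4 p hφ hK h5
  rcases cases_D4 p hφ hK hx hy hx1 hy1 with h1 | ⟨h1, h2, h3, h4⟩ | ⟨h1, h2, h3, h4⟩
  · exact Or.inl h1
  · exact Or.inr (hBd x y (pg y hy hy1) h1 h3 h4)
  · exact Or.inr (hBd y x (pg x hx hx1) h1 h3 h4).symm

include hφ hK in
/-- **`MRow` of `³D₄(q)` from the special pairs.** -/
theorem mrow_D4_of (h5 : 5 ≤ p) (hq : IsPrimePow q) [IsSimpleGroup ↥(twistedD4 K q)]
    (hna : ¬ IsMulCommutative ↥(twistedD4 K q))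
    (hsp : ∀ x y : ↥(twistedD4 K q), x ^ p = 1 → y ^ p = 1 → x ≠ 1 → y ≠ 1 →
      NT cG Nodes.RGDTwD4.isCartan (X φ q) x 0 → ¬ NT cG Nodes.RGDTwD4.isCartan (X φ q) x 1 →
      NT cG Nodes.RGDTwD4.isCartan (X φ q) y 1 → ¬ NT cG Nodes.RGDTwD4.isCartan (X φ q) y 0 →
      MPair p (⊤ : Subgroup ↥(twistedD4 K q)) x y) : MRow p ↥(twistedD4 K q) := by
  have hp : p.Prime := Fact.out
  have hW := finW_D4
  have R := Cfsg.Agent.Nodes.RGDTwD4.rgd cG hK hφ p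
  have hG1 := G1_eq_top cG hK hφ
  obtain ⟨E, hB, he, hF⟩ := exists_eng_of (Q := fun i => Nat.card (KD φ i)) R (gen_D4 p hφ hK)
    (TwGood.isSolvable_T Nodes.RGDTwD4.hp) (fun i => fnode_D4 p hφ hK i) (by norm_num)
  refine mrow_of R hB he (comm_of_not hna) (KFacts.RgdFilt.GG_eq_top (T := T K q) hG1) h5 hF ?_
    (fun c hc => hout_D4 p hφ hK hB he (by omega) (by omega) hq hc)
  intro x y hx hy hx1 hy1
  have up : ∀ {x y : ↥(twistedD4 K q)}, MPair p (⊤ : Subgroup ↥(twistedD4 K q)) x y →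
      MPair p (MulAut.conj : ↥(twistedD4 K q) →* MulAut ↥(twistedD4 K q)).range (MulAut.conj x) (MulAut.conj y) := by
    intro x y h
    have h6 := h.of_injective (MulAut.conj : ↥(twistedD4 K q) →* MulAut ↥(twistedD4 K q)) (conj_injective hna)
    rwa [← MonoidHom.range_eq_map] at h6
  rcases cases_D4 p hφ hK hx hy hx1 hy1 with h1 | ⟨h1, h2, h3, h4⟩ | ⟨h1, h2, h3, h4⟩
  · exact Or.inl h1
  · exact Or.inr (up (hsp x y hx hy hx1 hy1 h1 h2 h3 h4))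
  · exact Or.inr (up (hsp y x hy hx hy1 hx1 h1 h2 h3 h4).symm)

end D4

section Rows

variable (p : ℕ) [Fact p.Prime] (h5 : 5 ≤ p) (K : Type) [Field K] [Fintype K] [CharP K p] {q : ℕ}

include h5

/-- **`²E₆(q)`**, own characteristic. -/
theorem wrow_2E6 (hq : IsPrimePow q) (hK : Fintype.card K = q ^ 2) : WRow p ↥(twistedE6 K q) := by
  obtain ⟨hs, hna⟩ := Cfsg.Agent.S1070.result hq hK
  obtain ⟨φ, hφ, hqq⟩ := TwE6Basic.exists_frob hq hK
  exact wrow_E6 p hφ hqq h5 hq hK hna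

/-- **`³D₄(q)`**, own characteristic. -/
theorem wrow_3D4 (hq : IsPrimePow q) (hK : Fintype.card K = q ^ 3) : WRow p ↥(twistedD4 K q) := by
  obtain ⟨hs, hna⟩ := Cfsg.Agent.S1071.result hq hK
  obtain ⟨φ, hφ⟩ := D4Fixed.exists_frob hq hK
  exact wrow_D4 p hφ hK h5 hq hna

end Rows

end Cfsg.Agent.H798.T5Tw
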