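import Cfsg.Agent.H798.RowTwA
import Cfsg.Agent.H967.CopSz
import Cfsg.Agent.OddRank.SzTits
import Cfsg.Agent.S1163
import Cfsg.Agent.S1069
import Cfsg.Agent.S1156
import Cfsg.Agent.S1159

/-!
# The rows `Sz` and `Ree` of S4329 (helper798)
-/

set_option autoImplicit false

namespace Cfsg.Agent.H798.RowTw

open Subgroup Cfsg Cfsg.Lie Cfsg.Agent.H568 Cfsg.Agent.H967.CopMat Cfsg.Agent.H967.CopSz

universe u

/-- A matrix group with a small faithful representation. -/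
theorem row_mat {F : Type*} [Field F] [Finite F] {κ : Type*} [Fintype κ] [DecidableEq κ]
    {G : Subgroup (GL κ F)} [IsSimpleGroup ↥G] (hna : ¬ IsMulCommutative ↥G) (hG : Stab G)
    (hA : ∀ ψ : MulAut ↥G, ∃ (g : ↥G) (σ : F ≃+* F), ψ = MulAut.conj g * fieldAut hG σ)
    {ι : Type*} [Fintype ι] [DecidableEq ι] (ρ : ↥G →* Matrix ι ι F) (hρi : Function.Injective ρ)
    (hρ : ∀ (σ : F ≃+* F) (g : ↥G), ρ (fieldAut hG σ g) = (ρ g).map σ)
    {l r f N : ℕ} (hr : r.Prime) (hF : Nat.card F = r ^ f) (hf : Odd f) (hl : l.Prime) (hlr : l ≠ r)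
    (hE : ∀ m, l ∣ r ^ m - 1 ↔ N * f ∣ m) (hn : Fintype.card ι < 3 * N) (hnl : Fintype.card ι < l) (hfl : f < l)
    (hOut : Nat.card (Cfsg.Out ↥G) = f) {x : ↥G} (hx : orderOf x = l)
    {p : ℕ} [hp : Fact p.Prime] (hp2 : p ≠ 2) (hpr : p = r → NoNorm p x)
    (hin : (∃ P : Sylow p ↥G, IsCyclic ↥(P : Subgroup ↥G)) ∨ ∃ y : ↥G, NoNorm p y) : Row p ↥G := by
  have hx1 : ρ x ≠ 1 := by
    intro h
    have h1 : x = 1 := hρi (by rw [h, map_one])
    rw [h1, orderOf_one] at hx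
    exact hl.one_lt.ne hx
  refine row_generic hna hl hx (inner_of_fixes hG hA ρ hρ hr hF hf hl hlr hE hn hx hx1) ?_ ?_ hin
  · intro a ha hi h
    have h1 := dvd_out ha hi
    rw [hOut] at h1
    have h2 : 0 < f := hf.pos
    have h3 := Nat.le_of_dvd h2 h1
    omega
  · intro hlp
    by_cases hpr' : p = r
    · exact (hpr hpr').pcent
    · refine pcent_of ρ hρi hp.1 hp2 ?_ hl hnl hx hlp
      intro h0
      have h1 : p ∣ Nat.card F := by
        have : Fintype F := Fintype.ofFinite F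
        obtain ⟨c, hc⟩ := CharP.exists F
        have h2 := (CharP.cast_eq_zero_iff F c p).1 h0
        have hcp : c.Prime := (CharP.char_is_prime F c)
        have h3 := (Nat.prime_dvd_prime_iff_eq hcp hp.1).1 h2
        subst h3
        obtain ⟨n, -, h4⟩ := FiniteField.card F c
        rw [Nat.card_eq_fintype_card, h4]
        exact dvd_pow_self _ n.pos.ne'
      rw [hF] at h1
      exact hpr' ((Nat.prime_dvd_prime_iff_eq hp.1 hr).1 (hp.1.dvd_of_dvd_pow h1))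

theorem coe_rho_injective {F : Type*} [Field F] {κ : Type*} [Fintype κ] [DecidableEq κ] (G : Subgroup (GL κ F)) :
    Function.Injective ((Units.coeHom (Matrix κ κ F)).comp G.subtype) := by
  intro a b h
  exact Subtype.ext (Units.ext h)

theorem fac (Q : ℕ) : Q ^ 2 - 1 = (Q - 1) * (Q + 1) := by
  have h := Nat.sq_sub_sq Q 1
  rw [one_pow] at h
  rw [h, mul_comm]

/-- **The row of the Suzuki groups.** -/
theorem row_sz (K : Type u) [Group K] [Finite K] [IsSimpleGroup K] (h : Cfsg.Lie.IsoSuzuki K) (p : ℕ)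
    [hp : Fact p.Prime] (hp2 : p ≠ 2) : Cfsg.Agent.H568.Row p K := by
  have hcyc : ∃ P : Sylow p K, IsCyclic ↥(P : Subgroup K) :=
    ⟨default, OddRank.SzTits.isCyclic_of_isPGroup h hp2 _ (default : Sylow p K).isPGroup'⟩
  obtain ⟨F, iF, iF', m, hm, hF, ⟨e⟩⟩ := h
  have hs : IsSimpleGroup ↥(Cfsg.Lie.Sz F (2 ^ (m + 1))) := e.symm.isSimpleGroup
  have hcard := (Cfsg.Agent.S1163.result hm hF).1
  have hF' : Nat.card F = 2 ^ (2 * m + 1) := by rw [Nat.card_eq_fintype_card, hF]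
  obtain ⟨l, hl, hE, hdv, hl2⟩ := Cfsg.Agent.Lib.Zsigmondy.exists_primitive (a := 2) (n := 4 * (2 * m + 1)) le_rfl
    (by omega) (by omega) (by omega)
  have hlle : 4 * (2 * m + 1) ≤ l - 1 := Nat.le_of_dvd (by have := hl.two_le; omega) hdv
  have hldvd : l ∣ (2 ^ (2 * m + 1)) ^ 2 + 1 := by
    have h1 : l ∣ 2 ^ (4 * (2 * m + 1)) - 1 := (hE _).2 dvd_rfl
    have h2 : 2 ^ (4 * (2 * m + 1)) - 1 = (2 ^ (2 * (2 * m + 1)) - 1) * ((2 ^ (2 * m + 1)) ^ 2 + 1) := by
      have h3 : 2 ^ (4 * (2 * m + 1)) = ((2 ^ (2 * m + 1)) ^ 2) ^ 2 := by rw [← pow_mul, ← pow_mul]; ring_nf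
      have h4 : 2 ^ (2 * (2 * m + 1)) = (2 ^ (2 * m + 1)) ^ 2 := by rw [← pow_mul]; ring_nf
      rw [h3, h4]
      exact fac _
    rw [h2] at h1
    rcases hl.dvd_mul.1 h1 with h3 | h3
    · have h4 := (hE _).1 h3
      have := Nat.le_of_dvd (by omega) h4
      omega
    · exact h3
  have hdc : l ∣ Nat.card ↥(Cfsg.Lie.Sz F (2 ^ (m + 1))) := by
    rw [hcard]
    exact hldvd.mul_left _
  have : Fact l.Prime := ⟨hl⟩
  obtain ⟨x, hx⟩ := exists_prime_orderOf_dvd_card' l hdc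
  have hna : ¬ IsMulCommutative ↥(Cfsg.Lie.Sz F (2 ^ (m + 1))) := by
    intro hc
    have h1 : (Nat.card ↥(Cfsg.Lie.Sz F (2 ^ (m + 1)))).Prime := by
      have := hc
      let _ : CommGroup ↥(Cfsg.Lie.Sz F (2 ^ (m + 1))) := { mul_comm := fun a b => hc.is_comm.comm a b }
      exact IsSimpleGroup.prime_card
    have h2 : 2 ∣ Nat.card ↥(Cfsg.Lie.Sz F (2 ^ (m + 1))) := by
      rw [hcard, mul_assoc]
      exact ((dvd_pow_self 2 (by omega)).trans (dvd_pow_self _ two_ne_zero)).mul_right _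
    have h3 := (Nat.prime_dvd_prime_iff_eq Nat.prime_two h1).1 h2
    have h4 := (Nat.prime_dvd_prime_iff_eq hl h1).1 hdc
    omega
  have hE' : ∀ k, l ∣ 2 ^ k - 1 ↔ 4 * (2 * m + 1) ∣ k := hE
  refine (row_mat (G := Cfsg.Lie.Sz F (2 ^ (m + 1))) hna (stab_sz hF) ?_ ((Units.coeHom _).comp (Subgroup.subtype _))
    (coe_rho_injective _) (fun σ g => rfl) Nat.prime_two hF' ⟨m, rfl⟩ hl (by omega) hE' (by rw [Fintype.card_fin]; norm_num)
    (by rw [Fintype.card_fin]; omega) (by omega) (S2126.result hm hF) hx hp2 (fun h => absurd h hp2) (Or.inl ?_)).congr e.symm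
  · intro ψ
    obtain ⟨g, σ, h⟩ := Cfsg.Agent.H70.SzAutThm.exists_conj_field hm hF ψ
    exact ⟨g, σ, h⟩
  · obtain ⟨P, hP⟩ := hcyc
    refine ⟨default, ?_⟩
    have h1 : ∀ Q : Subgroup K, IsPGroup p Q → IsCyclic Q := by
      intro Q hQ
      exact OddRank.SzTits.isCyclic_of_isPGroup ⟨F, iF, iF', m, hm, hF, ⟨e⟩⟩ hp2 Q hQ
    let D : Sylow p ↥(Cfsg.Lie.Sz F (2 ^ (m + 1))) := default
    have h2 := h1 ((D : Subgroup _).map e.symm.toMonoidHom) (D.isPGroup'.map _)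
    exact ((D : Subgroup _).equivMapOfInjective e.symm.toMonoidHom e.symm.injective).isCyclic.2 h2

/-- **The row of the small Ree groups.** -/
theorem row_ree (K : Type u) [Group K] [Finite K] [IsSimpleGroup K] (h : Cfsg.Lie.IsoRee K) (p : ℕ)
    [hp : Fact p.Prime] (hp2 : p ≠ 2) : Cfsg.Agent.H568.Row p K := by
  obtain ⟨F, iF, iF', m, hm, hF, ⟨e⟩⟩ := h
  have hs : IsSimpleGroup ↥(twistedG2 F (3 ^ m)) := e.symm.isSimpleGroup
  have hcard := Cfsg.Agent.S1069.result hF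
  have hF' : Nat.card F = 3 ^ (2 * m + 1) := by rw [Nat.card_eq_fintype_card, hF]
  obtain ⟨l, hl, hE, hdv, hl3⟩ := Cfsg.Agent.Lib.Zsigmondy.exists_primitive (a := 3) (n := 6 * (2 * m + 1)) (by norm_num)
    (by omega) (by omega) (by omega)
  have hlle : 6 * (2 * m + 1) ≤ l - 1 := Nat.le_of_dvd (by have := hl.two_le; omega) hdv
  have hldvd : l ∣ (3 ^ (2 * m + 1)) ^ 3 + 1 := by
    have h1 : l ∣ 3 ^ (6 * (2 * m + 1)) - 1 := (hE _).2 dvd_rfl
    have h2 : 3 ^ (6 * (2 * m + 1)) - 1 = (3 ^ (3 * (2 * m + 1)) - 1) * ((3 ^ (2 * m + 1)) ^ 3 + 1) := by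
      have h3 : 3 ^ (6 * (2 * m + 1)) = ((3 ^ (2 * m + 1)) ^ 3) ^ 2 := by rw [← pow_mul, ← pow_mul]; ring_nf
      have h4 : 3 ^ (3 * (2 * m + 1)) = (3 ^ (2 * m + 1)) ^ 3 := by rw [← pow_mul]; ring_nf
      rw [h3, h4]
      exact fac _
    rw [h2] at h1
    rcases hl.dvd_mul.1 h1 with h3 | h3
    · have h4 := (hE _).1 h3
      have := Nat.le_of_dvd (by omega) h4
      omega
    · exact h3
  have hdc : l ∣ Nat.card ↥(twistedG2 F (3 ^ m)) := by
    rw [hcard]
    exact hldvd.mul_left _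
  have : Fact l.Prime := ⟨hl⟩
  obtain ⟨x, hx⟩ := exists_prime_orderOf_dvd_card' l hdc
  have hna : ¬ IsMulCommutative ↥(twistedG2 F (3 ^ m)) := by
    intro hc
    have h1 : (Nat.card ↥(twistedG2 F (3 ^ m))).Prime := by
      let _ : CommGroup ↥(twistedG2 F (3 ^ m)) := { mul_comm := fun a b => hc.is_comm.comm a b }
      exact IsSimpleGroup.prime_card
    have h2 : 3 ∣ Nat.card ↥(twistedG2 F (3 ^ m)) := by
      rw [hcard, mul_assoc]
      exact ((dvd_pow_self 3 (by omega)).trans (dvd_pow_self _ (by norm_num))).mul_right _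
    have h3 := (Nat.prime_dvd_prime_iff_eq Nat.prime_three h1).1 h2
    have h4 := (Nat.prime_dvd_prime_iff_eq hl h1).1 hdc
    omega
  have hN3 : p = 3 → NoNorm p x := by
    rintro rfl
    have hno : ∀ z : ↥(twistedG2 F (3 ^ m)), orderOf z ≠ 3 * l := by
      intro z hz
      have h1 := (Cfsg.Agent.S1159.result hm hF (3 * l)).1 ⟨z, hz⟩
      have h3 : ∀ a : ℕ, ¬ 3 ∣ a → ¬ 3 * l ∣ a := fun a ha h => ha ((Dvd.intro _ rfl).trans h)
      have hq : 3 ∣ 3 ^ (2 * m + 1) := dvd_pow_self 3 (by omega)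
      have hq1 : 1 ≤ 3 ^ (2 * m + 1) := Nat.one_le_pow _ _ (by norm_num)
      have hq2 : 3 ∣ 3 ^ (m + 1) := dvd_pow_self 3 (by omega)
      have hqq : 3 ^ (m + 1) ≤ 3 ^ (2 * m + 1) := Nat.pow_le_pow_right (by norm_num) (by omega)
      rcases h1 with h | h | h | h | h | h
      · have := Nat.le_of_dvd (by norm_num) h
        omega
      · have := Nat.le_of_dvd (by norm_num) h
        omega
      · exact h3 _ (by omega) h
      · refine h3 _ ?_ h
        intro h4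
        have h5 : Odd (3 ^ (2 * m + 1)) := Odd.pow (by decide)
        obtain ⟨c, hc⟩ := h5
        omega
      · exact h3 _ (by omega) h
      · exact h3 _ (by omega) h
    have hl3' : l ≠ 3 := by omega
    refine noNorm_of_order hl hx ?_ ?_
    · intro y hy hc
      apply hno (x * y)
      rw [(show Commute x y from hc).orderOf_mul_eq_mul_orderOf_of_coprime (by
        rw [hx, hy]; exact (Nat.coprime_primes hl Nat.prime_three).2 hl3'), hx, hy, mul_comm]
    · intro k hk hdk hlk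
      rw [hcard, mul_assoc] at hdk
      have h1 : Nat.Coprime (3 ^ k) ((3 ^ (2 * m + 1) - 1) * ((3 ^ (2 * m + 1)) ^ 3 + 1)) := by
        apply Nat.Coprime.pow_left
        rw [Nat.Prime.coprime_iff_not_dvd Nat.prime_three, Nat.Prime.dvd_mul Nat.prime_three]
        have hq : 3 ∣ 3 ^ (2 * m + 1) := dvd_pow_self 3 (by omega)
        have hq1 : 1 ≤ 3 ^ (2 * m + 1) := Nat.one_le_pow _ _ (by norm_num)
        have hq3 : 3 ∣ (3 ^ (2 * m + 1)) ^ 3 := hq.trans (dvd_pow_self _ (by norm_num))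
        omega
      have h2 := h1.dvd_of_dvd_mul_right hdk
      rw [← pow_mul] at h2
      have h3 := (Nat.pow_dvd_pow_iff_le_right (by norm_num : 1 < 3)).1 h2
      have h4 := Nat.le_of_dvd (Nat.pos_of_ne_zero hk) ((hE k).1 hlk)
      omega
  refine (row_mat (G := twistedG2 F (3 ^ m)) hna (stab_g2 _) ?_ ((Units.coeHom _).comp (Subgroup.subtype _))
    (coe_rho_injective _) (fun σ g => rfl) Nat.prime_three hF' ⟨m, rfl⟩ hl (by omega) hE ?_
    ?_ (by omega) (S2127.result hm hF) hx hp2 hN3 ?_).congr e.symm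
  · intro ψ
    obtain ⟨g, σ, h⟩ := Cfsg.Agent.H71.FldAut.ree_aut hm hF ψ
    exact ⟨g, σ, h⟩
  · have : Fintype.card chevG2.Idx = 14 := rfl
    omega
  · have : Fintype.card chevG2.Idx = 14 := rfl
    omega
  · rcases Nat.lt_or_ge 3 p with h3 | h3
    · exact Or.inl ⟨default, Cfsg.Agent.S1156.result hm hF h3 default⟩
    · have := hp.1.two_le
      exact Or.inr ⟨x, hN3 (by omega)⟩

end Cfsg.Agent.H798.RowTw
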