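import Cfsg.Agent.H798.RowSpBase
import Cfsg.Agent.SporadicRecognition.HSAssemble
import Cfsg.Agent.CpAutHSFive.Row
import Cfsg.Agent.NotCT.Orders

/-!
# The row HS of S4329 (helper798)

An element `u` of order 11 of the Higman–Sims group fixes exactly one of the 100 points; an element of order 3 or 5
commuting with `u` fixes the 22 neighbours of that point, hence is trivial.
-/

set_option autoImplicit false

namespace Cfsg.Agent.H798.RowSp

open Subgroup Cfsg Cfsg.Agent.H568 Cfsg.Agent.CpAut
open MulAction hiding orbit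
open MulAction
open Cfsg.Agent.SporadicRecognition.RankThree Cfsg.Agent.SporadicRecognition.HSAssemble

universe u

/-- an automorphism of the point-block graph fixing the extra vertex and all points is trivial -/
theorem eq_of_fix {α : Type*} {B : Set (Finset α)} (f : pointBlockGraph B ≃g pointBlockGraph B)
    (h0 : f none = none) (h1 : ∀ a : α, f (some (Sum.inl a)) = some (Sum.inl a)) (v : Option (α ⊕ B)) : f v = v := by
  rcases v with _ | a | β
  · exact h0
  · exact h1 a
  · rcases hv : f (some (Sum.inr β)) with _ | a | γ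
    · have h2 := f.injective (hv.trans h0.symm)
      simp at h2
    · have h2 := f.injective (hv.trans (h1 a).symm)
      simp at h2
    · have h3 : (γ : Finset α) = β := by
        ext a
        rw [← Cfsg.Agent.SporadicStructure.SRGSteiner.adj_inl_inr (B := B) a γ,
          ← Cfsg.Agent.SporadicStructure.SRGSteiner.adj_inl_inr (B := B) a β, ← hv]
        conv_lhs => rw [← h1 a]
        exact f.map_adj_iff
      rw [Subtype.ext h3]

/-- the automorphism of the graph given by an element -/
theorem smul_eq_of_nbr {G X : Type*} [Group G] [MulAction G X] [Fintype X] {a b c : X}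
    (h : IsRankThree G a b c 22 77) {y : G} (hya : y • a = a) (hy : ∀ v, h.graph.Adj a v → y • v = v) (v : X) :
    y • v = v := by
  classical
  obtain ⟨B, -, e, he⟩ := Cfsg.Agent.SporadicStructure.SRGSteiner.exists_steiner_of_srg (srg h) a
  let σ : h.graph ≃g h.graph := { toEquiv := MulAction.toPerm y, map_rel_iff' := fun {u w} => h.adj_smul y }
  have hσ : ∀ w, σ w = y • w := fun w => rfl
  let f : pointBlockGraph B ≃g pointBlockGraph B := (e.symm.trans σ).trans e
  have hf : ∀ w, f w = e (y • e.symm w) := fun w => rfl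
  have hfix : ∀ w, f w = w := by
    refine eq_of_fix f ?_ ?_
    · rw [hf, ← he, e.symm_apply_apply, hya]
    · intro α
      rw [hf, hy _ ?_, e.apply_symm_apply]
      have h1 := Cfsg.Agent.SporadicStructure.SRGSteiner.adj_none_inl (B := B) α
      rw [← e.symm.map_adj_iff, ← he, e.symm_apply_apply] at h1
      exact h1
  have h2 := hfix (e v)
  rw [hf, e.symm_apply_apply] at h2
  exact e.injective h2

/-- the order of a two-point stabilizer -/
theorem not_fix {G X : Type*} [Group G] [Finite G] [MulAction G X] {a b : X} {N k : ℕ}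
    (hN : Nat.card (stabilizer G a) = N) (hb : (MulAction.orbit (stabilizer G a) b).ncard = k) {l m : ℕ} (hkm : k * m = N)
    (hk : 0 < k) (hl : ¬ l ∣ m) {u : G} (hu : orderOf u = l) (hua : u • a = a) {v : X}
    (hv : v ∈ MulAction.orbit (stabilizer G a) b) : u • v ≠ v := by
  intro huv
  obtain ⟨⟨g, hg⟩, rfl⟩ := hv
  have hg' : g • a = a := hg
  have huv' : u • (g • b) = g • b := huv
  -- the conjugate fixes `a` and `b`
  have h1 : (g⁻¹ * u * g) • a = a := by
    rw [mul_smul, mul_smul, hg', hua, inv_smul_eq_iff, hg']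
  have h2 : (g⁻¹ * u * g) • b = b := by
    rw [mul_smul, mul_smul, huv', inv_smul_smul]
  let w : stabilizer G a := ⟨g⁻¹ * u * g, h1⟩
  have hw : w ∈ stabilizer (stabilizer G a) b := h2
  have h3 : Nat.card (stabilizer (stabilizer G a) b) = m := by
    have h4 := (stabilizer (stabilizer G a) b).card_mul_index
    rw [index_stabilizer, hb, hN, ← hkm, mul_comm] at h4
    exact Nat.eq_of_mul_eq_mul_left hk h4
  have h5 := orderOf_dvd_natCard (⟨w, hw⟩ : stabilizer (stabilizer G a) b)
  rw [Subgroup.orderOf_mk, h3] at h5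
  have h6 : orderOf w = l := by
    rw [← hu, ← Subgroup.orderOf_coe]
    have h7 : g⁻¹ * u * g = MulAut.conj g⁻¹ u := by rw [MulAut.conj_apply, inv_inv]
    show orderOf (g⁻¹ * u * g) = orderOf u
    rw [h7, MulEquiv.orderOf_eq]
  rw [h6] at h5
  exact hl h5

/-- the main step: `u` of order 11 and `y` of order `p` do not commute -/
theorem hs_key {G X : Type*} [Group G] [Finite G] [MulAction G X] [Fintype X] [FaithfulSMul G X] {a b c : X}
    (h : IsRankThree G a b c 22 77) (hG : Nat.card G = 44352000) {p j k : ℕ} (hp : p.Prime)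
    (hj : 11 ∣ p * j - 1) (hj1 : 1 ≤ p * j) (hk : p ∣ 11 * k - 1) (hk1 : 1 ≤ 11 * k)
    (hn : ∀ n, n ≤ 22 → n ∣ 11 * p → n ∣ p ∨ n ∣ 11) {u y : G} (hu : orderOf u = 11) (hy : orderOf y = p)
    (huy : u * y = y * u) (hua : u • a = a) : False := by
  classical
  have := h.trans
  have hs : Nat.card (stabilizer G a) = 443520 := by
    have h1 := (stabilizer G a).card_mul_index
    rw [index_stabilizer, orbit_eq_univ, Set.ncard_univ, h.cardX, hG] at h1
    omega
  have huniq : ∀ v, u • v = v → v = a := by
    intro v hv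
    rcases h.cases_base v with h1 | h1 | h1
    · exact h1
    · exact absurd hv (not_fix (m := 20160) (l := 11) hs h.cb (by norm_num) (by norm_num) (by norm_num) hu hua
        (orb_self_iff.1 h1))
    · exact absurd hv (not_fix (m := 5760) (l := 11) hs h.cc (by norm_num) (by norm_num) (by norm_num) hu hua
        (orb_self_iff.1 h1))
  have hya : y • a = a := huniq _ (by rw [← mul_smul, huy, mul_smul, hua])
  have hu11 : u ^ 11 = 1 := by rw [← hu]; exact pow_orderOf_eq_one u
  have hyp : y ^ p = 1 := by rw [← hy]; exact pow_orderOf_eq_one y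
  have hc : Commute u y := huy
  -- powers
  have huj : (u ^ p) ^ j = u := by
    obtain ⟨m, hm⟩ := hj
    rw [← pow_mul, show p * j = 11 * m + 1 by omega, pow_succ, pow_mul, hu11, one_pow, one_mul]
  have hyk : (y ^ 11) ^ k = y := by
    obtain ⟨m, hm⟩ := hk
    rw [← pow_mul, show 11 * k = p * m + 1 by omega, pow_succ, pow_mul, hyp, one_pow, one_mul]
  have hpow : ∀ (g : G) (v : X) (n : ℕ), g • v = v → g ^ n • v = v := by
    intro g v n hg
    induction n with
    | zero => rw [pow_zero, one_smul]
    | succ n ih => rw [pow_succ, mul_smul, hg, ih]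
  have hzp : (u * y) ^ p = u ^ p := by rw [hc.mul_pow, hyp, mul_one]
  have hz11 : (u * y) ^ 11 = y ^ 11 := by rw [hc.mul_pow, hu11, one_mul]
  have hz : orderOf (u * y) ∣ 11 * p := by
    apply orderOf_dvd_of_pow_eq_one
    rw [pow_mul, hz11, ← pow_mul, mul_comm, pow_mul, hyp, one_pow]
  have hza : (u * y) • a = a := by rw [mul_smul, hya, hua]
  have hfix : ∀ v, h.graph.Adj a v → y • v = v := by
    intro v hv
    have hvO : v ∈ MulAction.orbit (stabilizer G a) b := orb_self_iff.1 hv
    have hva : v ≠ a := fun h1 => h.orb_ne hv h1.symm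
    have hle : period (u * y) v ≤ 22 := by
      have h1 : period (u * y) v = Nat.card (MulAction.orbit (zpowers (u * y)) v) := by
        have : Fintype (MulAction.orbit (zpowers (u * y)) v) := Fintype.ofFinite _
        rw [Nat.card_eq_fintype_card]
        exact MulAction.minimalPeriod_eq_card (a := u * y) (b := v)
      rw [h1, Nat.card_coe_set_eq, ← h.cb]
      refine Set.ncard_le_ncard ?_ (Set.toFinite _)
      rintro _ ⟨⟨g, hg⟩, rfl⟩
      have h2 : g ∈ stabilizer G a := by
        have h3 : zpowers (u * y) ≤ stabilizer G a := by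
          rw [zpowers_le]
          exact hza
        exact h3 hg
      have h4 := (orbit_eq_iff.2 hvO)
      rw [← h4]
      exact ⟨⟨g, h2⟩, rfl⟩
    rcases hn _ hle ((period_dvd_orderOf _ _).trans hz) with h1 | h1
    · exfalso
      apply hva
      apply huniq
      obtain ⟨m, hm⟩ := h1
      have h2 : (u * y) ^ p • v = v := by
        rw [hm, pow_mul]
        exact hpow _ _ _ (pow_period_smul _ _)
      rw [hzp] at h2
      have h3 := hpow _ _ j h2
      rwa [huj] at h3
    · obtain ⟨m, hm⟩ := h1
      have h2 : (u * y) ^ 11 • v = v := by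
        rw [hm, pow_mul]
        exact hpow _ _ _ (pow_period_smul _ _)
      rw [hz11] at h2
      have h3 := hpow _ _ k h2
      rwa [hyk] at h3
  have h1 := smul_eq_of_nbr h hya hfix
  have h2 : y = 1 := FaithfulSMul.eq_of_smul_eq_smul (α := X) fun v => by rw [h1 v, one_smul]
  rw [h2, orderOf_one] at hy
  exact hp.one_lt.ne hy

/-- the general step -/
theorem hs_comm {G X : Type*} [Group G] [Finite G] [MulAction G X] [Fintype X] [FaithfulSMul G X] {a b c : X}
    (h : IsRankThree G a b c 22 77) (hG : Nat.card G = 44352000) {p j k : ℕ} (hp : p.Prime)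
    (hj : 11 ∣ p * j - 1) (hj1 : 1 ≤ p * j) (hk : p ∣ 11 * k - 1) (hk1 : 1 ≤ 11 * k)
    (hn : ∀ n, n ≤ 22 → n ∣ 11 * p → n ∣ p ∨ n ∣ 11) {u y : G} (hu : orderOf u = 11) (hy : orderOf y = p) :
    u * y ≠ y * u := by
  classical
  intro huy
  have := h.trans
  have hf : Fact (Nat.Prime 11) := ⟨by norm_num⟩
  have hlg : IsPGroup 11 ↥(zpowers u) := IsPGroup.of_card (n := 1) (by rw [Nat.card_zpowers, hu, pow_one])
  have h1 := hlg.card_modEq_card_fixedPoints X
  have h2 : Nat.card (fixedPoints (zpowers u) X) ≠ 0 := by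
    intro h3
    rw [h3, h.cardX] at h1
    exact absurd h1 (by decide)
  obtain ⟨⟨x, hx⟩⟩ : Nonempty (fixedPoints (zpowers u) X) := by
    by_contra hcon
    rw [not_nonempty_iff] at hcon
    exact h2 Nat.card_of_isEmpty
  have hux : u • x = x := hx ⟨u, mem_zpowers u⟩
  obtain ⟨g, hg⟩ := exists_smul_eq G a x
  refine hs_key h hG hp hj hj1 hk hk1 hn (u := MulAut.conj g⁻¹ u) (y := MulAut.conj g⁻¹ y) (by rw [MulEquiv.orderOf_eq, hu])
    (by rw [MulEquiv.orderOf_eq, hy]) (by rw [← map_mul, huy, map_mul]) ?_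
  rw [MulAut.conj_apply, inv_inv, mul_smul, mul_smul, hg, hux, inv_smul_eq_iff, hg]

theorem hs_model (K : Type u) [Group K] [Finite K] (h : Spor.IsoHS K) {p j k : ℕ} (hp : p.Prime)
    (hj : 11 ∣ p * j - 1) (hj1 : 1 ≤ p * j) (hk : p ∣ 11 * k - 1) (hk1 : 1 ≤ 11 * k)
    (hn : ∀ n, n ≤ 22 → n ∣ 11 * p → n ∣ p ∨ n ∣ 11) (u y : K) (hu : orderOf u = 11) (hy : orderOf y = p) :
    u * y ≠ y * u := by
  obtain ⟨e⟩ := h
  obtain ⟨H, Y, i1, i2, i3, i4, a, b, c, hr, hH, -, ⟨f⟩⟩ := hs_rank
  intro huy
  have hfin : Finite H := Finite.of_equiv _ (e.trans f.symm).toEquiv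
  exact hs_comm hr hH hp hj hj1 hk hk1 hn (u := (e.trans f.symm) u) (y := (e.trans f.symm) y)
    (by rw [MulEquiv.orderOf_eq, hu]) (by rw [MulEquiv.orderOf_eq, hy]) (by rw [← map_mul, huy, map_mul])

theorem row_hs (K : Type u) [Group K] [Finite K] [IsSimpleGroup K] (h : Spor.IsoHS K) (p : ℕ) [hp : Fact p.Prime]
    (hp2 : p ≠ 2) : Row p K := by
  have hN := NotCT.Orders.hs h
  refine row_driver hN (by norm_num) (CpAutHSFive.autInner hp.1 hp2 h) fun hd => ?_
  have h1 := mem_of_sq [2, 3, 5, 7, 11] [2, 3, 5] (by simp; norm_num) 9 (by decide +kernel) (by decide +kernel) hp.1 hd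
  simp only [List.mem_cons, List.not_mem_nil, or_false] at h1
  rcases h1.resolve_left hp2 with rfl | rfl
  · exact exists_noNorm_of_elt hN 11 2 (by norm_num) (by norm_num) (by norm_num) (by decide)
      (hs_model K h hp.1 (j := 4) (k := 2) (by norm_num) (by norm_num) (by norm_num) (by norm_num) (by decide))
  · exact exists_noNorm_of_elt hN 11 3 (by norm_num) (by norm_num) (by norm_num) (by decide)
      (hs_model K h hp.1 (j := 9) (k := 1) (by norm_num) (by norm_num) (by norm_num) (by norm_num) (by decide))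

end Cfsg.Agent.H798.RowSp
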