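import Cfsg.Agent.H798.RowSpBase
import Cfsg.Agent.H379.J2Spec
import Cfsg.Agent.H337.JankoOfIso
import Cfsg.Agent.NotCT.Orders
import Cfsg.Agent.S5577
import Cfsg.Agent.S2066
import Cfsg.Agent.S2068

/-!
# The rows J2, J4 of S4329 (helper798)
-/

set_option autoImplicit false

namespace Cfsg.Agent.H798.RowSp

open Subgroup Cfsg Cfsg.Agent.H568 Cfsg.Agent.CpAut

universe u

variable {K : Type u} [Group K] {p : ℕ}

theorem orderOf_mul_of_comm {x y : K} {a b : ℕ} (hx : orderOf x = a) (hy : orderOf y = b) (hab : a.Coprime b)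
    (h : x * y = y * x) : orderOf (x * y) = a * b := by
  rw [(show Commute x y from h).orderOf_mul_eq_mul_orderOf_of_coprime (by rw [hx, hy]; exact hab), hx, hy]

theorem row_j2 (K : Type u) [Group K] [Finite K] [IsSimpleGroup K] (h : Spor.IsoJ2 K) (p : ℕ) [hp : Fact p.Prime]
    (hp2 : p ≠ 2) : Row p K := by
  have hN := NotCT.Orders.j2 h
  obtain ⟨e⟩ := h
  have : Finite Spor.J2 := Finite.of_equiv _ e.toEquiv
  refine row_driver hN (by norm_num) (autInner_of_out e (by norm_num) S2066.result hp2) fun hd => ?_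
  have h1 := mem_of_sq [2, 3, 5, 7] [2, 3, 5] (by simp; norm_num) 7 (by decide +kernel) (by decide +kernel) hp.1 hd
  simp only [List.mem_cons, List.not_mem_nil, or_false] at h1
  rcases h1.resolve_left hp2 with rfl | rfl
  · refine exists_noNorm_of_elt hN 7 3 (by norm_num) (by norm_num) (by norm_num) (by decide) fun x y hx hy hxy => ?_
    have h2 := orderOf_mul_of_comm hx hy (by norm_num) hxy
    have h3 := H379.J2Spec.orders_J2 (e (x * y))
    rw [MulEquiv.orderOf_eq, h2] at h3
    exact absurd h3 (by decide)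
  · refine exists_noNorm_of_elt hN 7 2 (by norm_num) (by norm_num) (by norm_num) (by decide) fun x y hx hy hxy => ?_
    have h2 := orderOf_mul_of_comm hx hy (by norm_num) hxy
    have h3 := H379.J2Spec.orders_J2 (e (x * y))
    rw [MulEquiv.orderOf_eq, h2] at h3
    exact absurd h3 (by decide)

/-- elements of order 43 of a group of Janko-four type commute with no elements of prime order `p ≠ 43` -/
theorem cen_j4 [Finite K] [IsSimpleGroup K] (hna : ¬ IsMulCommutative K) (hJ : IsOfJankoFourType K)
    (hN : Nat.card K = 86775571046077562880) (hp : p.Prime) (h43 : p ≠ 43) {x y : K} (hx : orderOf x = 43)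
    (hy : orderOf y = p) : x * y ≠ y * x := by
  intro hxy
  have hf : Fact (Nat.Prime 43) := ⟨by norm_num⟩
  obtain ⟨-, -, -, -, h5⟩ := S5577.result hna hJ
  have hc : Nat.card (zpowers x) = 43 := by rw [Nat.card_zpowers, hx]
  have hP : IsPGroup 43 (zpowers x) := IsPGroup.of_card (n := 1) (by rw [hc, pow_one])
  have hidx : ¬ 43 ∣ (zpowers x).index := by
    intro hd
    have h1 := (zpowers x).card_mul_index
    obtain ⟨m, hm⟩ := hd
    rw [hc, hm, hN] at h1
    omega
  obtain ⟨h6, -⟩ := h5 (hP.toSylow hidx)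
  have h7 : y ∈ centralizer ((zpowers x : Subgroup K) : Set K) := by
    rw [mem_centralizer_iff]
    rintro _ ⟨m, rfl⟩
    exact ((show Commute x y from hxy).zpow_left m).eq
  have h8 : y ∈ zpowers x := by
    have h9 : centralizer ((zpowers x : Subgroup K) : Set K) = zpowers x := h6
    rwa [h9] at h7
  have h10 := orderOf_dvd_natCard (⟨y, h8⟩ : zpowers x)
  rw [Subgroup.orderOf_mk, hy, hc] at h10
  exact h43 ((Nat.prime_dvd_prime_iff_eq hp (by norm_num)).1 h10)

theorem row_j4 (K : Type u) [Group K] [Finite K] [IsSimpleGroup K] (h : Spor.IsoJ4 K) (p : ℕ) [hp : Fact p.Prime]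
    (hp2 : p ≠ 2) : Row p K := by
  have hN := NotCT.Orders.j4 h
  have hJ := H337.isOfJankoFourType_of_isoJ4 h
  have hna : ¬ IsMulCommutative K := na_of_card hN (by norm_num)
  obtain ⟨e⟩ := h
  have : Finite Spor.J4 := Finite.of_equiv _ e.toEquiv
  refine row_driver hN (by norm_num) (autInner_of_out e (by norm_num) S2068.result hp2) fun hd => ?_
  have h1 := mem_of_sq [2, 3, 5, 7, 11, 23, 29, 31, 37, 43] [2, 3, 11] (by simp; norm_num) 21 (by decide +kernel)
    (by decide +kernel) hp.1 hd
  simp only [List.mem_cons, List.not_mem_nil, or_false] at h1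
  rcases h1.resolve_left hp2 with rfl | rfl
  · exact exists_noNorm_of_elt hN 43 3 (by norm_num) (by norm_num) (by norm_num) (by decide)
      fun x y hx hy => cen_j4 hna hJ hN hp.1 (by norm_num) hx hy
  · exact exists_noNorm_of_elt hN 43 3 (by norm_num) (by norm_num) (by norm_num) (by decide)
      fun x y hx hy => cen_j4 hna hJ hN hp.1 (by norm_num) hx hy

end Cfsg.Agent.H798.RowSp
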