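import Cfsg.Agent.H798.RowSpBase
import Cfsg.Agent.H859.CentC
import Cfsg.Agent.NotCT.Orders
import Cfsg.Agent.CpAutTits.Row
import Cfsg.Agent.SporadicA.MathieuRecog
import Cfsg.Agent.S2060
import Cfsg.Agent.S2061
import Cfsg.Agent.S2062
import Cfsg.Agent.S2063
import Cfsg.Agent.S2064
import Cfsg.Agent.S2065

/-!
# The rows M11, M12, M22, M23, M24, J1 and Tits of S4329 (helper798)
-/

set_option autoImplicit false

namespace Cfsg.Agent.H798.RowSp

open Subgroup Cfsg Cfsg.Agent.H568 Cfsg.Agent.CpAut

universe u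

variable {K : Type u} [Group K] {p : ℕ}

/-- elements of order 11 and of prime order `p ≠ 11` do not commute in a subgroup of `M24` -/
theorem cen_m24 (f : K →* M24) (hf : Function.Injective f) (hp : p.Prime) (h11 : p ≠ 11) {x y : K}
    (hx : orderOf x = 11) (hy : orderOf y = p) : x * y ≠ y * x := by
  intro h
  have h1 := H859.CentC.eq_one_of_comm (g := f x) (t := f y) (p := p) (n := 1) (by rw [orderOf_injective f hf, hx])
    (by rw [← map_mul, ← map_mul, h]) hp h11 (by
      rw [pow_one, ← map_pow, ← hy, pow_orderOf_eq_one, map_one])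
  have h2 : y = 1 := hf (by rw [h1, map_one])
  rw [h2, orderOf_one] at hy
  exact hp.one_lt.ne hy

theorem m11_le : Spor.M11 ≤ M24 := fun _ h => h.1.1
theorem m12_le : Spor.M12 ≤ M24 := fun _ h => h.1
theorem m22_le : Spor.M22 ≤ M24 := fun _ h => h.1.1
theorem m23_le : Spor.M23 ≤ M24 := fun _ h => h.1

theorem cen_sub {H : Subgroup (Equiv.Perm GolayPt)} (hH : H ≤ M24) (e : K ≃* H) (hp : p.Prime) (h11 : p ≠ 11)
    {x y : K} (hx : orderOf x = 11) (hy : orderOf y = p) : x * y ≠ y * x :=
  cen_m24 ((Subgroup.inclusion hH).comp e.toMonoidHom)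
    ((Subgroup.inclusion_injective hH).comp e.injective) hp h11 hx hy

theorem row_m11 (K : Type u) [Group K] [Finite K] [IsSimpleGroup K] (h : Spor.IsoM11 K) (p : ℕ) [hp : Fact p.Prime]
    (hp2 : p ≠ 2) : Row p K := by
  have hN := NotCT.Orders.m11 h
  obtain ⟨e⟩ := h
  refine row_driver hN (by norm_num) (autInner_of_out e (by norm_num) S2060.result hp2) fun hd => ?_
  have h1 := mem_of_sq [2, 3, 5, 11] [2, 3] (by simp; norm_num) 4 (by decide +kernel) (by decide +kernel) hp.1 hd
  simp only [List.mem_cons, List.not_mem_nil, or_false] at h1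
  obtain rfl := h1.resolve_left hp2
  exact exists_noNorm_of_elt hN 11 2 (by norm_num) (by norm_num) (by norm_num) (by decide)
    fun x y hx hy => cen_sub m11_le e hp.1 (by norm_num) hx hy

theorem row_m12 (K : Type u) [Group K] [Finite K] [IsSimpleGroup K] (h : Spor.IsoM12 K) (p : ℕ) [hp : Fact p.Prime]
    (hp2 : p ≠ 2) : Row p K := by
  have hN := NotCT.Orders.m12 h
  obtain ⟨e⟩ := h
  refine row_driver hN (by norm_num) (autInner_of_out e (by norm_num) S2061.result hp2) fun hd => ?_
  have h1 := mem_of_sq [2, 3, 5, 11] [2, 3] (by simp; norm_num) 6 (by decide +kernel) (by decide +kernel) hp.1 hd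
  simp only [List.mem_cons, List.not_mem_nil, or_false] at h1
  obtain rfl := h1.resolve_left hp2
  exact exists_noNorm_of_elt hN 11 3 (by norm_num) (by norm_num) (by norm_num) (by decide)
    fun x y hx hy => cen_sub m12_le e hp.1 (by norm_num) hx hy

theorem row_m22 (K : Type u) [Group K] [Finite K] [IsSimpleGroup K] (h : Spor.IsoM22 K) (p : ℕ) [hp : Fact p.Prime]
    (hp2 : p ≠ 2) : Row p K := by
  have hN := NotCT.Orders.m22 h
  obtain ⟨e⟩ := h
  refine row_driver hN (by norm_num) (autInner_of_out e (by norm_num) S2062.result hp2) fun hd => ?_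
  have h1 := mem_of_sq [2, 3, 5, 7, 11] [2, 3] (by simp; norm_num) 7 (by decide +kernel) (by decide +kernel) hp.1 hd
  simp only [List.mem_cons, List.not_mem_nil, or_false] at h1
  obtain rfl := h1.resolve_left hp2
  exact exists_noNorm_of_elt hN 11 2 (by norm_num) (by norm_num) (by norm_num) (by decide)
    fun x y hx hy => cen_sub m22_le e hp.1 (by norm_num) hx hy

theorem row_m23 (K : Type u) [Group K] [Finite K] [IsSimpleGroup K] (h : Spor.IsoM23 K) (p : ℕ) [hp : Fact p.Prime]
    (hp2 : p ≠ 2) : Row p K := by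
  have hN := NotCT.Orders.m23 h
  obtain ⟨e⟩ := h
  refine row_driver hN (by norm_num) (autInner_of_out e (by norm_num) S2063.result hp2) fun hd => ?_
  have h1 := mem_of_sq [2, 3, 5, 7, 11, 23] [2, 3] (by simp; norm_num) 7 (by decide +kernel) (by decide +kernel) hp.1 hd
  simp only [List.mem_cons, List.not_mem_nil, or_false] at h1
  obtain rfl := h1.resolve_left hp2
  exact exists_noNorm_of_elt hN 11 2 (by norm_num) (by norm_num) (by norm_num) (by decide)
    fun x y hx hy => cen_sub m23_le e hp.1 (by norm_num) hx hy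

theorem row_m24 (K : Type u) [Group K] [Finite K] [IsSimpleGroup K] (h : Spor.IsoM24 K) (p : ℕ) [hp : Fact p.Prime]
    (hp2 : p ≠ 2) : Row p K := by
  have hN := NotCT.Orders.m24 h
  obtain ⟨e⟩ := h
  refine row_driver hN (by norm_num) (autInner_of_out e (by norm_num) S2064.result hp2) fun hd => ?_
  have h1 := mem_of_sq [2, 3, 5, 7, 11, 23] [2, 3] (by simp; norm_num) 10 (by decide +kernel) (by decide +kernel) hp.1 hd
  simp only [List.mem_cons, List.not_mem_nil, or_false] at h1
  obtain rfl := h1.resolve_left hp2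
  exact exists_noNorm_of_elt hN 11 3 (by norm_num) (by norm_num) (by norm_num) (by decide)
    fun x y hx hy => cen_sub le_rfl e hp.1 (by norm_num) hx hy

theorem row_j1 (K : Type u) [Group K] [Finite K] [IsSimpleGroup K] (h : Spor.IsoJ1 K) (p : ℕ) [hp : Fact p.Prime]
    (hp2 : p ≠ 2) : Row p K := by
  have hN := NotCT.Orders.j1 h
  obtain ⟨e⟩ := h
  have : Finite Spor.J1 := Finite.of_equiv _ e.toEquiv
  refine row_driver hN (by norm_num) (autInner_of_out e (by norm_num) S2065.result hp2) fun hd => ?_
  have h1 := mem_of_sq [2, 3, 5, 7, 11, 19] [2] (by simp; norm_num) 3 (by decide +kernel) (by decide +kernel) hp.1 hd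
  simp only [List.mem_cons, List.not_mem_nil, or_false] at h1
  exact absurd h1 hp2

theorem row_tits (K : Type u) [Group K] [Finite K] [IsSimpleGroup K] (h : Lie.IsoTits K) (p : ℕ) [hp : Fact p.Prime]
    (hp2 : p ≠ 2) : Row p K := by
  have O := CpAutTits.Row.out h
  have hN : Nat.card K = 17971200 := O.card.trans (by norm_num)
  refine row_driver hN (by norm_num) (CpAutTits.Row.autInner h hp.1 hp2) fun hd => ?_
  have h1 := mem_of_sq [2, 3, 5, 13] [2, 3, 5] (by simp; norm_num) 11 (by decide +kernel) (by decide +kernel) hp.1 hd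
  simp only [List.mem_cons, List.not_mem_nil, or_false] at h1
  rcases h1.resolve_left hp2 with rfl | rfl
  · exact exists_noNorm_of_elt hN 5 3 (by norm_num) (by norm_num) (by norm_num) (by decide)
      fun x y hx hy hxy => O.ncomm y x hy hx hxy.symm
  · refine exists_noNorm_of_elt hN 13 2 (by norm_num) (by norm_num) (by norm_num) (by decide)
      fun x y hx hy hxy => ?_
    have h2 := O.cent y hy
    have h3 : x ∈ centralizer ({y} : Set K) := mem_centralizer_singleton_iff.2 hxy
    have h4 := orderOf_dvd_natCard (⟨x, h3⟩ : centralizer ({y} : Set K))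
    rw [Subgroup.orderOf_mk, hx, h2] at h4
    norm_num at h4

end Cfsg.Agent.H798.RowSp
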