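import Cfsg.Agent.SylowSp4.LargeC
import Cfsg.Agent.SylowSp4.Closed
import Cfsg.Agent.H187.FusSelfNorm
import Cfsg.Agent.H991.GroupGen
import Cfsg.Agent.Involutions.NormalFour

/-!
# The 2-fusion systems of groups with the fusion of `PSp_4(q)`, `q` odd, are simple (helper798)

`Fus S k f s`: coordinates of type `PSp_4(q)` on the Sylow 2-subgroup `S` and the necessary fusion.
-/

set_option autoImplicit false

namespace Cfsg.Agent.H798.PSpFus

open Cfsg Cfsg.FusionSystem Subgroup QuaternionGroup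
open Cfsg.Agent.SylowSp4.Coord Cfsg.Agent.SylowSp4.Facts Cfsg.Agent.SylowSp4.Base Cfsg.Agent.SylowSp4.Closed

/-- Coordinates and fusion. -/
structure Fus {G : Type*} [Group G] (S : Subgroup G) (k : ℕ) (f : Q k → Q k → G) (s : G) : Prop where
  h : TSp S k f s
  uu : ∀ α β γ δ : Q k, α * α = z k → β * β = z k → γ * γ = z k → δ * δ = z k → ∃ g : G, g * f α β * g⁻¹ = f γ δ
  nu : ∀ (g : G) (α β : Q k), α * α = z k → β * β = z k → g * f (z k) 1 * g⁻¹ ≠ f α β
  nus : ∀ (g : G) (α : Q k), g * f (z k) 1 * g⁻¹ ≠ f (z k * α) α⁻¹ * s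
  ts : ∃ g : G, g * f (z k) 1 * g⁻¹ = s
  nn : k = 1 → ∃ n : G, n ^ 4 = 1 ∧ n * f (z k) 1 * n⁻¹ = s ∧ n * s * n⁻¹ = f (z k) 1 ∧
    n * f (c k) (c k) * n⁻¹ = f (c k) (c k) ∧
    n * f (xa 0) (xa 0) * n⁻¹ = f (c k * xa 0) (c k * xa 0) ∧
    n * f (c k * xa 0) (c k * xa 0) * n⁻¹ = f (xa 0) (xa 0)

section Quat

variable {k : ℕ}

theorem a_mul_xa_sq (i j : ZMod (2 * 2 ^ k)) : ((a i : Q k) * xa j) * (a i * xa j) = z k := by
  rw [a_mul_xa, Cfsg.Agent.SylowSp4.Coord.xa_sq]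

theorem inv_sq {x : Q k} (h : x * x = z k) : x⁻¹ * x⁻¹ = z k := by
  rw [← mul_inv_rev, h, z_inv]

/-- every element is a product of two roots of `z` -/
theorem exists_two_roots (hk : 1 ≤ k) (g : Q k) : ∃ x y : Q k, x * x = z k ∧ y * y = z k ∧ g = x * y := by
  rcases g with i | j
  · refine ⟨a i * (xa 0)⁻¹, xa 0, ?_, Cfsg.Agent.SylowSp4.Coord.xa_sq _, by rw [inv_mul_cancel_right]⟩
    have h1 : ((xa 0 : Q k))⁻¹ = z k * xa 0 := inv_of_sq_z (Cfsg.Agent.SylowSp4.Coord.xa_sq 0)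
    rw [h1, z_def, a_mul_xa]
    exact a_mul_xa_sq _ _
  · refine ⟨(c k)⁻¹, c k * xa j, inv_sq (c_sq hk), ?_, by rw [inv_mul_cancel_left]⟩
    exact a_mul_xa_sq _ _

/-- the centre of `Q k` -/
theorem center_Q (hk : 1 ≤ k) {g : Q k} (h : ∀ x, g * x = x * g) : g = 1 ∨ g = z k := by
  rcases g with i | j
  · exact of_a_comm_xa (h (xa 0))
  · exfalso
    have h1 := h (c k)
    have h2 : (a (qq k) : Q k) * xa j = xa j * a (qq k) := h1.symm
    rcases of_a_comm_xa h2 with h3 | h3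
    · have h4 := c_sq hk
      have h5 : (c k : Q k) = 1 := h3
      rw [h5, one_mul] at h4
      exact z_ne_one h4.symm
    · have h4 := c_sq hk
      have h5 : (c k : Q k) = z k := h3
      rw [h5, z_mul_z] at h4
      exact z_ne_one h4.symm

end Quat

section Basic

variable {G : Type*} [Group G] {S : Subgroup G} {k : ℕ} {f : Q k → Q k → G} {s : G}

/-- the centre of `S` is generated by `t` -/
theorem center_S (h : TSp S k f s) {g : G} (hg : g ∈ S) (hc : ∀ x ∈ S, g * x = x * g) :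
    g = 1 ∨ g = f (z k) 1 := by
  obtain ⟨γ, δ, -, rfl⟩ := centralizer_root h hg (c_sq h.hk) (hc _ (h.f_mem _ _))
  have h1 : ∀ x : Q k, γ * x = x * γ := by
    intro x
    have h2 := hc _ (h.f_mem x 1)
    rw [comm_iff h] at h2
    rcases h2 with ⟨h3, -⟩ | ⟨-, h3⟩
    · exact h3
    · exfalso
      rw [mul_one, one_mul] at h3
      exact ne_z_mul _ h3
  have h1' : ∀ x : Q k, δ * x = x * δ := by
    intro x
    have h2 := hc _ (h.f_mem 1 x)
    rw [comm_iff h] at h2
    rcases h2 with ⟨-, h3⟩ | ⟨h3, -⟩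
    · exact h3
    · exfalso
      rw [mul_one, one_mul] at h3
      exact ne_z_mul _ h3
  rcases center_Q h.hk h1 with rfl | rfl <;> rcases center_Q h.hk h1' with rfl | rfl
  · left; exact h.f_one
  · right; exact h.f_one_z
  · right; rfl
  · left; exact h.f_zz

theorem conj_s_f (h : TSp S k f s) (α β γ : Q k) :
    f α β * (f γ γ⁻¹ * s) * (f α β)⁻¹ = f (α * γ * β⁻¹) (α * γ * β⁻¹)⁻¹ * s := by
  rw [h.f_mul_fs, h.f_inv, h.fs_mul_f]
  congr 2
  group

theorem f_zz_mul (h : TSp S k f s) (γ : Q k) : f (z k * γ) (z k * γ)⁻¹ * s = f γ γ⁻¹ * s := by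
  rw [mul_inv_rev, z_inv, ← z_comm, h.f_z_mul]

/-- An element normalizing a Sylow `p`-subgroup is a product of an element of it and an element of order prime to `p`. -/
theorem decomp [Finite G] {p : ℕ} [Fact p.Prime] (S : Sylow p G) {g : G}
    (hg : g ∈ Subgroup.normalizer ((S : Subgroup G) : Set G)) :
    ∃ g₁ ∈ (S : Subgroup G), ∃ g₂ ∈ Subgroup.normalizer ((S : Subgroup G) : Set G),
      ¬ p ∣ orderOf g₂ ∧ g = g₁ * g₂ := by
  set o := orderOf g with ho
  have ho0 : o ≠ 0 := (orderOf_pos g).ne'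
  set a := p ^ o.factorization p with ha
  set b := o / a with hb
  have hab : a * b = o := Nat.ordProj_mul_ordCompl_eq_self o p
  have hpb : ¬ p ∣ b := Nat.not_dvd_ordCompl Fact.out ho0
  have hcop : Nat.Coprime a b := by
    apply Nat.Coprime.pow_left
    exact (Nat.Prime.coprime_iff_not_dvd Fact.out).2 hpb
  have hbez : (1 : ℤ) = a * Nat.gcdA a b + b * Nat.gcdB a b := by
    have := Nat.gcd_eq_gcd_ab a b
    rw [hcop] at this
    exact_mod_cast this
  set g₁ := g ^ ((b : ℤ) * Nat.gcdB a b) with hg1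
  set g₂ := g ^ ((a : ℤ) * Nat.gcdA a b) with hg2
  have hgg : g = g₁ * g₂ := by
    rw [hg1, hg2, ← zpow_add, add_comm, ← hbez, zpow_one]
  have hg1p : g₁ ^ a = 1 := by
    rw [hg1, ← zpow_natCast, ← zpow_mul]
    have : (b : ℤ) * Nat.gcdB a b * (a : ℤ) = (o : ℤ) * Nat.gcdB a b := by
      rw [← hab]; push_cast; ring
    rw [this, zpow_mul, zpow_natCast, ho, pow_orderOf_eq_one, one_zpow]
  have hg2p : g₂ ^ b = 1 := by
    rw [hg2, ← zpow_natCast, ← zpow_mul]
    have : (a : ℤ) * Nat.gcdA a b * (b : ℤ) = (o : ℤ) * Nat.gcdA a b := by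
      rw [← hab]; push_cast; ring
    rw [this, zpow_mul, zpow_natCast, ho, pow_orderOf_eq_one, one_zpow]
  have hg1N : g₁ ∈ Subgroup.normalizer ((S : Subgroup G) : Set G) := Subgroup.zpow_mem _ hg _
  have hg2N : g₂ ∈ Subgroup.normalizer ((S : Subgroup G) : Set G) := Subgroup.zpow_mem _ hg _
  refine ⟨g₁, ?_, g₂, hg2N, ?_, hgg⟩
  · have hP : IsPGroup p (Subgroup.zpowers g₁) := by
      obtain ⟨k, -, hk⟩ := (Nat.dvd_prime_pow Fact.out).1 (orderOf_dvd_of_pow_eq_one hg1p)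
      exact IsPGroup.of_card (n := k) (by rw [Nat.card_zpowers, hk])
    have hsup : IsPGroup p ((S : Subgroup G) ⊔ Subgroup.zpowers g₁ : Subgroup G) := by
      apply IsPGroup.to_sup_of_normal_left' S.isPGroup' hP
      rw [Subgroup.zpowers_le]
      exact hg1N
    have := S.is_maximal' hsup le_sup_left
    rw [← this]
    exact (le_sup_right : Subgroup.zpowers g₁ ≤ _) (Subgroup.mem_zpowers g₁)
  · intro hd
    exact hpb (hd.trans (orderOf_dvd_of_pow_eq_one hg2p))

end Basic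

section Closed

variable {G : Type*} [Group G] [Finite G] {S : Sylow 2 G} {k : ℕ} {f : Q k → Q k → G} {s : G}

/-- no proper nontrivial strongly closed subgroup -/
theorem closed (H : Fus (S : Subgroup G) k f s) (T : Subgroup G)
    (hTS : T ≤ (S : Subgroup G)) (hT : ∀ x ∈ T, ∀ g : G, g * x * g⁻¹ ∈ (S : Subgroup G) → g * x * g⁻¹ ∈ T) :
    T = ⊥ ∨ T = (S : Subgroup G) := by
  by_cases hT1 : T = ⊥
  · exact Or.inl hT1
  right
  have h := H.h
  have hk := h.hk
  -- `t ∈ T`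
  have ht : f (z k) 1 ∈ T := by
    have hn : (T.subgroupOf (S : Subgroup G)).Normal := by
      constructor
      intro x hx g
      exact hT _ hx _ ((S : Subgroup G).mul_mem ((S : Subgroup G).mul_mem g.2 x.2) ((S : Subgroup G).inv_mem g.2))
    have hne : (T.subgroupOf (S : Subgroup G)) ≠ ⊥ := by
      intro hb
      apply hT1
      rw [eq_bot_iff]
      intro x hx
      have : (⟨x, hTS hx⟩ : (S : Subgroup G)) ∈ T.subgroupOf (S : Subgroup G) := hx
      rw [hb, Subgroup.mem_bot] at this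
      exact congrArg Subtype.val this
    obtain ⟨w, hwT, hwc, hw⟩ := Cfsg.Agent.Involutions.NormalFour.exists_mem_center_of_normal S.isPGroup' _ hne
    have h2 : (w : G) = 1 ∨ (w : G) = f (z k) 1 := by
      refine center_S h w.2 fun x hx => ?_
      have := Subgroup.mem_center_iff.1 hwc ⟨x, hx⟩
      exact (congrArg Subtype.val this).symm
    rcases h2 with h2 | h2
    · exfalso
      have : w = 1 := Subtype.ext h2
      rw [this, orderOf_one] at hw
      omega
    · rw [← h2]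
      exact hwT
  -- `s ∈ T`
  have hsT : s ∈ T := by
    obtain ⟨g, hg⟩ := H.ts
    have := hT _ ht g (by rw [hg]; exact h.s_mem)
    rwa [hg] at this
  have hconjT : ∀ x ∈ T, ∀ y ∈ (S : Subgroup G), y * x * y⁻¹ ∈ T := fun x hx y hy =>
    hT x hx y ((S : Subgroup G).mul_mem ((S : Subgroup G).mul_mem hy (hTS hx)) ((S : Subgroup G).inv_mem hy))
  have h1 : f (c k) (c k)⁻¹ ∈ T := by
    have h2 := hconjT s hsT (f (c k) 1) (h.f_mem _ _)
    rw [conj_s h] at h2
    have h3 := T.mul_mem h2 hsT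
    rwa [mul_assoc, h.s_s, mul_one] at h3
  have h2 : ∀ α β : Q k, α * α = z k → β * β = z k → f α β ∈ T := by
    intro α β hα hβ
    obtain ⟨g, hg⟩ := H.uu (c k) (c k)⁻¹ α β (c_sq hk) (inv_sq (c_sq hk)) hα hβ
    have := hT _ h1 g (by rw [hg]; exact h.f_mem _ _)
    rwa [hg] at this
  have h3 : ∀ g : Q k, f 1 g ∈ T := by
    intro g
    obtain ⟨x, y, hx, hy, rfl⟩ := exists_two_roots hk g
    have h4 := T.mul_mem (T.mul_mem (h2 (c k) x (c_sq hk) hx) (h2 (c k) y (c_sq hk) hy)) ht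
    rwa [h.f_mul, c_sq hk, h.f_mul, z_mul_z, mul_one] at h4
  have h3' : ∀ g : Q k, f g 1 ∈ T := by
    intro g
    obtain ⟨x, y, hx, hy, rfl⟩ := exists_two_roots hk g
    have h4 := T.mul_mem (T.mul_mem (h2 x (c k) hx (c_sq hk)) (h2 y (c k) hy (c_sq hk))) ht
    rw [← h.f_one_z, h.f_mul, c_sq hk, h.f_mul, z_mul_z, mul_one] at h4
    exact h4
  have h5 : ∀ a b : Q k, f a b ∈ T := by
    intro a b
    have := T.mul_mem (h3' a) (h3 b)
    rwa [h.f_mul, mul_one, one_mul] at this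
  refine le_antisymm hTS fun x hx => ?_
  rcases (h.mem_iff x).1 hx with ⟨a, b, rfl⟩ | ⟨a, b, rfl⟩
  · exact h5 a b
  · exact T.mul_mem (h5 a b) hsT

/-- `t` commutes with `N_G(S)` -/
theorem norm_comm_t (h : TSp (S : Subgroup G) k f s) {g : G}
    (hg : g ∈ Subgroup.normalizer ((S : Subgroup G) : Set G)) : g * f (z k) 1 * g⁻¹ = f (z k) 1 := by
  have h1 : g * f (z k) 1 * g⁻¹ ∈ (S : Subgroup G) := (Subgroup.mem_normalizer_iff.1 hg _).1 (h.f_mem _ _)
  rcases center_S h h1 (fun x hx => by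
    have h2 : g⁻¹ * x * g ∈ (S : Subgroup G) := by
      have := (Subgroup.mem_normalizer_iff.1 (Subgroup.inv_mem _ hg) x).1 hx
      rwa [inv_inv] at this
    have h3 := h.t_comm h2
    calc g * f (z k) 1 * g⁻¹ * x = g * (f (z k) 1 * (g⁻¹ * x * g)) * g⁻¹ := by group
      _ = g * (g⁻¹ * x * g * f (z k) 1) * g⁻¹ := by rw [h3]
      _ = x * (g * f (z k) 1 * g⁻¹) := by group) with h2 | h2
  · exfalso
    have : f (z k) 1 = 1 := by
      calc f (z k) 1 = g⁻¹ * (g * f (z k) 1 * g⁻¹) * g := by group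
        _ = 1 := by rw [h2]; group
    exact h.t_ne_one this
  · exact h2

/-- elements normalizing `S` normalize the base group -/
theorem norm_base (h : TSp (S : Subgroup G) k f s) {g : G}
    (hg : g ∈ Subgroup.normalizer ((S : Subgroup G) : Set G)) (α β : Q k) : ∃ γ δ, g * f α β * g⁻¹ = f γ δ := by
  have hroot : ∀ x ∈ (S : Subgroup G), x * x = f (z k) 1 → ∃ γ δ, g * x * g⁻¹ = f γ δ := by
    intro x hx hxx
    have h1 : g * x * g⁻¹ ∈ (S : Subgroup G) := (Subgroup.mem_normalizer_iff.1 hg _).1 hx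
    have h2 : (g * x * g⁻¹) * (g * x * g⁻¹) = f (z k) 1 := by
      calc (g * x * g⁻¹) * (g * x * g⁻¹) = g * (x * x) * g⁻¹ := by group
        _ = f (z k) 1 := by rw [hxx, norm_comm_t h hg]
    obtain ⟨γ, -, h3 | h3⟩ := root_cases h h1 h2
    · exact ⟨_, _, h3⟩
    · exact ⟨_, _, h3⟩
  have hmul : ∀ x y : G, (∃ γ δ, g * x * g⁻¹ = f γ δ) → (∃ γ δ, g * y * g⁻¹ = f γ δ) →
      ∃ γ δ, g * (x * y) * g⁻¹ = f γ δ := by
    rintro x y ⟨γ, δ, h1⟩ ⟨γ', δ', h2⟩
    refine ⟨γ * γ', δ * δ', ?_⟩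
    calc g * (x * y) * g⁻¹ = (g * x * g⁻¹) * (g * y * g⁻¹) := by group
      _ = _ := by rw [h1, h2, h.f_mul]
  have h1 : f α β = f α 1 * f 1 β := by rw [h.f_mul, mul_one, one_mul]
  rw [h1]
  apply hmul
  · obtain ⟨x, y, hx, hy, rfl⟩ := exists_two_roots h.hk α
    have h2 : f (x * y) 1 = f x 1 * f y 1 := by rw [h.f_mul, mul_one]
    rw [h2]
    exact hmul _ _ (hroot _ (h.f_mem _ _) (root_sq h hx)) (hroot _ (h.f_mem _ _) (root_sq h hy))
  · obtain ⟨x, y, hx, hy, rfl⟩ := exists_two_roots h.hk β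
    have h2 : f 1 (x * y) = f 1 x * f 1 y := by rw [h.f_mul, mul_one]
    rw [h2]
    exact hmul _ _ (hroot _ (h.f_mem _ _) (root_sq' h hx)) (hroot _ (h.f_mem _ _) (root_sq' h hy))

theorem swap (h : TSp (S : Subgroup G) k f s) : TSp (S : Subgroup G) k (fun a b => f b a) s where
  hk := h.hk
  f_mul a b c d := h.f_mul _ _ _ _
  f_zz := h.f_zz
  f_inj a b c d e := by
    rcases h.f_inj _ _ _ _ e with ⟨h1, h2⟩ | ⟨h1, h2⟩
    · exact Or.inl ⟨h2, h1⟩
    · exact Or.inr ⟨h2, h1⟩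
  s_s := h.s_s
  s_f a b := h.s_f _ _
  s_ne a b := h.s_ne _ _
  mem_iff g := by
    rw [h.mem_iff]
    constructor
    · rintro (⟨a, b, rfl⟩ | ⟨a, b, rfl⟩)
      · exact Or.inl ⟨b, a, rfl⟩
      · exact Or.inr ⟨b, a, rfl⟩
    · rintro (⟨a, b, rfl⟩ | ⟨a, b, rfl⟩)
      · exact Or.inl ⟨b, a, rfl⟩
      · exact Or.inr ⟨b, a, rfl⟩

/-- elements of odd order normalizing `S` normalize the first factor -/
theorem norm_one (h : TSp (S : Subgroup G) k f s) {g : G}
    (hg : g ∈ Subgroup.normalizer ((S : Subgroup G) : Set G)) (ho : Odd (orderOf g)) (α : Q k) :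
    ∃ β, g * f α 1 * g⁻¹ = f β 1 := by
  set K : Subgroup G := Subgroup.normalizer ((S : Subgroup G) : Set G) with hK
  have hSK : (S : Subgroup G) ≤ K := Subgroup.le_normalizer
  have hRK : ∀ a b, f a b ∈ K := fun a b => hSK (h.f_mem a b)
  have h1 : TQQ ((base h).subgroupOf K) k (fun a b => (⟨f a b, hRK a b⟩ : K)) := (ofTSp h).restrict hRK
  have hZ : ∀ g : K, g * (⟨f (z k) 1, hRK _ _⟩ : K) = (⟨f (z k) 1, hRK _ _⟩ : K) * g := by
    intro g
    apply Subtype.ext
    have := norm_comm_t h g.2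
    exact mul_inv_eq_iff_eq_mul.1 this
  have hN : (⟨g, hg⟩ : K) ∈ Subgroup.normalizer (((base h).subgroupOf K : Subgroup K) : Set K) := by
    have hle : ∀ g' ∈ K, ∀ x : K, x ∈ (base h).subgroupOf K → (g' : G) * (x : G) * (g' : G)⁻¹ ∈ base h := by
      intro g' hg' x hx
      obtain ⟨a, b, hab⟩ := (mem_base h).1 (show (x : G) ∈ base h from hx)
      obtain ⟨γ, δ, h2⟩ := norm_base h hg' a b
      rw [hab]
      exact (mem_base h).2 ⟨γ, δ, h2⟩
    rw [Subgroup.mem_normalizer_iff]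
    intro x
    constructor
    · intro hx
      exact hle g hg x hx
    · intro hx
      have := hle g⁻¹ (K.inv_mem hg) _ hx
      show (x : G) ∈ base h
      have e : (g⁻¹ : G) * ((⟨g, hg⟩ * x * (⟨g, hg⟩ : K)⁻¹ : K) : G) * (g⁻¹ : G)⁻¹ = (x : G) := by
        show g⁻¹ * (g * (x : G) * g⁻¹) * (g⁻¹)⁻¹ = (x : G)
        group
      rwa [e] at this
  have ho' : Odd (orderOf (⟨g, hg⟩ : K)) := by rwa [Subgroup.orderOf_mk]
  have hx1 : (⟨f α 1, hRK _ _⟩ : K) ∈ h1.Q1 := h1.mem_Q1.2 ⟨α, rfl⟩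
  have hx : (⟨f α 1, hRK _ _⟩ : K) ∈ (base h).subgroupOf K := (mem_base h).2 ⟨α, 1, rfl⟩
  have h2 := h1.key_two hZ le_rfl hN ho' hx hx1
  obtain ⟨β, hβ⟩ := h1.mem_Q1.1 h2
  exact ⟨β, congrArg Subtype.val hβ⟩

/-- an element of odd order centralizing the base group and normalizing `S` centralizes `S` -/
theorem cent_of_base (h : TSp (S : Subgroup G) k f s) {g : G}
    (hg : g ∈ Subgroup.normalizer ((S : Subgroup G) : Set G)) (ho : Odd (orderOf g))
    (hb : ∀ α β, g * f α β = f α β * g) (x : G) (hx : x ∈ (S : Subgroup G)) : g * x = x * g := by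
  -- `g s g⁻¹ = r s`
  have h1 : g * s * g⁻¹ ∈ (S : Subgroup G) := (Subgroup.mem_normalizer_iff.1 hg _).1 h.s_mem
  have hs : g * s = s * g := by
    rcases (h.mem_iff _).1 h1 with ⟨a, b, hab⟩ | ⟨a, b, hab⟩
    · exfalso
      have h2 : s = f a b := by
        calc s = g⁻¹ * (g * s * g⁻¹) * g := by group
          _ = g⁻¹ * (f a b * g) := by rw [hab, mul_assoc]
          _ = f a b := by rw [← hb]; group
      exact h.s_ne a b h2
    · have hpow : ∀ m : ℕ, g ^ m * s * (g ^ m)⁻¹ = (f a b) ^ m * s := by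
        intro m
        induction m with
        | zero => simp
        | succ m ih =>
          have hc : g * (f a b) ^ m = (f a b) ^ m * g := by
            have : Commute g (f a b) := hb a b
            exact this.pow_right m
          calc g ^ (m + 1) * s * (g ^ (m + 1))⁻¹ = g * (g ^ m * s * (g ^ m)⁻¹) * g⁻¹ := by
                rw [pow_succ']; group
            _ = (g * (f a b) ^ m) * s * g⁻¹ := by rw [ih]; group
            _ = (f a b) ^ m * (g * s * g⁻¹) := by rw [hc]; group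
            _ = (f a b) ^ (m + 1) * s := by rw [hab, pow_succ]; group
      have h2 := hpow (orderOf g)
      rw [pow_orderOf_eq_one, one_mul, inv_one, mul_one] at h2
      have h3 : (f a b) ^ orderOf g = 1 := by
        have : 1 * s = (f a b) ^ orderOf g * s := by rw [one_mul]; exact h2
        exact (mul_right_cancel this).symm
      have h4 : f a b = 1 := by
        obtain ⟨j, hj⟩ := IsPGroup.iff_orderOf.1 S.isPGroup' ⟨f a b, h.f_mem a b⟩
        rw [Subgroup.orderOf_mk] at hj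
        have h5 := orderOf_dvd_of_pow_eq_one h3
        rw [hj] at h5
        have h6 : Nat.Coprime (2 ^ j) (orderOf g) := Nat.Coprime.pow_left j (Nat.coprime_two_left.2 ho)
        have h7 : 2 ^ j = 1 := Nat.eq_one_of_dvd_coprimes h6 dvd_rfl h5
        rw [h7, orderOf_eq_one_iff] at hj
        exact hj
      rw [h4, one_mul] at hab
      exact mul_inv_eq_iff_eq_mul.1 hab
  rcases (h.mem_iff x).1 hx with ⟨a, b, rfl⟩ | ⟨a, b, rfl⟩
  · exact hb a b
  · rw [← mul_assoc, hb, mul_assoc, hs, mul_assoc]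

/-- `k ≥ 2`: elements of odd order normalizing `S` centralize `S` -/
theorem odd_cent (hk : 2 ≤ k) (h : TSp (S : Subgroup G) k f s) {g : G}
    (hg : g ∈ Subgroup.normalizer ((S : Subgroup G) : Set G)) (ho : Odd (orderOf g))
    (x : G) (hx : x ∈ (S : Subgroup G)) : g * x = x * g := by
  refine cent_of_base h hg ho ?_ x hx
  have hgt : g * f (z k) 1 = f (z k) 1 * g := mul_inv_eq_iff_eq_mul.1 (norm_comm_t h hg)
  have h1 : ∀ α : Q k, g * f α 1 * g⁻¹ = f α 1 := by
    intro α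
    have := Cfsg.Agent.SylowSp4.LargeC.odd_fix (swap h) hk (g := g)
      (by
        show g * f 1 (z k) = f 1 (z k) * g
        rw [h.f_one_z]
        exact hgt) ho
      (fun α => norm_one h hg ho α) α
    exact this
  have h2 : ∀ α : Q k, g * f 1 α * g⁻¹ = f 1 α := fun α =>
    Cfsg.Agent.SylowSp4.LargeC.odd_fix h hk hgt ho (fun α => norm_one (swap h) hg ho α) α
  intro α β
  have h3 : f α β = f α 1 * f 1 β := by rw [h.f_mul, mul_one, one_mul]
  rw [h3, ← mul_assoc, mul_inv_eq_iff_eq_mul.1 (h1 α), mul_assoc, mul_inv_eq_iff_eq_mul.1 (h2 β), mul_assoc]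

end Closed

end Cfsg.Agent.H798.PSpFus
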