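import Cfsg.Agent.H798.PSpOne
import Cfsg.Agent.SylowSp4.Recog
import Cfsg.Agent.ClassicalGeometry.SLTwoFour
import Cfsg.Agent.S0261
import Cfsg.Agent.S0270

/-!
# The fusion of involutions in `PSp_4(q)`, `q` odd (helper798)
-/

set_option autoImplicit false

namespace Cfsg.Agent.H798.PSpMat

open Matrix Cfsg.Agent.SylowSp4.Coord Cfsg.Agent.SylowSp4.Base Cfsg.Agent.SylowSp4.Facts
open Cfsg.Agent.SylowSp4.Recog (blk diag_add diag_mul blk_mul blk_one blk_mem blk_inj blk_smul emb emb_mul emb_one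
  emb_inv swM swM_mem swM_sq swM_blk sw sw_sq sw_emb emb_mem_center emb_neg_mem_center sw_not_center_mul card_PSp)
open Cfsg.Agent.H798.PSpFus

section Emb

variable {F : Type*} [Field F]

/-- `[[1, 1], [1, -1]] ⊗ B` -/
def hblk (B : Matrix (Fin 2) (Fin 2) F) : Matrix (Fin 2 ⊕ Fin 2) (Fin 2 ⊕ Fin 2) F :=
  fromBlocks !![B 0 0, B 0 0; B 0 0, -B 0 0] !![B 0 1, B 0 1; B 0 1, -B 0 1] !![B 1 0, B 1 0; B 1 0, -B 1 0]
    !![B 1 1, B 1 1; B 1 1, -B 1 1]

theorem hblk_blk (B X : Matrix (Fin 2) (Fin 2) F) : hblk B * blk X X = hblk (B * X) := by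
  rw [hblk, blk, fromBlocks_multiply, hblk]
  ext i j
  rcases i with i | i <;> rcases j with j | j <;> fin_cases i <;> fin_cases j <;>
    simp [Matrix.mul_apply, Fin.sum_univ_two, Matrix.vecMul_diagonal] <;> ring

theorem blk_hblk (B X : Matrix (Fin 2) (Fin 2) F) : blk X X * hblk B = hblk (X * B) := by
  rw [hblk, blk, fromBlocks_multiply, hblk]
  ext i j
  rcases i with i | i <;> rcases j with j | j <;> fin_cases i <;> fin_cases j <;>
    simp [Matrix.mul_apply, Fin.sum_univ_two, Matrix.vecMul_diagonal] <;> ring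

theorem hblk_hblk (B C : Matrix (Fin 2) (Fin 2) F) : hblk B * hblk C = blk ((2 : F) • (B * C)) ((2 : F) • (B * C)) := by
  rw [hblk, hblk, fromBlocks_multiply, blk]
  ext i j
  rcases i with i | i <;> rcases j with j | j <;> fin_cases i <;> fin_cases j <;>
    simp [Matrix.mul_apply, Fin.sum_univ_two, Matrix.vecMul_diagonal] <;> ring

theorem hblk_t (B : Matrix (Fin 2) (Fin 2) F) : hblk B * blk (-1) 1 = blk (-1) (-1) * (swM * hblk B) := by
  rw [hblk, blk, blk, swM, fromBlocks_multiply, fromBlocks_multiply, fromBlocks_multiply]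
  ext i j
  rcases i with i | i <;> rcases j with j | j <;> fin_cases i <;> fin_cases j <;>
    simp [Matrix.mul_apply, Fin.sum_univ_two, Matrix.vecMul_diagonal]

theorem hblk_s (B : Matrix (Fin 2) (Fin 2) F) : hblk B * swM = blk 1 (-1) * hblk B := by
  rw [hblk, blk, swM, fromBlocks_multiply, fromBlocks_multiply]
  ext i j
  rcases i with i | i <;> rcases j with j | j <;> fin_cases i <;> fin_cases j <;>
    simp [Matrix.mul_apply, Fin.sum_univ_two, Matrix.vecMul_diagonal]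

theorem hblk_mem {B : Matrix (Fin 2) (Fin 2) F} (hB : 2 * B.det = 1) :
    hblk B ∈ symplecticGroup (Fin 2) F := by
  rw [det_fin_two] at hB
  rw [hblk, SymplecticGroup.fromBlocks_mem_iff]
  refine ⟨?_, ?_, ?_⟩
  · ext i j
    fin_cases i <;> fin_cases j <;> simp [Matrix.mul_apply, Fin.sum_univ_two, Matrix.vecMul_diagonal] <;> ring
  · ext i j
    fin_cases i <;> fin_cases j <;> simp [Matrix.mul_apply, Fin.sum_univ_two, Matrix.vecMul_diagonal] <;> ring
  · ext i j
    fin_cases i <;> fin_cases j <;> simp [Matrix.mul_apply, Fin.sum_univ_two, Matrix.vecMul_diagonal] <;> linear_combination hB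

end Emb

section PSp

variable {F : Type*} [Field F] [Fintype F]

/-- A Sylow 2-subgroup of `PSp_4(q)` with coordinates. -/
theorem exists_sylow (hF : Odd (Fintype.card F)) (P2 : Sylow 2 (SpecialLinearGroup (Fin 2) F)) {k : ℕ} (hk : 1 ≤ k)
    (e : (P2 : Subgroup (SpecialLinearGroup (Fin 2) F)) ≃* Q k) :
    ∃ S : Sylow 2 (Cfsg.PSp 2 F),
      TSp (S : Subgroup (Cfsg.PSp 2 F)) k (fun a b => (QuotientGroup.mk (emb ((e.symm a : P2) : SpecialLinearGroup (Fin 2) F)
      ((e.symm b : P2) : SpecialLinearGroup (Fin 2) F)) : Cfsg.PSp 2 F)) (QuotientGroup.mk sw : Cfsg.PSp 2 F) := by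
  classical
  have h2 : (2 : F) ≠ 0 := (ClassicalGeometry.PSL2Basic.two_ne_zero_iff_odd F).2 hF
  -- the central involution
  have hz : ((e.symm (z k) : P2) : SpecialLinearGroup (Fin 2) F).1 = -1 := by
    have h3 : (e.symm (z k)) * (e.symm (z k)) = 1 := by rw [← map_mul, z_mul_z, map_one]
    have h4 : ((e.symm (z k) : P2) : SpecialLinearGroup (Fin 2) F).1 *
        ((e.symm (z k) : P2) : SpecialLinearGroup (Fin 2) F).1 = 1 :=
      congrArg (fun x : (P2 : Subgroup (SpecialLinearGroup (Fin 2) F)) => (x : SpecialLinearGroup (Fin 2) F).1) h3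
    rcases S0268.eq_one_or_neg_one h2 _ ((e.symm (z k) : P2) : SpecialLinearGroup (Fin 2) F).2 h4 with h5 | h5
    · exfalso
      apply z_ne_one (k := k)
      have h6 : e.symm (z k) = 1 := Subtype.ext (Subtype.ext h5)
      rw [← map_one e.symm] at h6
      exact e.symm.injective h6
    · exact h5
  have hneg : ∀ a b : Q k, (((e.symm a : P2) : SpecialLinearGroup (Fin 2) F)⁻¹ *
      ((e.symm b : P2) : SpecialLinearGroup (Fin 2) F)).1 = -1 → a = z k * b := by
    intro a b hab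
    have h3 : ((e.symm a : P2) : SpecialLinearGroup (Fin 2) F)⁻¹ * ((e.symm b : P2) : SpecialLinearGroup (Fin 2) F) =
        ((e.symm (z k) : P2) : SpecialLinearGroup (Fin 2) F) := Subtype.ext (by rw [hab, hz])
    have h4 : (e.symm a)⁻¹ * e.symm b = e.symm (z k) := Subtype.ext h3
    rw [← map_inv, ← map_mul] at h4
    have h5 := e.symm.injective h4
    have h6 : b = a * z k := by rw [← h5, mul_inv_cancel_left]
    rw [h6, ← z_comm, zz_mul]
  have hone : ∀ a b : Q k, ((e.symm a : P2) : SpecialLinearGroup (Fin 2) F)⁻¹ *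
      ((e.symm b : P2) : SpecialLinearGroup (Fin 2) F) = 1 → a = b := by
    intro a b hab
    have h4 : (e.symm a)⁻¹ * e.symm b = 1 := Subtype.ext hab
    exact e.symm.injective (inv_mul_eq_one.1 h4)
  obtain ⟨S, hS⟩ := exists_TSp (G := Cfsg.PSp 2 F) hk
    (f := fun a b => (QuotientGroup.mk (emb ((e.symm a : P2) : SpecialLinearGroup (Fin 2) F)
      ((e.symm b : P2) : SpecialLinearGroup (Fin 2) F)) : Cfsg.PSp 2 F))
    (s := (QuotientGroup.mk sw : Cfsg.PSp 2 F))
    (by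
      intro a b c d
      change (QuotientGroup.mk (_ * _) : Cfsg.PSp 2 F) = _
      rw [emb_mul, map_mul, map_mul]
      rfl)
    ((QuotientGroup.eq_one_iff _).2 (emb_neg_mem_center hz hz))
    (by
      intro a b c d hh
      rw [QuotientGroup.eq, emb_inv, emb_mul] at hh
      rcases emb_mem_center hh with ⟨h3, h4⟩ | ⟨h3, h4⟩
      · exact Or.inl ⟨hone _ _ h3, hone _ _ h4⟩
      · exact Or.inr ⟨hneg _ _ h3, hneg _ _ h4⟩)
    (by
      change (QuotientGroup.mk (sw * sw) : Cfsg.PSp 2 F) = _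
      rw [sw_sq]
      rfl)
    (by
      intro a b
      change (QuotientGroup.mk (sw * _) : Cfsg.PSp 2 F) = QuotientGroup.mk (_ * sw)
      rw [sw_emb])
    (by
      intro a b hh
      rw [QuotientGroup.eq] at hh
      exact sw_not_center_mul hh)
  have hcard := card_eq hS
  have hP2card : Nat.card (P2 : Subgroup (SpecialLinearGroup (Fin 2) F)) = 2 ^ (k + 2) := by
    rw [Nat.card_congr e.toEquiv, card_Q]
  have hidx : ¬ 2 ∣ S.index := by
    have h3 := S.card_mul_index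
    have h4 := card_PSp hF
    have h5 := (P2 : Subgroup (SpecialLinearGroup (Fin 2) F)).card_mul_index
    have h6 := P2.not_dvd_index
    rw [hP2card, ClassicalGeometry.PSL2Basic.card_SL2] at h5
    rw [← h3, hcard] at h4
    set q := Fintype.card F with hq
    set m := (P2 : Subgroup (SpecialLinearGroup (Fin 2) F)).index with hm
    obtain ⟨r, hr⟩ := hF
    obtain ⟨l, hl⟩ : Odd m := Nat.not_even_iff_odd.1 (fun h => h6 h.two_dvd)
    have hq1 : 1 ≤ q := by omega
    have h7 : q ^ 4 - 1 = (q ^ 2 - 1) * (q ^ 2 + 1) := by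
      have : 1 ≤ q ^ 2 := Nat.one_le_pow _ _ hq1
      zify [this, Nat.one_le_pow 4 q hq1]
      ring
    have h8 : q ^ 2 + 1 = 2 * (2 * (r * r + r) + 1) := by rw [hr]; ring
    have h9 : 2 ^ (2 * k + 4) * 2 * S.index = 2 ^ (2 * k + 4) * 2 * (q ^ 2 * m ^ 2 * (2 * (r * r + r) + 1)) := by
      have e1 : q ^ 4 * ((q ^ 2 - 1) * (q ^ 4 - 1)) = q ^ 2 * (q * (q ^ 2 - 1)) ^ 2 * (q ^ 2 + 1) := by
        rw [h7]; ring
      rw [e1, ← h5, h8] at h4
      have e2 : (2 : ℕ) ^ (2 * k + 4) = (2 ^ (k + 2)) ^ 2 := by rw [← pow_mul]; congr 1; ring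
      rw [e2] at h4 ⊢
      linear_combination h4
    have h10 := Nat.eq_of_mul_eq_mul_left (by positivity) h9
    have h11 : Odd S.index := by
      rw [h10, hl, hr]
      apply Odd.mul
      · apply Odd.mul
        · exact Odd.pow ⟨r, rfl⟩
        · exact Odd.pow ⟨l, rfl⟩
      · exact ⟨r * r + r, rfl⟩
    intro h12
    exact Nat.not_even_iff_odd.2 h11 (even_iff_two_dvd.2 h12)
  have hp : IsPGroup 2 S := IsPGroup.of_card hcard
  exact ⟨hp.toSylow hidx, hS⟩


/-- equal classes have equal squares up to nothing: `X = ± Y` -/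
theorem sq_eq_of_mk {X Y : symplecticGroup (Fin 2) F}
    (h : (QuotientGroup.mk X : Cfsg.PSp 2 F) = QuotientGroup.mk Y) : X * X = Y * Y := by
  rw [QuotientGroup.eq] at h
  set c := X⁻¹ * Y with hc
  have hY : Y = X * c := by rw [hc]; group
  have hcc : c * c = 1 := by
    obtain ⟨a, ha⟩ := (LieClassical.SympCenter.mem_center_iff 2 _).1 h
    have h1 := c.2
    rw [SymplecticGroup.mem_iff, ha] at h1
    have h2 := congrFun (congrFun h1 (Sum.inr 0)) (Sum.inl 0)
    simp [J] at h2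
    apply Subtype.ext
    show c.1 * c.1 = 1
    rw [ha, smul_mul_smul_comm, h2, one_smul, one_mul]
  have hcomm := (Subgroup.mem_center_iff.1 h) X
  calc X * X = X * X * (c * c) := by rw [hcc, mul_one]
    _ = X * (X * c) * c := by group
    _ = X * (c * X) * c := by rw [hcomm]
    _ = Y * Y := by rw [hY]; group

/-- the element `n` -/
theorem exists_n (h2 : (2 : F) ≠ 0) {k : ℕ} (hk : 1 ≤ k) (j : Q k →* SpecialLinearGroup (Fin 2) F)
    (hz : j (z k) = -1) :
    ∃ n : symplecticGroup (Fin 2) F, n * n = emb (j (c k)) (j (c k)) ∧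
      n * emb (j (z k)) (j 1) = emb (j (z k)) (j (z k)) * (sw * n) ∧
      n * sw = emb (j 1) (j (z k)) * n ∧
      ∀ α β : Q k, (1 + (j (c k)).1) * (j α).1 = (j β).1 * (1 + (j (c k)).1) →
        n * emb (j α) (j α) = emb (j β) (j β) * n := by
  have hcc : j (c k) * j (c k) = -1 := by rw [← map_mul, c_sq hk, hz]
  have hcc' : (j (c k)).1 * (j (c k)).1 = -1 := congrArg Subtype.val hcc
  have htr := ClassicalGeometry.SLTwoFour.trace_of_mul_self (j (c k)) hcc
  have hdet : (j (c k)).1.det = 1 := (j (c k)).2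
  have hz' : (j (z k)).1 = -1 := by rw [hz]; rfl
  have h1' : (j 1).1 = 1 := by rw [map_one]; rfl
  set C : Matrix (Fin 2) (Fin 2) F := (j (c k)).1 with hC
  set B : Matrix (Fin 2) (Fin 2) F := (2 : F)⁻¹ • (1 + C) with hB
  have hBdet : 2 * B.det = 1 := by
    rw [hB, det_smul, Fintype.card_fin, det_fin_two]
    rw [det_fin_two] at hdet
    simp only [Matrix.add_apply, Matrix.one_apply_eq, Matrix.one_apply_ne (show (0 : Fin 2) ≠ 1 by decide),
      Matrix.one_apply_ne (show (1 : Fin 2) ≠ 0 by decide)]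
    have htr' : C 0 0 + C 1 1 = 0 := htr
    field_simp
    linear_combination htr' + hdet
  refine ⟨⟨hblk B, hblk_mem hBdet⟩, ?_, ?_, ?_, ?_⟩
  · apply Subtype.ext
    show hblk B * hblk B = blk (j (c k)).1 (j (c k)).1
    rw [hblk_hblk]
    have : (2 : F) • (B * B) = C := by
      rw [hB, smul_mul_smul_comm, add_mul, mul_add, mul_add, hcc', one_mul, mul_one, one_mul, smul_smul]
      have e1 : (1 : Matrix (Fin 2) (Fin 2) F) + C + (C + -1) = (2 : F) • C := by
        rw [two_smul]; abel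
      rw [e1, smul_smul]
      have e2 : (2 : F) * ((2 : F)⁻¹ * (2 : F)⁻¹) * 2 = 1 := by field_simp
      rw [e2, one_smul]
    rw [this]
  · apply Subtype.ext
    show hblk B * blk (j (z k)).1 (j 1).1 = blk (j (z k)).1 (j (z k)).1 * (swM * hblk B)
    rw [hz', h1', hblk_t]
  · apply Subtype.ext
    show hblk B * swM = blk (j 1).1 (j (z k)).1 * hblk B
    rw [hz', h1', hblk_s]
  · intro α β hαβ
    apply Subtype.ext
    show hblk B * blk (j α).1 (j α).1 = blk (j β).1 (j β).1 * hblk B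
    rw [hblk_blk, blk_hblk, hB, smul_mul_assoc, hαβ, mul_smul_comm]

theorem fus (hF : Odd (Fintype.card F)) (P2 : Sylow 2 (SpecialLinearGroup (Fin 2) F)) {k : ℕ} (hk : 1 ≤ k)
    (e : (P2 : Subgroup (SpecialLinearGroup (Fin 2) F)) ≃* Q k) :
    ∃ S : Sylow 2 (Cfsg.PSp 2 F), Fus (S : Subgroup (Cfsg.PSp 2 F)) k
      (fun a b => (QuotientGroup.mk (emb ((e.symm a : P2) : SpecialLinearGroup (Fin 2) F)
      ((e.symm b : P2) : SpecialLinearGroup (Fin 2) F)) : Cfsg.PSp 2 F)) (QuotientGroup.mk sw : Cfsg.PSp 2 F) := by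
  classical
  obtain ⟨S, hS⟩ := exists_sylow hF P2 hk e
  refine ⟨S, ?_⟩
  have h2 : (2 : F) ≠ 0 := (ClassicalGeometry.PSL2Basic.two_ne_zero_iff_odd F).2 hF
  -- the embedding of `Q k` in `SL_2`
  obtain ⟨j, hj⟩ : ∃ j : Q k →* SpecialLinearGroup (Fin 2) F, ∀ a, j a = ((e.symm a : P2) : SpecialLinearGroup (Fin 2) F) :=
    ⟨(P2 : Subgroup (SpecialLinearGroup (Fin 2) F)).subtype.comp e.symm.toMonoidHom, fun a => rfl⟩
  have hjinj : Function.Injective j := by
    intro a b hab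
    rw [hj, hj] at hab
    exact e.symm.injective (Subtype.ext hab)
  have hz : j (z k) = -1 := by
    have h4 : (j (z k)).1 * (j (z k)).1 = 1 := by
      have : j (z k) * j (z k) = 1 := by rw [← map_mul, z_mul_z, map_one]
      exact congrArg Subtype.val this
    rcases S0268.eq_one_or_neg_one h2 _ (j (z k)).2 h4 with h5 | h5
    · exfalso
      apply z_ne_one (k := k)
      apply hjinj
      rw [map_one]
      exact Subtype.ext h5
    · exact Subtype.ext (by rw [h5]; rfl)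
  simp only [← hj] at hS ⊢
  have hroot : ∀ {α : Q k}, α * α = z k → j α * j α = -1 := by
    intro α hα
    rw [← map_mul, hα, hz]
  have hneg : ∀ x : SpecialLinearGroup (Fin 2) F, x * -1 = -1 * x := by
    intro x
    rw [mul_neg, neg_mul, one_mul, mul_one]
  have hm1 : emb (-1 : SpecialLinearGroup (Fin 2) F) (-1) ≠ 1 := by
    intro h
    have h3 : blk ((-1 : SpecialLinearGroup (Fin 2) F) : Matrix (Fin 2) (Fin 2) F)
      ((-1 : SpecialLinearGroup (Fin 2) F) : Matrix (Fin 2) (Fin 2) F) = 1 := congrArg Subtype.val h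
    rw [← blk_one] at h3
    obtain ⟨h4, -⟩ := blk_inj h3
    have h5 := congrFun (congrFun h4 0) 0
    simp at h5
    apply h2
    linear_combination -h5
  refine ⟨hS, ?_, ?_, ?_, ?_, ?_⟩
  · -- conjugacy of roots
    intro α β γ δ hα hβ hγ hδ
    have hcj : ∀ {a b : Q k}, a * a = z k → b * b = z k → ∃ g, g * j a * g⁻¹ = j b := by
      intro a b ha hb
      obtain ⟨g, hg⟩ := ClassicalGeometry.SLTwoFour.exists_conj_w hF (j a) (hroot ha)
      obtain ⟨g', hg'⟩ := ClassicalGeometry.SLTwoFour.exists_conj_w hF (j b) (hroot hb)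
      refine ⟨g' * g⁻¹, ?_⟩
      rw [← hg, ← hg']
      group
    obtain ⟨g1, hg1⟩ := hcj hα hγ
    obtain ⟨g2, hg2⟩ := hcj hβ hδ
    refine ⟨QuotientGroup.mk (emb g1 g2), ?_⟩
    show (QuotientGroup.mk (emb g1 g2 * emb (j α) (j β) * (emb g1 g2)⁻¹) : Cfsg.PSp 2 F) = _
    rw [emb_inv, emb_mul, emb_mul, hg1, hg2]
  · intro g α β hα hβ h
    obtain ⟨g, rfl⟩ := QuotientGroup.mk_surjective g
    have h3 : (QuotientGroup.mk (g * emb (j (z k)) (j 1) * g⁻¹) : Cfsg.PSp 2 F) =
      QuotientGroup.mk (emb (j α) (j β)) := h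
    have h4 := sq_eq_of_mk h3
    rw [emb_mul, hroot hα, hroot hβ] at h4
    apply hm1
    rw [← h4]
    calc g * emb (j (z k)) (j 1) * g⁻¹ * (g * emb (j (z k)) (j 1) * g⁻¹) =
        g * (emb (j (z k)) (j 1) * emb (j (z k)) (j 1)) * g⁻¹ := by group
      _ = 1 := by
        rw [emb_mul, ← map_mul, ← map_mul, z_mul_z, one_mul, map_one, emb_one]
        group
  · intro g α h
    obtain ⟨g, rfl⟩ := QuotientGroup.mk_surjective g
    have h3 : (QuotientGroup.mk (g * emb (j (z k)) (j 1) * g⁻¹) : Cfsg.PSp 2 F) =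
      QuotientGroup.mk (emb (j (z k * α)) (j α⁻¹) * sw) := h
    have h4 := sq_eq_of_mk h3
    have h5 : emb (j (z k * α)) (j α⁻¹) * sw * (emb (j (z k * α)) (j α⁻¹) * sw) =
        emb (-1 : SpecialLinearGroup (Fin 2) F) (-1) := by
      calc emb (j (z k * α)) (j α⁻¹) * sw * (emb (j (z k * α)) (j α⁻¹) * sw) =
          emb (j (z k * α)) (j α⁻¹) * (sw * emb (j (z k * α)) (j α⁻¹)) * sw := by group
        _ = emb (j (z k * α)) (j α⁻¹) * emb (j α⁻¹) (j (z k * α)) * (sw * sw) := by rw [sw_emb]; group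
        _ = _ := by
          rw [sw_sq, mul_one, emb_mul, ← map_mul, ← map_mul, mul_inv_cancel_right, z_comm, inv_mul_cancel_left, hz]
    rw [h5] at h4
    apply hm1
    rw [← h4]
    calc g * emb (j (z k)) (j 1) * g⁻¹ * (g * emb (j (z k)) (j 1) * g⁻¹) =
        g * (emb (j (z k)) (j 1) * emb (j (z k)) (j 1)) * g⁻¹ := by group
      _ = 1 := by
        rw [emb_mul, ← map_mul, ← map_mul, z_mul_z, one_mul, map_one, emb_one]
        group
  · obtain ⟨n, -, h1, -⟩ := exists_n h2 hk j hz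
    refine ⟨QuotientGroup.mk n, ?_⟩
    rw [mul_inv_eq_iff_eq_mul]
    show (QuotientGroup.mk (n * emb (j (z k)) (j 1)) : Cfsg.PSp 2 F) = QuotientGroup.mk (sw * n)
    rw [h1]
    show (QuotientGroup.mk (emb (j (z k)) (j (z k))) : Cfsg.PSp 2 F) * QuotientGroup.mk (sw * n) = _
    rw [hS.f_zz, one_mul]
  · rintro rfl
    obtain ⟨n, h0, h1, h1', h3⟩ := exists_n h2 hk j hz
    have hc : c 1 * c 1 = z 1 := c_sq le_rfl
    have hjm : ∀ a b : Q 1, (j a).1 * (j b).1 = (j (a * b)).1 := fun a b => (congrArg Subtype.val (map_mul j a b)).symm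
    have hcxc : c 1 * QuaternionGroup.xa 0 * c 1 = (QuaternionGroup.xa 0 : Q 1) := by decide +kernel
    have hccx : c 1 * (c 1 * QuaternionGroup.xa 0) = z 1 * (QuaternionGroup.xa 0 : Q 1) := by decide +kernel
    have hzxc : z 1 * (QuaternionGroup.xa 0 : Q 1) * c 1 = c 1 * QuaternionGroup.xa 0 := by decide +kernel
    refine ⟨QuotientGroup.mk n, ?_, ?_, ?_, ?_, ?_, ?_⟩
    · have h4 : (QuotientGroup.mk n : Cfsg.PSp 2 F) * QuotientGroup.mk n = QuotientGroup.mk (emb (j (c 1)) (j (c 1))) := by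
        rw [← h0]; rfl
      have h5 : (QuotientGroup.mk (emb (j (c 1)) (j (c 1))) : Cfsg.PSp 2 F) * QuotientGroup.mk (emb (j (c 1)) (j (c 1))) = 1 := by
        rw [← hS.f_zz]
        show (QuotientGroup.mk (emb (j (c 1)) (j (c 1)) * emb (j (c 1)) (j (c 1))) : Cfsg.PSp 2 F) = _
        rw [emb_mul, ← map_mul, hc]
      calc (QuotientGroup.mk n : Cfsg.PSp 2 F) ^ 4 = (QuotientGroup.mk n * QuotientGroup.mk n) *
            (QuotientGroup.mk n * QuotientGroup.mk n) := by
              simp only [pow_succ, pow_zero, one_mul, mul_assoc]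
        _ = 1 := by rw [h4, h5]
    · rw [mul_inv_eq_iff_eq_mul]
      show (QuotientGroup.mk (n * emb (j (z 1)) (j 1)) : Cfsg.PSp 2 F) = QuotientGroup.mk (sw * n)
      rw [h1]
      show (QuotientGroup.mk (emb (j (z 1)) (j (z 1))) : Cfsg.PSp 2 F) * QuotientGroup.mk (sw * n) = _
      rw [hS.f_zz, one_mul]
    · rw [mul_inv_eq_iff_eq_mul]
      show (QuotientGroup.mk (n * sw) : Cfsg.PSp 2 F) = QuotientGroup.mk (emb (j (z 1)) (j 1)) * QuotientGroup.mk n
      rw [h1', ← hS.f_one_z]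
      rfl
    · rw [mul_inv_eq_iff_eq_mul]
      show (QuotientGroup.mk (n * emb (j (c 1)) (j (c 1))) : Cfsg.PSp 2 F) =
        QuotientGroup.mk (emb (j (c 1)) (j (c 1)) * n)
      rw [h3 (c 1) (c 1) (by rw [add_mul, mul_add, one_mul, mul_one])]
    · rw [mul_inv_eq_iff_eq_mul]
      show (QuotientGroup.mk (n * emb (j (QuaternionGroup.xa 0)) (j (QuaternionGroup.xa 0))) : Cfsg.PSp 2 F) =
        QuotientGroup.mk (emb (j (c 1 * QuaternionGroup.xa 0)) (j (c 1 * QuaternionGroup.xa 0)) * n)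
      rw [h3 (QuaternionGroup.xa 0) (c 1 * QuaternionGroup.xa 0) (by
        rw [add_mul, mul_add, one_mul, mul_one, hjm, hjm, hcxc, add_comm])]
    · rw [mul_inv_eq_iff_eq_mul]
      have e1 : (QuotientGroup.mk (emb (j (QuaternionGroup.xa 0)) (j (QuaternionGroup.xa 0))) : Cfsg.PSp 2 F) =
          QuotientGroup.mk (emb (j (z 1 * QuaternionGroup.xa 0)) (j (z 1 * QuaternionGroup.xa 0))) :=
        (hS.f_z_mul _ _).symm
      rw [e1]
      show (QuotientGroup.mk (n * emb (j (c 1 * QuaternionGroup.xa 0)) (j (c 1 * QuaternionGroup.xa 0))) : Cfsg.PSp 2 F) =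
        QuotientGroup.mk (emb (j (z 1 * QuaternionGroup.xa 0)) (j (z 1 * QuaternionGroup.xa 0)) * n)
      rw [h3 (c 1 * QuaternionGroup.xa 0) (z 1 * QuaternionGroup.xa 0) (by
        rw [add_mul, mul_add, one_mul, mul_one, hjm, hjm, hccx, hzxc, add_comm])]

end PSp

/-! ### All Sylow subgroups -/

/-- Transport of the coordinates and the fusion along an isomorphism. -/
theorem _root_.Cfsg.Agent.H798.PSpFus.Fus.map {G G' : Type*} [Group G] [Group G'] {S : Subgroup G} {k : ℕ}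
    {f : Q k → Q k → G} {s : G} (H : Fus S k f s) (e : G ≃* G') :
    Fus (S.map e.toMonoidHom) k (fun a b => e (f a b)) (e s) := by
  have hc : ∀ g x : G, e g * e x * (e g)⁻¹ = e (g * x * g⁻¹) := fun g x => by rw [map_mul, map_mul, map_inv]
  refine ⟨⟨H.h.hk, ?_, ?_, ?_, ?_, ?_, ?_, ?_⟩, ?_, ?_, ?_, ?_, ?_⟩
  · intro a b c d
    rw [← map_mul, H.h.f_mul]
  · rw [H.h.f_zz, map_one]
  · intro a b c d h
    exact H.h.f_inj _ _ _ _ (e.injective h)
  · rw [← map_mul, H.h.s_s, map_one]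
  · intro a b
    rw [← map_mul, H.h.s_f, map_mul]
  · intro a b h
    exact H.h.s_ne a b (e.injective h)
  · intro g
    constructor
    · rintro ⟨x, hx, rfl⟩
      rcases (H.h.mem_iff x).1 hx with ⟨a, b, rfl⟩ | ⟨a, b, rfl⟩
      · exact Or.inl ⟨a, b, rfl⟩
      · exact Or.inr ⟨a, b, map_mul e _ _⟩
    · rintro (⟨a, b, rfl⟩ | ⟨a, b, rfl⟩)
      · exact ⟨_, H.h.f_mem a b, rfl⟩
      · exact ⟨_, H.h.fs_mem a b, map_mul e _ _⟩
  · intro α β γ δ h1 h2 h3 h4
    obtain ⟨g, hg⟩ := H.uu α β γ δ h1 h2 h3 h4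
    exact ⟨e g, by rw [hc, hg]⟩
  · intro g α β h1 h2 h
    obtain ⟨g, rfl⟩ := e.surjective g
    rw [hc] at h
    exact H.nu g α β h1 h2 (e.injective h)
  · intro g α h
    obtain ⟨g, rfl⟩ := e.surjective g
    rw [hc, ← map_mul] at h
    exact H.nus g α (e.injective h)
  · obtain ⟨g, hg⟩ := H.ts
    exact ⟨e g, by rw [hc, hg]⟩
  · intro hk
    obtain ⟨n, h0, h1, h2, h3, h4, h5⟩ := H.nn hk
    refine ⟨e n, by rw [← map_pow, h0, map_one], ?_, ?_, ?_, ?_, ?_⟩
    · rw [hc, h1]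
    · rw [hc, h2]
    · rw [hc, h3]
    · rw [hc, h4]
    · rw [hc, h5]

/-- **Every Sylow 2-subgroup of `PSp_4(q)`, `q` odd, has coordinates with the fusion `Fus`.** -/
theorem exists_fus {F : Type*} [Field F] [Fintype F] (hF : Odd (Fintype.card F)) (S : Sylow 2 (Cfsg.PSp 2 F)) :
    ∃ (k : ℕ) (f : Q k → Q k → Cfsg.PSp 2 F) (s : Cfsg.PSp 2 F), Fus (S : Subgroup (Cfsg.PSp 2 F)) k f s := by
  classical
  have P2 : Sylow 2 (SpecialLinearGroup (Fin 2) F) := default
  obtain ⟨k, hk, ⟨e⟩⟩ := S0261.result hF P2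
  obtain ⟨S', H⟩ := fus hF P2 hk e
  obtain ⟨g, hg⟩ := MulAction.exists_smul_eq (Cfsg.PSp 2 F) S' S
  have h1 := H.map (MulAut.conj g)
  have h2 : (S' : Subgroup (Cfsg.PSp 2 F)).map (MulAut.conj g).toMonoidHom = (S : Subgroup (Cfsg.PSp 2 F)) := by
    rw [← hg]
    rfl
  rw [h2] at h1
  exact ⟨k, _, _, h1⟩

end Cfsg.Agent.H798.PSpMat
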