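import Cfsg.Agent.H798.PSpFus

/-!
# The 2-fusion systems of groups with the fusion of `PSp_4(q)`, `q` odd, are simple: `k = 1` (helper798)
-/

set_option autoImplicit false

namespace Cfsg.Agent.H798.PSpFus

open Cfsg Cfsg.FusionSystem Subgroup QuaternionGroup Equiv
open Cfsg.Agent.SylowSp4.Coord Cfsg.Agent.SylowSp4.Facts Cfsg.Agent.SylowSp4.Base Cfsg.Agent.SylowSp4.Closed

/-- representatives of `Q₈ / ⟨z⟩` -/
def qv : Fin 4 → Q 1 := ![1, c 1, xa 0, c 1 * xa 0]

theorem qv_cases : ∀ α : Q 1, ∃ i : Fin 4, α = qv i ∨ α = z 1 * qv i := by decide +kernel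

theorem qv_ne : ∀ i j : Fin 4, (qv i = qv j ∨ qv i = z 1 * qv j) → i = j := by decide +kernel

theorem qv_c : c 1 * qv 0 = qv 1 ∧ c 1 * qv 1 = z 1 * qv 0 ∧ c 1 * qv 2 = qv 3 ∧ c 1 * qv 3 = z 1 * qv 2 := by
  decide +kernel

theorem qv_x : (xa 0 : Q 1) * qv 0 = qv 2 ∧ (xa 0 : Q 1) * qv 1 = z 1 * qv 3 ∧ (xa 0 : Q 1) * qv 2 = z 1 * qv 0 ∧
    (xa 0 : Q 1) * qv 3 = qv 1 := by
  decide +kernel

theorem sq_cases : ∀ α : Q 1, α = 1 ∨ α = z 1 ∨ α * α = z 1 := by decide +kernel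

/-- the three generators of `A₅` -/
def gen : Fin 3 → Perm (Fin 5) := ![Equiv.swap 0 1 * Equiv.swap 3 4, Equiv.swap 1 2 * Equiv.swap 3 4, Equiv.swap 1 3 * Equiv.swap 2 4]

def words : List (List (Fin 3)) := [[], [0, 1, 2, 0, 2, 0], [0, 2, 0, 1, 2, 0], [0, 1, 0, 2, 0, 2, 0],
  [0, 1, 2, 0, 2, 0, 1], [0, 2, 0, 1, 2, 0, 1], [0, 2, 0, 1, 2, 0, 2], [1, 0, 2, 0, 1, 2, 0], [2, 0, 1, 2, 0, 2, 0]]

theorem words_spec : ∀ σ : Perm (Fin 5), σ 0 = 0 → σ * σ * σ = 1 → ∃ l ∈ words, (l.map gen).prod = σ := by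
  decide +kernel

theorem perm_cases : ∀ σ : Perm (Fin 5), σ 0 = 0 → σ * σ * σ = 1 ∨ σ * σ * σ * σ = 1 := by
  decide +kernel

section

variable {G : Type*} [Group G] (f : Q 1 → Q 1 → G) (s : G)

/-- the five conjugates of `t` in `S` -/
def tv : Fin 5 → G := Fin.cons (f (z 1) 1) (fun i => f (qv i) (qv i)⁻¹ * s)

/-- `g` acts on the conjugates of `t` as `σ` -/
def Acts (g : G) (σ : Perm (Fin 5)) : Prop := ∀ i, g * tv f s i * g⁻¹ = tv f s (σ i)

variable {f s}

theorem Acts.mul {g h : G} {σ τ : Perm (Fin 5)} (h1 : Acts f s g σ) (h2 : Acts f s h τ) : Acts f s (g * h) (σ * τ) := by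
  intro i
  rw [Perm.mul_apply, ← h1, ← h2]
  group

theorem Acts.one : Acts f s 1 1 := by
  intro i
  rw [Perm.one_apply]
  group

theorem Acts.pow {g : G} {σ : Perm (Fin 5)} (h1 : Acts f s g σ) (n : ℕ) : Acts f s (g ^ n) (σ ^ n) := by
  induction n with
  | zero => rw [pow_zero, pow_zero]; exact Acts.one
  | succ n ih => rw [pow_succ, pow_succ]; exact ih.mul h1

end

section

variable {G : Type*} [Group G] {S : Subgroup G} {f : Q 1 → Q 1 → G} {s : G}

theorem tv_injective (h : TSp S 1 f s) : Function.Injective (tv f s) := by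
  intro i j hij
  refine Fin.cases ?_ (fun i hij => ?_) i hij
  · intro hij
    revert hij
    refine Fin.cases ?_ (fun j => ?_) j
    · intro _; rfl
    · intro hij
      exact absurd hij.symm (h.fs_ne _ _ _ _)
  · revert hij
    refine Fin.cases ?_ (fun j => ?_) j
    · intro hij
      exact absurd hij (h.fs_ne _ _ _ _)
    · intro hij
      have h1 : f (qv i) (qv i)⁻¹ * s = f (qv j) (qv j)⁻¹ * s := hij
      have h2 := mul_right_cancel h1
      rw [h.f_eq_iff] at h2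
      rw [qv_ne i j (by
        rcases h2 with ⟨h2, -⟩ | ⟨h2, -⟩
        · exact Or.inl h2
        · exact Or.inr h2)]

theorem fs_mem_range (h : TSp S 1 f s) (α : Q 1) : ∃ i, f α α⁻¹ * s = tv f s i := by
  obtain ⟨i, rfl | rfl⟩ := qv_cases α
  · exact ⟨i.succ, rfl⟩
  · exact ⟨i.succ, by rw [f_zz_mul h]; rfl⟩

theorem tv_mem (h : TSp S 1 f s) (i : Fin 5) : tv f s i ∈ S := by
  refine Fin.cases ?_ (fun i => ?_) i
  · exact h.f_mem _ _
  · exact h.fs_mem _ _

theorem acts_of_left (h : TSp S 1 f s) {a : Q 1} {σ : Perm (Fin 5)} (h0 : σ 0 = 0)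
    (hσ : ∀ i : Fin 4, ∃ j : Fin 4, σ i.succ = j.succ ∧ (a * qv i = qv j ∨ a * qv i = z 1 * qv j)) :
    Acts f s (f a 1) σ := by
  intro i
  refine Fin.cases ?_ (fun i => ?_) i
  · rw [h0]
    show f a 1 * f (z 1) 1 * (f a 1)⁻¹ = f (z 1) 1
    rw [h.f_mul, h.f_inv, h.f_mul, ← z_comm]
    simp
  · obtain ⟨j, hj, h1⟩ := hσ i
    rw [hj]
    show f a 1 * (f (qv i) (qv i)⁻¹ * s) * (f a 1)⁻¹ = f (qv j) (qv j)⁻¹ * s
    rw [conj_s_f h, inv_one, mul_one]
    rcases h1 with h1 | h1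
    · rw [h1]
    · rw [h1, f_zz_mul h]

theorem acts_c (h : TSp S 1 f s) : Acts f s (f (c 1) 1) (gen 1) := by
  obtain ⟨h0, h1, h2, h3⟩ := qv_c
  refine acts_of_left h (by decide) ?_
  intro i
  fin_cases i
  · exact ⟨1, by decide, Or.inl h0⟩
  · exact ⟨0, by decide, Or.inr h1⟩
  · exact ⟨3, by decide, Or.inl h2⟩
  · exact ⟨2, by decide, Or.inr h3⟩

theorem acts_x (h : TSp S 1 f s) : Acts f s (f (xa 0) 1) (gen 2) := by
  obtain ⟨h0, h1, h2, h3⟩ := qv_x
  refine acts_of_left h (by decide) ?_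
  intro i
  fin_cases i
  · exact ⟨2, by decide, Or.inl h0⟩
  · exact ⟨3, by decide, Or.inr h1⟩
  · exact ⟨0, by decide, Or.inr h2⟩
  · exact ⟨1, by decide, Or.inl h3⟩

end

section Main

variable {G : Type*} [Group G] {S : Subgroup G} {f : Q 1 → Q 1 → G} {s : G}

/-- the conjugates of `t` in `S` are the `tv i` -/
theorem exists_tv (H : Fus S 1 f s) {x : G} (hx : x ∈ S) {g : G} (hg : g * f (z 1) 1 * g⁻¹ = x) :
    ∃ i, x = tv f s i := by
  have hsq : x * x = 1 := by
    rw [← hg]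
    calc g * f (z 1) 1 * g⁻¹ * (g * f (z 1) 1 * g⁻¹) = g * (f (z 1) 1 * f (z 1) 1) * g⁻¹ := by group
      _ = 1 := by rw [H.h.t_sq]; group
  rcases inv_cases H.h hx hsq with h1 | h1 | ⟨α, β, hα, hβ, h1⟩ | ⟨α, h1⟩ | ⟨α, h1⟩
  · exfalso
    apply H.h.t_ne_one
    calc f (z 1) 1 = g⁻¹ * (g * f (z 1) 1 * g⁻¹) * g := by group
      _ = 1 := by rw [hg, h1]; group
  · exact ⟨0, h1⟩
  · exact absurd (hg.trans h1) (H.nu g α β hα hβ)
  · rw [h1]; exact fs_mem_range H.h α
  · exact absurd (hg.trans h1) (H.nus g α)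

theorem tv_conj (H : Fus S 1 f s) (i : Fin 5) : ∃ g : G, g * f (z 1) 1 * g⁻¹ = tv f s i := by
  refine Fin.cases ?_ (fun i => ?_) i
  · exact ⟨1, by rw [one_mul, inv_one, mul_one]; rfl⟩
  · obtain ⟨g, hg⟩ := H.ts
    refine ⟨f (qv i) 1 * g, ?_⟩
    calc f (qv i) 1 * g * f (z 1) 1 * (f (qv i) 1 * g)⁻¹ = f (qv i) 1 * (g * f (z 1) 1 * g⁻¹) * (f (qv i) 1)⁻¹ := by
          group
      _ = _ := by rw [hg, conj_s H.h]; rfl

theorem exists_acts (H : Fus S 1 f s) {g : G} (hg : ∀ i, g * tv f s i * g⁻¹ ∈ S) : ∃ σ, Acts f s g σ := by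
  have h1 : ∀ i, ∃ j, g * tv f s i * g⁻¹ = tv f s j := by
    intro i
    obtain ⟨w, hw⟩ := tv_conj H i
    refine exists_tv H (hg i) (g := g * w) ?_
    rw [← hw]
    group
  choose σ hσ using h1
  have hinj : Function.Injective σ := by
    intro i j hij
    apply tv_injective H.h
    have h2 : g * tv f s i * g⁻¹ = g * tv f s j * g⁻¹ := by rw [hσ, hσ, hij]
    exact mul_left_cancel (mul_right_cancel h2)
  refine ⟨Equiv.ofBijective σ (Finite.injective_iff_bijective.1 hinj), fun i => ?_⟩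
  rw [Equiv.ofBijective_apply]
  exact hσ i

/-- the group generated by the conjugates of `t` in `S` -/
def A (f : Q 1 → Q 1 → G) (s : G) : Subgroup G := Subgroup.closure (Set.range (tv f s))

theorem tv_mem_A (i : Fin 5) : tv f s i ∈ A f s := Subgroup.subset_closure ⟨i, rfl⟩

theorem A_le (h : TSp S 1 f s) : A f s ≤ S := by
  rw [A, Subgroup.closure_le]
  rintro _ ⟨i, rfl⟩
  exact tv_mem h i

theorem Acts.conj_mem {g : G} {σ : Perm (Fin 5)} (h : Acts f s g σ) {x : G} (hx : x ∈ A f s) : g * x * g⁻¹ ∈ A f s := by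
  refine Subgroup.closure_induction (p := fun x _ => g * x * g⁻¹ ∈ A f s) ?_ ?_ ?_ ?_ hx
  · rintro _ ⟨i, rfl⟩
    rw [h i]
    exact tv_mem_A _
  · rw [mul_one, mul_inv_cancel]; exact (A f s).one_mem
  · intro a b _ _ h1 h2
    have := (A f s).mul_mem h1 h2
    rwa [show g * a * g⁻¹ * (g * b * g⁻¹) = g * (a * b) * g⁻¹ by group] at this
  · intro a _ h1
    have := (A f s).inv_mem h1
    rwa [show (g * a * g⁻¹)⁻¹ = g * a⁻¹ * g⁻¹ by group] at this

theorem Acts.inv {g : G} {σ : Perm (Fin 5)} (h : Acts f s g σ) : Acts f s g⁻¹ σ⁻¹ := by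
  intro i
  have h1 := h (σ⁻¹ i)
  have h2 : σ (σ⁻¹ i) = i := σ.apply_symm_apply i
  rw [h2] at h1
  rw [← h1]
  group

theorem Acts.mem_normalizer {g : G} {σ : Perm (Fin 5)} (h : Acts f s g σ) :
    g ∈ Subgroup.normalizer (A f s : Set G) := by
  rw [Subgroup.mem_normalizer_iff]
  intro x
  constructor
  · exact h.conj_mem
  · intro hx
    have := h.inv.conj_mem hx
    rwa [show g⁻¹ * (g * x * g⁻¹) * (g⁻¹)⁻¹ = x by group] at this

theorem Acts.eq_on {g h : G} {σ : Perm (Fin 5)} (hg : Acts f s g σ) (hh : Acts f s h σ) {x : G} (hx : x ∈ A f s) :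
    g * x * g⁻¹ = h * x * h⁻¹ := by
  refine Subgroup.closure_induction (p := fun x _ => g * x * g⁻¹ = h * x * h⁻¹) ?_ ?_ ?_ ?_ hx
  · rintro _ ⟨i, rfl⟩
    rw [hg i, hh i]
  · group
  · intro a b _ _ h1 h2
    calc g * (a * b) * g⁻¹ = (g * a * g⁻¹) * (g * b * g⁻¹) := by group
      _ = (h * a * h⁻¹) * (h * b * h⁻¹) := by rw [h1, h2]
      _ = _ := by group
  · intro a _ h1
    calc g * a⁻¹ * g⁻¹ = (g * a * g⁻¹)⁻¹ := by group
      _ = (h * a * h⁻¹)⁻¹ := by rw [h1]
      _ = _ := by group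

theorem s_mem_A (h : TSp S 1 f s) : s ∈ A f s := by
  have h1 : tv f s 1 = s := by
    show f (qv 0) (qv 0)⁻¹ * s = s
    have : qv 0 = 1 := rfl
    rw [this, inv_one, h.f_one, one_mul]
  have h2 := tv_mem_A (f := f) (s := s) 1
  rwa [h1] at h2

theorem t_mem_A : f (z 1) 1 ∈ A f s := tv_mem_A (f := f) (s := s) 0

theorem diag_mem_A (h : TSp S 1 f s) (β : Q 1) : f β β ∈ A f s := by
  rcases sq_cases β with rfl | rfl | hβ
  · rw [h.f_one]; exact (A f s).one_mem
  · rw [h.f_zz]; exact (A f s).one_mem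
  · obtain ⟨i, hi⟩ := fs_mem_range h β
    have h1 : f β β⁻¹ * s ∈ A f s := by rw [hi]; exact tv_mem_A i
    have h2 := (A f s).mul_mem ((A f s).mul_mem h1 (s_mem_A h)) t_mem_A
    rw [mul_assoc (f β β⁻¹), h.s_s, mul_one, inv_of_sq_z hβ, ← h.f_one_z, h.f_mul, mul_one,
      ← z_comm, zz_mul] at h2
    exact h2

theorem centralizer_le (h : TSp S 1 f s) {x : G} (hx : x ∈ S) (hxs : x * s = s * x) : x ∈ A f s := by
  have h1 : ∀ α β : Q 1, (α = β ∨ α = z 1 * β) → f α β ∈ A f s := by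
    rintro α β (rfl | rfl)
    · exact diag_mem_A h _
    · have := (A f s).mul_mem t_mem_A (diag_mem_A h β)
      rwa [h.f_mul, one_mul] at this
  obtain ⟨α, β, hαβ, rfl | rfl⟩ := Cfsg.Agent.SylowSp4.CentA.cent_s_cases h hx hxs
  · exact h1 α β hαβ
  · exact (A f s).mul_mem (h1 α β hαβ) (s_mem_A h)

end Main

section Final

variable {G : Type*} [Group G] [Finite G] {S : Sylow 2 G} {f : Q 1 → Q 1 → G} {s : G}

theorem eq_A_of_isConj (H : Fus (S : Subgroup G) 1 f s) {R : Subgroup G}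
    (hR : (groupFusionSystem (S : Subgroup G)).IsConj (A f s) R) : R = A f s := by
  obtain ⟨φ, ⟨h1, h2, g, hg⟩, rfl⟩ := hR
  obtain ⟨σ, hσ⟩ := exists_acts H (g := g) (fun i => by
    have := h2 ⟨tv f s i, tv_mem_A i⟩
    rwa [hg] at this)
  apply Subgroup.eq_of_le_of_card_ge
  · rintro _ ⟨x, rfl⟩
    rw [hg]
    exact hσ.conj_mem x.2
  · have hinj : Function.Injective φ := by
      intro x y hxy
      rw [hg, hg] at hxy
      exact Subtype.ext (mul_left_cancel (mul_right_cancel hxy))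
    have : Nat.card (A f s) = Nat.card φ.range := Nat.card_congr (MonoidHom.ofInjective hinj).toEquiv
    rw [this]

theorem isFullyNormalized_A (H : Fus (S : Subgroup G) 1 f s) :
    (groupFusionSystem (S : Subgroup G)).IsFullyNormalized (A f s) :=
  ⟨A_le H.h, fun R hR => by rw [eq_A_of_isConj H hR]⟩

theorem isCentric_A (H : Fus (S : Subgroup G) 1 f s) :
    (groupFusionSystem (S : Subgroup G)).IsCentric (A f s) :=
  ⟨A_le H.h, fun R hR => by
    rw [eq_A_of_isConj H hR]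
    rintro x ⟨hx, hxc⟩
    exact centralizer_le H.h hx ((Subgroup.mem_centralizer_iff.1 hxc s (s_mem_A H.h)).symm)⟩

/-- the group generated by the 2-elements of `N_G(A)` -/
def K (f : Q 1 → Q 1 → G) (s : G) : Subgroup G :=
  Subgroup.closure {g : G | g ∈ Subgroup.normalizer (A f s : Set G) ∧ ∃ k : ℕ, orderOf g = 2 ^ k}

theorem exists_pow_of_mem (S : Sylow 2 G) {g : G} (hg : g ∈ (S : Subgroup G)) : ∃ k : ℕ, orderOf g = 2 ^ k := by
  obtain ⟨j, hj⟩ := IsPGroup.iff_orderOf.1 S.isPGroup' ⟨g, hg⟩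
  rw [Subgroup.orderOf_mk] at hj
  exact ⟨j, hj⟩

theorem gen_mem (H : Fus (S : Subgroup G) 1 f s) (i : Fin 3) : ∃ h ∈ K f s, Acts f s h (gen i) := by
  fin_cases i
  · obtain ⟨n, hn4, h1, h2, h3, h4, h5⟩ := H.nn rfl
    have hn : Acts f s n (gen 0) := by
      have h := H.h
      have hs1 : tv f s 1 = s := by
        show f (qv 0) (qv 0)⁻¹ * s = s
        have : qv 0 = 1 := rfl
        rw [this, inv_one, h.f_one, one_mul]
      have htv : ∀ i : Fin 4, qv i * qv i = z 1 → tv f s i.succ = f (z 1) 1 * f (qv i) (qv i) * s := by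
        intro i hi
        show f (qv i) (qv i)⁻¹ * s = _
        rw [inv_of_sq_z hi, ← h.f_one_z, h.f_mul, one_mul]
      have hst : s * f (z 1) 1 = f (z 1) 1 * s := (h.t_comm h.s_mem).symm
      have hsd : ∀ α, s * f α α = f α α * s := fun α => h.s_f α α
      have htd : ∀ α β, f (z 1) 1 * f α β = f α β * f (z 1) 1 := fun α β => h.t_comm (h.f_mem α β)
      have key : ∀ (i j : Fin 4), qv i * qv i = z 1 → qv j * qv j = z 1 →
          n * f (qv i) (qv i) * n⁻¹ = f (qv j) (qv j) → n * tv f s i.succ * n⁻¹ = tv f s j.succ := by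
        intro i j hi hj hij
        rw [htv i hi, htv j hj]
        calc n * (f (z 1) 1 * f (qv i) (qv i) * s) * n⁻¹ =
            (n * f (z 1) 1 * n⁻¹) * (n * f (qv i) (qv i) * n⁻¹) * (n * s * n⁻¹) := by group
          _ = s * f (qv j) (qv j) * f (z 1) 1 := by rw [h1, h2, hij]
          _ = f (z 1) 1 * f (qv j) (qv j) * s := by
            rw [hsd, mul_assoc, hst, ← mul_assoc, ← htd]
      intro i
      fin_cases i
      · show n * tv f s 0 * n⁻¹ = tv f s (gen 0 0)
        have : gen 0 0 = 1 := by decide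
        rw [this, hs1]
        exact h1
      · show n * tv f s 1 * n⁻¹ = tv f s (gen 0 1)
        have : gen 0 1 = 0 := by decide
        rw [this, hs1]
        exact h2
      · show n * tv f s (Fin.succ 1) * n⁻¹ = tv f s (gen 0 2)
        have : gen 0 2 = Fin.succ 1 := by decide
        rw [this]
        exact key 1 1 (by decide +kernel) (by decide +kernel) h3
      · show n * tv f s (Fin.succ 2) * n⁻¹ = tv f s (gen 0 3)
        have : gen 0 3 = Fin.succ 3 := by decide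
        rw [this]
        exact key 2 3 (by decide +kernel) (by decide +kernel) h4
      · show n * tv f s (Fin.succ 3) * n⁻¹ = tv f s (gen 0 4)
        have : gen 0 4 = Fin.succ 2 := by decide
        rw [this]
        exact key 3 2 (by decide +kernel) (by decide +kernel) h5
    refine ⟨n, Subgroup.subset_closure ⟨hn.mem_normalizer, ?_⟩, hn⟩
    have : orderOf n ∣ 2 ^ 2 := orderOf_dvd_of_pow_eq_one (by rw [← hn4]; norm_num)
    obtain ⟨j, -, hj⟩ := (Nat.dvd_prime_pow Nat.prime_two).1 this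
    exact ⟨j, hj⟩
  · exact ⟨_, Subgroup.subset_closure ⟨(acts_c H.h).mem_normalizer, exists_pow_of_mem S (H.h.f_mem _ _)⟩, acts_c H.h⟩
  · exact ⟨_, Subgroup.subset_closure ⟨(acts_x H.h).mem_normalizer, exists_pow_of_mem S (H.h.f_mem _ _)⟩, acts_x H.h⟩

theorem word_mem (H : Fus (S : Subgroup G) 1 f s) (l : List (Fin 3)) :
    ∃ h ∈ K f s, Acts f s h (l.map gen).prod := by
  induction l with
  | nil => exact ⟨1, (K f s).one_mem, Acts.one⟩
  | cons i l ih =>
    obtain ⟨h, hh, h1⟩ := ih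
    obtain ⟨g, hg, h2⟩ := gen_mem H i
    refine ⟨g * h, (K f s).mul_mem hg hh, ?_⟩
    rw [List.map_cons, List.prod_cons]
    exact h2.mul h1

theorem odd_mem (H : Fus (S : Subgroup G) 1 f s) {g : G}
    (hg : g ∈ Subgroup.normalizer ((S : Subgroup G) : Set G)) (ho : ¬ 2 ∣ orderOf g) :
    ∃ σ, Acts f s g σ ∧ ∃ h ∈ K f s, Acts f s h σ := by
  obtain ⟨σ, hσ⟩ := exists_acts H (g := g) (fun i => (Subgroup.mem_normalizer_iff.1 hg _).1 (tv_mem H.h i))
  refine ⟨σ, hσ, ?_⟩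
  have h0 : σ 0 = 0 := by
    apply tv_injective H.h
    rw [← hσ 0]
    exact norm_comm_t H.h hg
  have hone : ∀ τ, Acts f s (1 : G) τ → τ = 1 := by
    intro τ hτ
    ext i
    have := hτ i
    rw [one_mul, inv_one, mul_one] at this
    rw [← tv_injective H.h this, Perm.one_apply]
  have hpow : σ ^ orderOf g = 1 := by
    apply hone
    have := hσ.pow (orderOf g)
    rwa [pow_orderOf_eq_one] at this
  have h3 : σ * σ * σ = 1 := by
    rcases perm_cases σ h0 with h3 | h3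
    · exact h3
    · have h4 : σ ^ 2 ^ 2 = 1 := by
        rw [← h3, show (2 ^ 2 : ℕ) = 4 by norm_num]; simp only [pow_succ, pow_zero, one_mul, mul_assoc]
      have h5 : orderOf σ ∣ Nat.gcd (2 ^ 2) (orderOf g) :=
        Nat.dvd_gcd (orderOf_dvd_of_pow_eq_one h4) (orderOf_dvd_of_pow_eq_one hpow)
      have h6 : Nat.gcd (2 ^ 2) (orderOf g) = 1 :=
        Nat.Coprime.pow_left 2 ((Nat.Prime.coprime_iff_not_dvd Nat.prime_two).2 ho)
      rw [h6, Nat.dvd_one, orderOf_eq_one_iff] at h5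
      rw [h5]; simp
  obtain ⟨l, -, hl⟩ := words_spec σ h0 h3
  obtain ⟨h, hh, h1⟩ := word_mem H l
  exact ⟨h, hh, hl ▸ h1⟩

/-- The case `k = 1`. -/
theorem isSimple_one (H : Fus (S : Subgroup G) 1 f s) : (groupFusionSystem (S : Subgroup G)).IsSimple 2 := by
  refine Cfsg.Agent.H991.isSimple_of_group S ?_ ?_ ?_
  · intro hb
    apply H.h.t_ne_one
    have := H.h.f_mem (z 1) 1
    rw [hb, Subgroup.mem_bot] at this
    exact this
  · intro T hT
    rw [Cfsg.Agent.H187.FusSelfNorm.stronglyClosed_iff] at hT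
    exact closed H T hT.1 hT.2
  · intro α hα
    obtain ⟨g, -, hg⟩ := (Cfsg.Agent.H802.mem_autInducedBy_iff _ _ _).1 hα
    refine Subgroup.subset_closure ⟨?_, ?_⟩
    · rw [Cfsg.Agent.H991.autGroup_group le_rfl]
      exact hα
    · refine Or.inr ⟨A f s, isCentric_A H, ?_, ?_⟩
      · exact Cfsg.Agent.H802.isFullyAutomized_of_isFullyNormalized S.isPGroup'
          (Cfsg.Agent.H802.groupFusionSystem_isSaturated S) (isFullyNormalized_A H)
      · have hgN : g ∈ Subgroup.normalizer ((S : Subgroup G) : Set G) := Cfsg.Agent.H802.mem_normalizer_of_aut hg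
        obtain ⟨g₁, hg₁, g₂, hg₂, ho, rfl⟩ := decomp S hgN
        obtain ⟨σ, hσ, h₂, hh₂, h3⟩ := odd_mem H hg₂ ho
        have hg₁N : g₁ ∈ Subgroup.normalizer ((S : Subgroup G) : Set G) := Subgroup.le_normalizer hg₁
        obtain ⟨τ, hτ⟩ := exists_acts H (g := g₁) (fun i => (Subgroup.mem_normalizer_iff.1 hg₁N _).1 (tv_mem H.h i))
        have hK : g₁ * h₂ ∈ K f s :=
          (K f s).mul_mem (Subgroup.subset_closure ⟨hτ.mem_normalizer, exists_pow_of_mem S hg₁⟩) hh₂
        obtain ⟨γ, hγ, h4⟩ := Cfsg.Agent.H991.conj_mem_closure (S := (S : Subgroup G)) (A_le H.h) hK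
        refine ⟨γ, hγ, fun x => ?_⟩
        rw [h4, hg]
        exact (hτ.mul hσ).eq_on (hτ.mul h3) x.2

end Final

/-- **The 2-fusion system of a group with the fusion of `PSp_4(q)` is simple.** -/
theorem isSimple {G : Type*} [Group G] [Finite G] {S : Sylow 2 G} {k : ℕ} {f : Q k → Q k → G} {s : G}
    (H : Fus (S : Subgroup G) k f s) : (groupFusionSystem (S : Subgroup G)).IsSimple 2 := by
  rcases Nat.lt_or_ge k 2 with hk | hk
  · have hk1 : k = 1 := by have := H.h.hk; omega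
    subst hk1
    exact isSimple_one H
  · refine Cfsg.Agent.H187.FusSelfNorm.isSimple S ?_ ?_ ?_
    · intro g hg
      have hgN : g ∈ Subgroup.normalizer ((S : Subgroup G) : Set G) := by
        have hle : (S : Subgroup G).map (MulAut.conj g).toMonoidHom ≤ (S : Subgroup G) := by
          rintro _ ⟨x, hx, rfl⟩
          exact hg x hx
        have heq : (S : Subgroup G).map (MulAut.conj g).toMonoidHom = (S : Subgroup G) := by
          apply Subgroup.eq_of_le_of_card_ge hle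
          rw [Subgroup.card_map_of_injective (MulAut.conj g).injective]
        rw [Subgroup.mem_normalizer_iff]
        intro x
        constructor
        · exact hg x
        · intro hx
          rw [← heq] at hx
          obtain ⟨y, hy, hxy⟩ := hx
          have : x = y := (MulAut.conj g).injective hxy.symm
          exact this ▸ hy
      obtain ⟨g₁, hg₁, g₂, hg₂, ho, rfl⟩ := decomp S hgN
      refine ⟨g₁, hg₁, fun x hx => ?_⟩
      have ho' : Odd (orderOf g₂) := by rw [Nat.odd_iff]; omega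
      have h1 := odd_cent hk H.h hg₂ ho' x hx
      calc g₁ * g₂ * x * (g₁ * g₂)⁻¹ = g₁ * (g₂ * x) * g₂⁻¹ * g₁⁻¹ := by group
        _ = g₁ * x * g₁⁻¹ := by rw [h1]; group
    · intro hb
      apply H.h.t_ne_one
      have := H.h.f_mem (z k) 1
      rw [hb, Subgroup.mem_bot] at this
      exact this
    · intro T hT
      rw [Cfsg.Agent.H187.FusSelfNorm.stronglyClosed_iff] at hT
      exact closed H T hT.1 hT.2

end Cfsg.Agent.H798.PSpFus
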