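import Cfsg.Agent.H568.RowTools
import Cfsg.Agent.H568.LinP
import Cfsg.Agent.H568.FieldFix
import Cfsg.Agent.H967.CopMat
import Cfsg.Agent.Lib.Zsigmondy
import Cfsg.Prelude.Def_KGroupFacts

/-!
# Generic part of the rows `Sz`, `Ree`, `²F₄` of S4329 (helper798)
-/

set_option autoImplicit false

namespace Cfsg.Agent.H798.RowTw

open Subgroup Cfsg.Agent.H568 Cfsg.Agent.H967.CopMat

/-- The generic row: `x` has prime order `l` and is fixed by no outer automorphism. -/
theorem row_generic {S : Type*} [Group S] [Finite S] [IsSimpleGroup S] (hna : ¬ IsMulCommutative S) {p : ℕ}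
    [hp : Fact p.Prime] {x : S} {l : ℕ} (hl : l.Prime) (hx : orderOf x = l)
    (hout : ∀ a : MulAut S, a x = x → ∃ s : S, a = MulAut.conj s)
    (hlp : ∀ a : MulAut S, orderOf a = p → (¬ ∃ s : S, a = MulAut.conj s) → l ≠ p)
    (hpc : l ≠ p → PCent p x)
    (hin : (∃ P : Sylow p S, IsCyclic ↥(P : Subgroup S)) ∨ ∃ y : S, NoNorm p y) : Row p S := by
  refine row_of hna fun a ha => ?_
  by_cases hi : ∃ s : S, a = MulAut.conj s
  · rcases hin with h | h
    · exact Or.inl ⟨hi, h⟩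
    · exact Or.inr (Or.inl ⟨hi, h⟩)
  · have h1 := hlp a ha hi
    refine Or.inr (Or.inr ⟨x, ?_, hpc h1, fun g hg => hi ?_⟩)
    · rw [hx]
      intro h
      exact h1 ((Nat.prime_dvd_prime_iff_eq hp.1 hl).1 h).symm
    · obtain ⟨s, hs⟩ := hout _ hg
      refine ⟨g⁻¹ s, ?_⟩
      have h2 : a = g⁻¹ * MulAut.conj s * g := by rw [← hs]; group
      rw [h2]
      ext y
      simp [MulAut.mul_apply, MulAut.conj_apply]

/-- An outer automorphism of order `p`: `p` divides the order of `Out`. -/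
theorem dvd_out {S : Type*} [Group S] [Finite S] {p : ℕ} [hp : Fact p.Prime] {a : MulAut S} (ha : orderOf a = p)
    (hi : ¬ ∃ s : S, a = MulAut.conj s) : p ∣ Nat.card (Cfsg.Out S) := by
  have h1 : (QuotientGroup.mk' (Cfsg.Inn S) a) ^ p = 1 := by
    rw [← map_pow, ← ha, pow_orderOf_eq_one, map_one]
  have h2 : QuotientGroup.mk' (Cfsg.Inn S) a ≠ 1 := by
    intro h
    apply hi
    have h3 : a ∈ Cfsg.Inn S := (QuotientGroup.eq_one_iff a).1 h
    obtain ⟨s, hs⟩ := h3
    exact ⟨s, hs.symm⟩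
  have h3 : orderOf (QuotientGroup.mk' (Cfsg.Inn S) a) = p := orderOf_eq_prime h1 h2
  rw [← h3]
  exact orderOf_dvd_natCard _

/-- A field automorphism of a field of order `r ^ f`, `f` odd, is trivial if a matrix `X` of order `l` with `ord_l(r) = N f`
is conjugate to its image and the degree is less than `3 N`. -/
theorem sigma_one {F : Type*} [Field F] [Finite F] {ι : Type*} [Fintype ι] [DecidableEq ι] {σ : F ≃+* F}
    {l r f N : ℕ} (hr : r.Prime) (hF : Nat.card F = r ^ f) (hf : Odd f) (hl : l.Prime) (hlr : l ≠ r)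
    (hE : ∀ m, l ∣ r ^ m - 1 ↔ N * f ∣ m) (hn : Fintype.card ι < 3 * N) {A : GL ι F} {X : Matrix ι ι F}
    (hAX : (A : Matrix ι ι F) * X.map σ = X * A) (hX : X ^ l = 1) (hX1 : X ≠ 1) : σ = 1 := by
  have h1 := Module.natCard_eq_pow_finrank (K := ↥(FieldFix.fx σ)) (V := F)
  rw [hF] at h1
  have hk0 : Module.finrank ↥(FieldFix.fx σ) F ≠ 0 := Module.finrank_pos.ne'
  generalize hk : Module.finrank ↥(FieldFix.fx σ) F = k at h1 hk0
  have h2 : Nat.card ↥(FieldFix.fx σ) ∣ r ^ f := by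
    rw [h1]
    exact dvd_pow_self _ hk0
  obtain ⟨f0, -, h3⟩ := (Nat.dvd_prime_pow hr).1 h2
  rw [h3, ← pow_mul] at h1
  have h4 : f = f0 * k := Nat.pow_right_injective hr.two_le h1
  have hlF : ¬ l ∣ Nat.card F := by
    rw [hF]
    intro h
    exact hlr ((Nat.prime_dvd_prime_iff_eq hl hr).1 (hl.dvd_of_dvd_pow h))
  have h5 := FieldFix.le_of_semi (E := N * f) hl hlF h3 (fun m hm h => Nat.le_of_dvd (Nat.pos_of_ne_zero hm) ((hE m).1 h))
    hAX hX hX1
  have hf0 : 0 < f0 := by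
    rcases Nat.eq_zero_or_pos f0 with h | h
    · subst h
      rw [zero_mul] at h4
      subst h4
      exact absurd hf (by decide)
    · exact h
  have hk1 : k = 1 := by
    by_contra hk1
    have hk3 : 3 ≤ k := by
      rcases Nat.lt_or_ge k 3 with h | h
      · have h6 : k = 2 := by omega
        subst h6
        exact absurd hf (Nat.not_odd_iff_even.2 (by rw [h4]; exact even_two.mul_left _))
      · exact h
    have h6 : N * f0 * 3 ≤ N * f := by
      rw [h4, mul_assoc]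
      exact Nat.mul_le_mul_left _ (Nat.mul_le_mul_left _ hk3)
    have h7 : N * f0 * 3 ≤ f0 * Fintype.card ι := h6.trans h5
    have h8 : f0 * Fintype.card ι < f0 * (3 * N) := Nat.mul_lt_mul_of_pos_left hn hf0
    have h9 : f0 * (3 * N) = N * f0 * 3 := by ring
    omega
  rw [hk1] at hk
  have htop : (⊤ : Submodule ↥(FieldFix.fx σ) F) = Submodule.span ↥(FieldFix.fx σ) {1} := by
    symm
    apply Submodule.eq_top_of_finrank_eq
    rw [hk, finrank_span_singleton one_ne_zero]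
  ext y
  have hy : y ∈ Submodule.span ↥(FieldFix.fx σ) ({1} : Set F) := htop ▸ Submodule.mem_top
  obtain ⟨c, hc⟩ := Submodule.mem_span_singleton.1 hy
  have hc' : y = (c : F) := by
    rw [← hc, Subfield.smul_def, smul_eq_mul, mul_one]
  rw [hc']
  exact c.2

/-- The main lemma on outer automorphisms. -/
theorem inner_of_fixes {F : Type*} [Field F] [Finite F] {κ : Type*} [Fintype κ] [DecidableEq κ]
    {G : Subgroup (GL κ F)} (hG : Stab G)
    (hA : ∀ ψ : MulAut ↥G, ∃ (g : ↥G) (σ : F ≃+* F), ψ = MulAut.conj g * fieldAut hG σ)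
    {ι : Type*} [Fintype ι] [DecidableEq ι] (ρ : ↥G →* Matrix ι ι F)
    (hρ : ∀ (σ : F ≃+* F) (g : ↥G), ρ (fieldAut hG σ g) = (ρ g).map σ)
    {l r f N : ℕ} (hr : r.Prime) (hF : Nat.card F = r ^ f) (hf : Odd f) (hl : l.Prime) (hlr : l ≠ r)
    (hE : ∀ m, l ∣ r ^ m - 1 ↔ N * f ∣ m) (hn : Fintype.card ι < 3 * N) {x : ↥G} (hx : orderOf x = l) (hx1 : ρ x ≠ 1)
    (a : MulAut ↥G) (ha : a x = x) : ∃ s : ↥G, a = MulAut.conj s := by
  obtain ⟨g, σ, rfl⟩ := hA a
  have h1 : g * fieldAut hG σ x = x * g := by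
    have h2 : g * fieldAut hG σ x * g⁻¹ = x := ha
    calc g * fieldAut hG σ x = g * fieldAut hG σ x * g⁻¹ * g := by group
      _ = x * g := by rw [h2]
  have h2 : ρ g * (ρ x).map σ = ρ x * ρ g := by
    rw [← hρ, ← map_mul, h1, map_mul]
  let A : GL ι F := ⟨ρ g, ρ g⁻¹, by rw [← map_mul, mul_inv_cancel, map_one], by rw [← map_mul, inv_mul_cancel, map_one]⟩
  have h3 : σ = 1 := sigma_one (A := A) hr hF hf hl hlr hE hn h2
    (by rw [← map_pow, ← hx, pow_orderOf_eq_one, map_one]) hx1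
  refine ⟨g, ?_⟩
  rw [h3, map_one, mul_one]

/-- `PCent` in small dimension. -/
theorem pcent_of {F : Type*} [Field F] [Finite F] {S : Type*} [Group S] [Finite S]
    {ι : Type*} [Fintype ι] [DecidableEq ι] (ρ : S →* Matrix ι ι F) (hρ : Function.Injective ρ)
    {l p : ℕ} (hp : p.Prime) (hp2 : p ≠ 2) (hpF : (p : F) ≠ 0) (hl : l.Prime) (hn : Fintype.card ι < l)
    {x : S} (hx : orderOf x = l) (hlp : l ≠ p) : PCent p x := by
  intro Q hQ hxn
  let ρ' : S →* GL ι F := ρ.toHomUnits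
  have h1 : ∀ y : S, ρ' y = 1 → y = 1 := by
    intro y hy
    apply hρ
    rw [map_one]
    exact congrArg Units.val hy
  exact linP ρ' hp hp2 hl hlp hpF Q hQ (fun y _ hy => h1 y hy) x hxn
    (fun y _ => by rw [← hx, pow_orderOf_eq_one, one_mul, mul_one]) hn

end Cfsg.Agent.H798.RowTw
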