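import Mathlib
import Cfsg.Agent.H194.MOwn.PslCore
import Cfsg.Agent.H14.CycLine
import Cfsg.Agent.H957.T5M

/-!
T5, defining characteristic (helper798): the rank one row. `p2_line` : two permutations `f₁`, `f₂` of order `p ≥ 5` of
the projective line over a finite field of characteristic `p`, permuting the root groups, are a middle pair for the
group generated by the root groups.
-/

set_option autoImplicit false
set_option linter.unusedSectionVars false
set_option maxHeartbeats 400000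

namespace Cfsg.Agent.H798.T5Line

open Cfsg.Agent.FixBN Cfsg.Agent.FixBN.RankOneL2 Cfsg.Agent.H14.CycLine Cfsg.Agent.H957.T5M
open Cfsg.Agent.H957.T5V (MP IsScal toA)
open Module

variable {F : Type*} [Field F]

/-- the determinant form -/
def om (v w : F × F) : F := v.1 * w.2 - v.2 * w.1

/-- `T` preserves the determinant form -/
def Om (T : (F × F) ≃+ (F × F)) : Prop := ∀ v w, om (T v) (T w) = om v w

/-- the lifts of the elements of `psl2 F` may be chosen of determinant one -/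
theorem lift_psl2 {g : Equiv.Perm (Option F)} (hg : g ∈ psl2 F) :
    ∃ T : (F × F) ≃+ (F × F), Om T ∧ Lift g (RingEquiv.refl F) T := by
  unfold psl2 at hg
  induction hg using Subgroup.closure_induction with
  | mem x hx =>
    rcases hx with ⟨a, rfl⟩ | rfl
    · refine ⟨_, fun v w => ?_, lift_tr a⟩
      show (v.1 + a * v.2) * w.2 - v.2 * (w.1 + a * w.2) = v.1 * w.2 - v.2 * w.1
      ring
    · refine ⟨_, fun v w => ?_, lift_ni⟩
      show (-v.2) * w.1 - v.1 * (-w.2) = v.1 * w.2 - v.2 * w.1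
      ring
  | one => exact ⟨_, fun _ _ => rfl, Lift.one⟩
  | mul x y _ _ hx hy =>
    obtain ⟨T, hT, hx⟩ := hx
    obtain ⟨S, hS, hy⟩ := hy
    refine ⟨_, fun v w => ?_, hx.mul hy⟩
    show om (T (S v)) (T (S w)) = _
    rw [hT, hS]
  | inv x _ hx =>
    obtain ⟨T, hT, hx⟩ := hx
    refine ⟨_, fun v w => ?_, hx.inv⟩
    rw [← hT, T.apply_symm_apply, T.apply_symm_apply]

theorem exists_lift (h2 : (2 : F) ≠ 0) {c : Equiv.Perm (Option F)} (hc : c ∈ famStab (lineFam F)) :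
    ∃ φ T, Lift c φ T := by
  have hne : c none ≠ c (some 0) := fun h => by
    have := c.injective h
    exact absurd this (by simp)
  obtain ⟨k, hk, h0, h1⟩ := exists_psl2 hne
  obtain ⟨φ, T, hT⟩ := exists_lift_fix h2 (c := k⁻¹ * c) (mul_mem (inv_mem (psl2_le_famStab hk)) hc)
    (by rw [Equiv.Perm.mul_apply, ← h0]; exact k.symm_apply_apply _)
    (by rw [Equiv.Perm.mul_apply, ← h1]; exact k.symm_apply_apply _)
  obtain ⟨S, -, hS⟩ := lift_psl2 hk
  have := hS.mul hT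
  rw [mul_inv_cancel_left] at this
  exact ⟨_, _, this⟩

theorem om_smul (a b : F) (v w : F × F) : om (a • v) (b • w) = a * b * om v w := by
  show a * v.1 * (b * w.2) - a * v.2 * (b * w.1) = a * b * (v.1 * w.2 - v.2 * w.1)
  ring

/-- every linear map of determinant one is the lift of an element of `psl2 F` -/
theorem exists_of_sl {T : (F × F) ≃ₗ[F] (F × F)} (hT : om (T (1, 0)) (T (0, 1)) = 1) :
    ∃ m ∈ psl2 F, Lift m (RingEquiv.refl F) T.toAddEquiv := by
  have h10 : T (1, 0) ≠ 0 := by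
    intro h; rw [h] at hT; simp [om] at hT
  have h01 : T (0, 1) ≠ 0 := by
    intro h; rw [h] at hT; simp [om] at hT
  have hne : pt (T (1, 0)) ≠ pt (T (0, 1)) := by
    intro h
    obtain ⟨a, ha⟩ := exists_of_pt_eq h10 h01 h
    rw [ha] at hT
    have : om (T (1, 0)) (a • T (1, 0)) = 0 := by
      show (T (1, 0)).1 * (a * (T (1, 0)).2) - (T (1, 0)).2 * (a * (T (1, 0)).1) = 0
      ring
    rw [this] at hT
    exact zero_ne_one hT
  obtain ⟨k, hk, h0, h1⟩ := exists_psl2 hne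
  obtain ⟨S, hSo, hS⟩ := lift_psl2 hk
  have e10 : pt ((1, 0) : F × F) = none := pt_zero 1
  have e01 : pt ((0, 1) : F × F) = some 0 := by rw [pt_ne 0 one_ne_zero, zero_div]
  obtain ⟨a, ha⟩ := exists_of_pt_eq h10 (map_ne_zero' S (v := ((1, 0) : F × F)) (by simp)) (by
    rw [← hS.act _ (by simp), e10, h0])
  obtain ⟨b, hb⟩ := exists_of_pt_eq h01 (map_ne_zero' S (v := ((0, 1) : F × F)) (by simp)) (by
    rw [← hS.act _ (by simp), e01, h1])
  have hab : a * b = 1 := by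
    have h3 := hSo (1, 0) (0, 1)
    rw [ha, hb, om_smul, hT, mul_one] at h3
    rw [h3]; simp [om]
  have ha0 : a ≠ 0 := left_ne_zero_of_mul_eq_one hab
  refine ⟨k * dil a⁻¹, mul_mem hk (dil_mem _), ?_, ?_⟩
  · intro c v
    exact T.map_smul c v
  · rintro ⟨x, y⟩ hv
    have hTv : T (x, y) = x • T (1, 0) + y • T (0, 1) := by
      rw [← T.map_smul, ← T.map_smul, ← T.map_add]
      simp
    have hSv : S (a⁻¹ * x, a * y) = T (x, y) := by
      have h3 : ((a⁻¹ * x, a * y) : F × F) = (a⁻¹ * x) • ((1, 0) : F × F) + (a * y) • ((0, 1) : F × F) := by simp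
      rw [h3, map_add, hS.semi, hS.semi, ha, hb, hTv]
      simp only [RingEquiv.refl_apply, smul_smul]
      congr 2
      · field_simp
      · rw [mul_right_comm, hab, one_mul]
    show (k * dil a⁻¹) (pt (x, y)) = pt (T (x, y))
    rw [← hSv, Equiv.Perm.mul_apply]
    have hne2 : ((a⁻¹ * x, a * y) : F × F) ≠ 0 := by
      intro h
      apply hv
      rw [Prod.mk_eq_zero] at h ⊢
      exact ⟨(mul_eq_zero.1 h.1).resolve_left (inv_ne_zero ha0), (mul_eq_zero.1 h.2).resolve_left ha0⟩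
    rw [← hS.act _ hne2]
    congr 1
    by_cases hy : y = 0
    · subst hy
      rw [pt_zero, mul_zero, pt_zero, dil_none' (inv_ne_zero ha0)]
    · rw [pt_ne _ hy, pt_ne _ (mul_ne_zero ha0 hy), dil_some' (inv_ne_zero ha0)]
      congr 1
      field_simp

theorem om_of_det {T : (F × F) ≃ₗ[F] (F × F)} (hT : LinearEquiv.det T = 1) : om (T (1, 0)) (T (0, 1)) = 1 := by
  have h1 : LinearMap.det (T : (F × F) →ₗ[F] (F × F)) = 1 := by
    rw [← LinearEquiv.coe_det, hT, Units.val_one]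
  rw [← LinearMap.det_toMatrix (Basis.finTwoProd F), Matrix.det_fin_two] at h1
  simp only [LinearMap.toMatrix_apply] at h1
  simp at h1
  show (T (1, 0)).1 * (T (0, 1)).2 - (T (1, 0)).2 * (T (0, 1)).1 = 1
  linear_combination h1

/-- powers of lifts -/
theorem Lift.pow {c : Equiv.Perm (Option F)} {φ : F ≃+* F} {T : (F × F) ≃+ (F × F)} (h : Lift c φ T) (n : ℕ) :
    ∃ ψ S, Lift (c ^ n) ψ S ∧ ∀ v, S v = (T.toEquiv ^ n : Equiv.Perm (F × F)) v := by
  induction n with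
  | zero => exact ⟨_, _, by rw [pow_zero]; exact Lift.one, fun v => rfl⟩
  | succ n ih =>
    obtain ⟨ψ, S, h1, h2⟩ := ih
    refine ⟨_, _, by rw [pow_succ]; exact h1.mul h, fun v => ?_⟩
    rw [pow_succ]
    exact h2 (T v)

theorem semi_of {c : Equiv.Perm (Option F)} {φ : F ≃+* F} {T : (F × F) ≃+ (F × F)} (h : Lift c φ T) :
    Cfsg.Agent.H957.T5V.Semi φ (T.toEquiv : Equiv.Perm (F × F)) := ⟨fun v w => T.map_add v w, h.semi⟩

theorem isScal_of {φ : F ≃+* F} {T : (F × F) ≃+ (F × F)} (h : Lift 1 φ T) :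
    IsScal F (T.toEquiv : Equiv.Perm (F × F)) := by
  obtain ⟨⟨a, -, ha⟩, -⟩ := h.scalar
  exact ⟨a, ha⟩

theorem eq_one_of_isScal {c : Equiv.Perm (Option F)} {φ : F ≃+* F} {T : (F × F) ≃+ (F × F)} (h : Lift c φ T)
    (hs : IsScal F (T.toEquiv : Equiv.Perm (F × F))) : c = 1 := by
  obtain ⟨a, ha⟩ := hs
  ext y
  obtain ⟨v, hv, rfl⟩ := pt_surj y
  have ha0 : a ≠ 0 := by
    rintro rfl
    apply map_ne_zero' T hv
    have := ha v
    rwa [zero_smul] at this
  have h1 : T v = a • v := ha v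
  rw [h.act v hv, h1, pt_smul ha0]
  rfl

/-- **The rank one row**, own characteristic. -/
theorem p2_line [Finite F] {p : ℕ} [Fact p.Prime] [CharP F p] (hp5 : 5 ≤ p) {f₁ f₂ : Equiv.Perm (Option F)}
    (h₁ : f₁ ∈ famStab (lineFam F)) (h₂ : f₂ ∈ famStab (lineFam F)) (o₁ : f₁ ^ p = 1) (o₂ : f₂ ^ p = 1)
    (n₁ : f₁ ≠ 1) (n₂ : f₂ ≠ 1) : MPair p (⨆ y, lineFam F y) f₁ f₂ := by
  have h2 : (2 : F) ≠ 0 := H194.MOwn.two_ne hp5
  obtain ⟨φ₁, T₁, hT₁⟩ := exists_lift h2 h₁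
  obtain ⟨φ₂, T₂, hT₂⟩ := exists_lift h2 h₂
  have key : ∀ {f : Equiv.Perm (Option F)} {φ : F ≃+* F} {T : (F × F) ≃+ (F × F)}, Lift f φ T → f ^ p = 1 →
      IsScal F ((T.toEquiv : Equiv.Perm (F × F)) ^ p) := by
    intro f φ T hT ho
    obtain ⟨ψ, S, h3, h4⟩ := Lift.pow hT p
    rw [ho] at h3
    obtain ⟨a, ha⟩ := isScal_of h3
    exact ⟨a, fun v => by rw [← h4]; exact ha v⟩
  have hfr : 2 ≤ finrank F (F × F) := by
    rw [finrank_prod, finrank_self]
  obtain ⟨g, hg, i, j, h5⟩ := H194.MOwn.mp_own (p := p) (V := F × F) hp5 hfr (semi_of hT₁) (key hT₁ o₁)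
    (fun h => n₁ (eq_one_of_isScal hT₁ h)) (semi_of hT₂) (key hT₂ o₂) (fun h => n₂ (eq_one_of_isScal hT₂ h))
  obtain ⟨m, hm, hmg⟩ := exists_of_sl (om_of_det hg)
  refine ⟨m, by rw [iSup_lineFam]; exact hm, i, j, fun k hk => h5 k ?_⟩
  obtain ⟨ψ₁, S₁, a1, b1⟩ := Lift.pow hT₁ i
  obtain ⟨ψ₂, S₂, a2, b2⟩ := Lift.pow ((hmg.mul hT₂).mul hmg.inv) j
  obtain ⟨ψ₃, S₃, a3, b3⟩ := Lift.pow (a1.mul a2) (p ^ k)
  rw [hk] at a3
  obtain ⟨a, ha⟩ := isScal_of a3
  refine ⟨a, fun v => ?_⟩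
  rw [← ha v]
  show _ = S₃ v
  rw [b3]
  have e1 : ((S₂.trans S₁).toEquiv : Equiv.Perm (F × F)) = (T₁.toEquiv : Equiv.Perm (F × F)) ^ i *
      (toA g * (T₂.toEquiv : Equiv.Perm (F × F)) * (toA g)⁻¹) ^ j := by
    apply Equiv.ext
    intro w
    have e2 : (toA g * (T₂.toEquiv : Equiv.Perm (F × F)) * (toA g)⁻¹) =
        ((g.toAddEquiv.symm.trans (T₂.trans g.toAddEquiv)).toEquiv : Equiv.Perm (F × F)) := by
      apply Equiv.ext
      intro z
      rfl
    rw [Equiv.Perm.mul_apply, e2]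
    have h6 := b2 w
    have h7 := b1 (S₂ w)
    show S₁ (S₂ w) = _
    rw [h7, h6]
  rw [e1]

end Cfsg.Agent.H798.T5Line
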