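import Cfsg.Agent.H460.EngFix
import Cfsg.Agent.H798.T5Line

/-!
T5, defining characteristic (helper798): panels.

* `P2 p fam` : two permutations of order `p` permuting the family are a middle pair; `P2.map`, `p2_pan`;
* `Act E x θ` : the action `θ` of the automorphism `x` on the chambers, type preserving; `TP E x i` : `x` acts
  non-trivially on a panel of type `i` of a fixed chamber; `TP.mpair` : a common type.
-/

set_option autoImplicit false
set_option linter.unusedSectionVars false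
set_option maxHeartbeats 400000

namespace Cfsg.Agent.H798.T5Pan

open Cfsg Subgroup Cfsg.Agent.LieExceptional.BNPairCore Cfsg.Agent.Tits.Core Cfsg.Agent.Tits.Core.Bldg
  Cfsg.Agent.Tits.OfBN Cfsg.Agent.Schreier.BNSch Cfsg.Agent.Tits.OppRes Cfsg.Agent.FixBN.OfBN
open Cfsg.Agent.FixBN (Sys Split famStab mem_famStab lineFam FieldNode)
open Cfsg.Agent.FixOdd (Tw)
open Cfsg.Agent.H460.Typed Cfsg.Agent.H460.Pan Cfsg.Agent.H460.EllC Cfsg.Agent.H460.PanL
  Cfsg.Agent.H185.TypedTw Cfsg.Agent.H460.EllPan Cfsg.Agent.H460.Engine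
open Cfsg.Agent.H957.T5M

section Row

variable {Om Om' : Type*}

/-- two permutations of order `p` permuting the family are a middle pair -/
def P2 (p : ℕ) (fam : Om → Subgroup (Equiv.Perm Om)) : Prop :=
  ∀ f₁ ∈ famStab fam, ∀ f₂ ∈ famStab fam, f₁ ^ p = 1 → f₂ ^ p = 1 → f₁ ≠ 1 → f₂ ≠ 1 → MPair p (⨆ y, fam y) f₁ f₂

theorem P2.map {p : ℕ} (e : Om ≃ Om') {U : Om → Subgroup (Equiv.Perm Om)}
    {U' : Om' → Subgroup (Equiv.Perm Om')} (hU : ∀ y g, g ∈ U y ↔ e.permCongr g ∈ U' (e y)) (h : P2 p U) :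
    P2 p U' := by
  set F : Equiv.Perm Om ≃* Equiv.Perm Om' := e.permCongrHom with hF
  have hfa : ∀ g, F g = e.permCongr g := fun g => rfl
  have hcy : ∀ (c : Equiv.Perm Om) y, (F c) (e y) = e (c y) := fun c y => by
    show e (c (e.symm (e y))) = e (c y)
    rw [e.symm_apply_apply]
  have hst : ∀ f, F f ∈ famStab U' → f ∈ famStab U := by
    intro f hf y g
    have := hf (e y) (F g)
    rwa [hcy, ← map_mul, ← map_inv, ← map_mul, hfa, hfa, ← hU, ← hU] at this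
  have hsup : (⨆ y, U y).map F.toMonoidHom ≤ ⨆ y, U' y := by
    rw [Subgroup.map_le_iff_le_comap]
    refine iSup_le fun y g hg => ?_
    rw [Subgroup.mem_comap]
    exact Subgroup.mem_iSup_of_mem (e y) ((hU y g).1 hg)
  intro f₁' h1 f₂' h2 o1 o2 n1 n2
  obtain ⟨f₁, rfl⟩ := F.surjective f₁'
  obtain ⟨f₂, rfl⟩ := F.surjective f₂'
  have hone : ∀ f : Equiv.Perm Om, F f = 1 ↔ f = 1 := fun f => by
    rw [← map_one F, F.injective.eq_iff]
  have := h f₁ (hst _ h1) f₂ (hst _ h2) (by rwa [← map_pow, hone] at o1) (by rwa [← map_pow, hone] at o2)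
    (fun h3 => n1 ((hone _).2 h3)) (fun h3 => n2 ((hone _).2 h3))
  exact (this.of_injective F.toMonoidHom F.injective).mono hsup

end Row

variable {K : Type*} [Group K] [Finite K] {ℓ : ℕ} [Fact ℓ.Prime] {l : ℕ} {M : CoxeterMatrix (Fin l)} {Q : Fin l → ℕ}

/-- the panels over fields, in the defining characteristic -/
theorem p2_pan (E : Eng ℓ K M Q) (h5 : 5 ≤ ℓ) {i : Fin l} (h : FNode E.P E.U (E.e i : K) (Q i)) (x : K ⧸ E.P.B) :
    P2 ℓ (E.sys.fam i x) := by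
  induction x using QuotientGroup.induction_on with
  | _ g =>
  obtain ⟨V, Nd, F, _, _, hQ, ⟨N⟩⟩ := h
  have hch : CharP F ℓ := by
    -- `F` embeds in a group of exponent a power of `ℓ`
    obtain ⟨r, hr⟩ := CharP.exists F
    have hrp : r.Prime := CharP.char_is_prime F r
    have h1 : ∀ (n : ℕ) (a : F), N.x (n • a) = (N.x a) ^ n := by
      intro n a
      induction n with
      | zero => rw [zero_smul, pow_zero]; exact N.x_zero
      | succ n ih => rw [succ_nsmul, N.add, ih, pow_succ]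
    obtain ⟨n, hn⟩ := E.S.isP ⟨N.x 1, N.mem 1⟩
    have h2 : (N.x 1) ^ ℓ ^ n = 1 := by simpa using congrArg Subtype.val hn
    rw [← h1] at h2
    have h3 : ((ℓ ^ n : ℕ) : F) = 0 := by
      rw [← nsmul_one]
      exact N.ne _ (by rw [h2]; exact one_mem _)
    rw [CharP.cast_eq_zero_iff F r] at h3
    have h4 := (Nat.prime_dvd_prime_iff_eq hrp Fact.out).1 (hrp.dvd_of_dvd_pow h3)
    rwa [← h4]
  exact P2.map _ (H14.CycNode.iso_mk E.S E.e E.cs E.hcs i Nd N g fun y f => Iff.rfl)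
    (fun f₁ h1 f₂ h2 => T5Line.p2_line h5 h1 h2)

variable {E : Eng ℓ K M Q}

/-- the action of an automorphism on the chambers, type preserving -/
structure Act (E : Eng ℓ K M Q) (x : MulAut K) (θ : Equiv.Perm (K ⧸ E.P.B)) : Prop where
  smul : ∀ (k : K) a, θ (k • a) = x k • θ a
  iso : ∀ a b, E.Δ.δ (θ a) (θ b) = E.Δ.δ a b

theorem Act.one : Act E 1 1 := ⟨fun _ _ => rfl, fun _ _ => rfl⟩

theorem Act.mul {x y : MulAut K} {θ η : Equiv.Perm (K ⧸ E.P.B)} (hx : Act E x θ) (hy : Act E y η) :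
    Act E (x * y) (θ * η) where
  smul k a := by
    rw [Equiv.Perm.mul_apply, hy.smul, hx.smul]
    rfl
  iso a b := by
    rw [Equiv.Perm.mul_apply, Equiv.Perm.mul_apply, hx.iso, hy.iso]

theorem Act.pow {x : MulAut K} {θ : Equiv.Perm (K ⧸ E.P.B)} (hx : Act E x θ) (n : ℕ) : Act E (x ^ n) (θ ^ n) := by
  induction n with
  | zero => rw [pow_zero, pow_zero]; exact Act.one
  | succ n ih => rw [pow_succ, pow_succ]; exact ih.mul hx

theorem Act.inner (g : K) : Act E (MulAut.conj g) (MulAction.toPerm g) where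
  smul k a := by
    show g • (k • a) = (g * k * g⁻¹) • (g • a)
    simp only [smul_smul]
    congr 1
    group
  iso a b := E.sys.iso g a b

theorem Act.inv {x : MulAut K} {θ : Equiv.Perm (K ⧸ E.P.B)} (hx : Act E x θ) : Act E x⁻¹ θ⁻¹ where
  smul k a := by
    rw [Equiv.Perm.inv_eq_iff_eq, hx.smul]
    show k • a = x (x⁻¹ k) • θ (θ⁻¹ a)
    have h1 : x (x⁻¹ k) = k := x.apply_symm_apply k
    have h2 : θ (θ⁻¹ a) = a := θ.apply_symm_apply a
    rw [h1, h2]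
  iso a b := by
    have h2 : ∀ a, θ (θ⁻¹ a) = a := fun a => θ.apply_symm_apply a
    rw [← hx.iso, h2, h2]

theorem Act.eq_one {θ : Equiv.Perm (K ⧸ E.P.B)} (h : Act E 1 θ) : θ = 1 :=
  E.perm_eq_one fun k c => h.smul k c

theorem Act.pow_eq_one {x : MulAut K} {θ : Equiv.Perm (K ⧸ E.P.B)} (hx : Act E x θ) {n : ℕ} (h : x ^ n = 1) :
    θ ^ n = 1 := by
  have := hx.pow n
  rw [h] at this
  exact this.eq_one

theorem Act.of_tw {t : Tw E.Δ K} (hσ : ∀ i, t.σ i = i) : Act E t.τ t.θ where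
  smul k a := t.θ_smul k a
  iso a b := by rw [t.δ_θ, φ_eq hσ]

/-- the restriction to a panel -/
theorem Act.mem_pan {x : MulAut K} {θ : Equiv.Perm (K ⧸ E.P.B)} (hx : Act E x θ) {c : K ⧸ E.P.B} (hc : θ c = c)
    (i : Fin l) (z : K ⧸ E.P.B) : z ∈ E.Δ.Pan i c ↔ θ z ∈ E.Δ.Pan i c := by
  rw [E.Δ.Pan_eq_Res, mem_Res, mem_Res]
  have h1 := hx.iso c z
  rw [hc] at h1
  rw [h1]

theorem Act.famStab {x : MulAut K} {θ : Equiv.Perm (K ⧸ E.P.B)} (hx : Act E x θ) {c : K ⧸ E.P.B} {i : Fin l}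
    {f : Equiv.Perm (E.Δ.Pan i c)} (hf : ∀ z, (f z : K ⧸ E.P.B) = θ z) : f ∈ famStab (E.sys.fam i c) := by
  have hfi : ∀ z, ((f⁻¹) z : K ⧸ E.P.B) = θ⁻¹ z := by
    intro z
    have h1 : f (f⁻¹ z) = z := f.apply_symm_apply z
    have h2 := congrArg Subtype.val h1
    rw [hf] at h2
    rw [Equiv.Perm.eq_inv_iff_eq]
    exact h2
  refine mem_famStab_of_forward ?_
  intro z g hg
  obtain ⟨u, hu, hgu⟩ := hg
  have hk : ∀ a : E.Δ.Pan i c, ((f * g * f⁻¹) a : K ⧸ E.P.B) = x u • (a : K ⧸ E.P.B) := by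
    intro a
    rw [Equiv.Perm.mul_apply, Equiv.Perm.mul_apply, hf, hgu, hx.smul, hfi]
    congr 1
    exact θ.apply_symm_apply _
  obtain ⟨n, hn⟩ := (E.sys.isP z) ⟨u, hu⟩
  have hn' : u ^ ℓ ^ n = 1 := by simpa using congrArg Subtype.val hn
  have hgn : g ^ ℓ ^ n = 1 := by
    ext a
    rw [pow_smul_eq hgu, hn', one_smul]
    rfl
  have hwn : (f * g * f⁻¹) ^ ℓ ^ n = 1 := by
    rw [conj_pow, hgn, mul_one, mul_inv_cancel]
  have hgz : g z = z := Subtype.ext (by rw [hgu, E.sys.fix z u hu])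
  have hwz : (f * g * f⁻¹) (f z) = f z := by
    rw [Equiv.Perm.mul_apply, Equiv.Perm.mul_apply]
    have : f⁻¹ (f z) = z := f.symm_apply_apply z
    rw [this, hgz]
  obtain ⟨v, hv, h⟩ := exists_U_of_pElem E.sys hk hwz hwn
  exact ⟨v, hv, h⟩

/-- **Two automorphisms acting non-trivially on a panel of a common fixed chamber.** -/
theorem mpair_pan {x y : MulAut K} {θ η : Equiv.Perm (K ⧸ E.P.B)} (hx : Act E x θ) (hy : Act E y η)
    (ox : x ^ ℓ = 1) (oy : y ^ ℓ = 1) {c : K ⧸ E.P.B} (hxc : θ c = c) (hyc : η c = c) {i : Fin l}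
    (hnx : ∃ z ∈ E.Δ.Pan i c, θ z ≠ z) (hny : ∃ z ∈ E.Δ.Pan i c, η z ≠ z) (hP : P2 ℓ (E.sys.fam i c)) :
    MPair ℓ (MulAut.conj : K →* MulAut K).range x y := by
  let f₁ : Equiv.Perm (E.Δ.Pan i c) := θ.subtypePerm fun z => (hx.mem_pan hxc i z).symm
  let f₂ : Equiv.Perm (E.Δ.Pan i c) := η.subtypePerm fun z => (hy.mem_pan hyc i z).symm
  have hf₁ : ∀ z, (f₁ z : K ⧸ E.P.B) = θ z := fun z => rfl
  have hf₂ : ∀ z, (f₂ z : K ⧸ E.P.B) = η z := fun z => rfl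
  have o1 : f₁ ^ ℓ = 1 := by
    ext z
    rw [restr_pow hf₁, hx.pow_eq_one ox]
    rfl
  have o2 : f₂ ^ ℓ = 1 := by
    ext z
    rw [restr_pow hf₂, hy.pow_eq_one oy]
    rfl
  have n1 : f₁ ≠ 1 := by
    obtain ⟨z, hz, h⟩ := hnx
    intro h1
    apply h
    have := hf₁ ⟨z, hz⟩
    rw [h1] at this
    exact this.symm
  have n2 : f₂ ≠ 1 := by
    obtain ⟨z, hz, h⟩ := hny
    intro h1
    apply h
    have := hf₂ ⟨z, hz⟩
    rw [h1] at this
    exact this.symm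
  obtain ⟨m, hm, a, b, h⟩ := hP f₁ (hx.famStab hf₁) f₂ (hy.famStab hf₂) o1 o2 n1 n2
  obtain ⟨k, hk⟩ := (iSup_le fun z => fam_le_ActG E.sys z) hm
  have hki : ∀ z, ((m⁻¹) z : K ⧸ E.P.B) = k⁻¹ • (z : K ⧸ E.P.B) := by
    intro z
    rw [eq_inv_smul_iff, ← hk]
    congr 1
    exact m.apply_symm_apply z
  refine ⟨MulAut.conj k, ⟨k, rfl⟩, a, b, fun n hn => h n ?_⟩
  have h1 := ((hx.pow a).mul ((((Act.inner k).mul hy).mul (Act.inner k).inv).pow b)).pow_eq_one hn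
  have h2 : ∀ z, ((m * f₂ * m⁻¹) z : K ⧸ E.P.B) =
      (MulAction.toPerm k * η * (MulAction.toPerm k)⁻¹ : Equiv.Perm (K ⧸ E.P.B)) z := by
    intro z
    rw [Equiv.Perm.mul_apply, Equiv.Perm.mul_apply, hk, hf₂, hki]
    rfl
  have h3 : ∀ z, ((f₁ ^ a * (m * f₂ * m⁻¹) ^ b) z : K ⧸ E.P.B) =
      (θ ^ a * (MulAction.toPerm k * η * (MulAction.toPerm k)⁻¹) ^ b : Equiv.Perm (K ⧸ E.P.B)) z := by
    intro z
    rw [Equiv.Perm.mul_apply, restr_pow hf₁, restr_pow h2]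
    rfl
  ext z
  rw [restr_pow h3, h1]
  rfl

/-- `x` acts non-trivially on a panel of type `i` of a fixed chamber -/
def TP (E : Eng ℓ K M Q) (x : MulAut K) (i : Fin l) : Prop :=
  ∃ θ, Act E x θ ∧ ∃ c, θ c = c ∧ ∃ z ∈ E.Δ.Pan i c, θ z ≠ z

/-- **A common type.** -/
theorem TP.mpair (h5 : 5 ≤ ℓ) {i : Fin l} (hF : FNode E.P E.U (E.e i : K) (Q i)) {x y : MulAut K} (hx : TP E x i)
    (hy : TP E y i) (ox : x ^ ℓ = 1) (oy : y ^ ℓ = 1) : MPair ℓ (MulAut.conj : K →* MulAut K).range x y := by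
  obtain ⟨θ, hθ, c, hc, z, hz, hz'⟩ := hx
  obtain ⟨η, hη, d, hd, w, hw, hw'⟩ := hy
  obtain ⟨g, rfl⟩ : ∃ g : K, g • d = c := by
    obtain ⟨a, rfl⟩ := QuotientGroup.mk_surjective c
    obtain ⟨b, rfl⟩ := QuotientGroup.mk_surjective d
    exact ⟨a * b⁻¹, by rw [smul_mk, inv_mul_cancel_right]⟩
  refine MPair.conj_right (s := MulAut.conj g) ⟨g, rfl⟩ ?_
  have h1 : Act E (MulAut.conj g * y * (MulAut.conj g)⁻¹) (MulAction.toPerm g * η * (MulAction.toPerm g)⁻¹) :=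
    ((Act.inner g).mul hη).mul (Act.inner g).inv
  have h2 : ∀ a, (MulAction.toPerm g * η * (MulAction.toPerm g)⁻¹ : Equiv.Perm (K ⧸ E.P.B)) (g • a) = g • η a := by
    intro a
    rw [Equiv.Perm.mul_apply, Equiv.Perm.mul_apply]
    have : (MulAction.toPerm g)⁻¹ (g • a) = a := (MulAction.toPerm g).symm_apply_apply a
    rw [this]
    rfl
  refine mpair_pan hθ h1 ox ?_ hc (by rw [h2, hd]) ⟨z, hz, hz'⟩ ⟨g • w, ?_, ?_⟩ (p2_pan E h5 hF _)
  · rw [conj_pow, oy, mul_one, mul_inv_cancel]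
  · have h3 := (Act.inner (E := E) g).iso d w
    rw [E.Δ.Pan_eq_Res, mem_Res] at hw ⊢
    rw [← h3] at hw
    exact hw
  · rw [h2]
    intro h3
    exact hw' (MulAction.injective g h3)

end Cfsg.Agent.H798.T5Pan
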