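import Cfsg.Agent.H798.T5Pan
import Cfsg.Agent.H798.T5Geo
import Cfsg.Agent.CpAut.RgdTwStd

/-!
T5, defining characteristic (helper798): automorphisms and panels.

* `exists_eng_of` : the engine of a root group datum; `tp_of_NT` : inner automorphisms;
* `tp_of_diag` : an automorphism fixing the frame and moving an element of `X α_i`; `TP.conj_all`;
* `tp_of_ntau` : outer automorphisms act non-trivially on panels of all types.
-/

set_option autoImplicit false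
set_option linter.unusedSectionVars false
set_option maxHeartbeats 400000

namespace Cfsg.Agent.H798.T5Tp

open Cfsg CoxeterSystem Cfsg.Agent.ChevalleyStructure.CoxeterGeom Cfsg.Agent.Tits.Roots Cfsg.Agent.Tits.Core
  Cfsg.Agent.Tits.Core.Bldg
  Cfsg.Agent.Tits.OfBN Cfsg.Agent.Schreier.BNSch Cfsg.Agent.Tits.OppRes Cfsg.Agent.FixBN.OfBN
  Cfsg.Agent.Tits.RootComb Cfsg.Agent.Nodes.Comb Cfsg.Agent.Nodes.Reps Cfsg.Agent.Nodes.BNOf
  Cfsg.Agent.Nodes.StabComb Cfsg.Agent.Nodes.Bruhat Cfsg.Agent.Nodes.OppDec Cfsg.Agent.Nodes.LeviDec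
  Cfsg.Agent.LieExceptional.BNPairCore
open Cfsg.Agent.FixBN (Sys Split)
open Cfsg.Agent.FixOdd (Tw)
open Cfsg.Agent.H460.Typed Cfsg.Agent.H460.EllC Cfsg.Agent.H460.PanL
  Cfsg.Agent.H185.TypedTw Cfsg.Agent.H460.EllPan Cfsg.Agent.H460.Engine
open Cfsg.Agent.H694 (PJ_sub mem_PJ)
open Cfsg.Agent.KFacts.RgdAut Cfsg.Agent.KFacts.RgdDiag Cfsg.Agent.KFacts.RgdField Cfsg.Agent.KFacts.RgdNodes
open Cfsg.Agent.H798.T5Geo Cfsg.Agent.H798.T5Pan

variable {K : Type*} [Group K] [Finite K] {ℓ : ℕ} [Fact ℓ.Prime] {l : ℕ} {M : CoxeterMatrix (Fin l)} {Q : Fin l → ℕ}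
  {A : Fin l → Fin l → ℤ} {h : IsCartan M A} {T : Subgroup K} {n : Fin l → K}
  {X : (Fin l → ℤ) → Subgroup K} [Finite M.Group]

/-- **The engine of a root group datum.** -/
theorem exists_eng_of [IsSimpleGroup K] (R : RGD M.toCoxeterSystem h ℓ T n X)
    (hgen : RGD.B M.toCoxeterSystem h T X ⊔ NN M.toCoxeterSystem R.nsys = ⊤) (hT : Group.IsSolvable T)
    (hn : ∀ i, FNode (R.bnPair hgen) (RGD.Sup X (RGD.Pos M.toCoxeterSystem h)) (n i) (Q i)) (h2 : 1 ≤ l) :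
    ∃ E : Eng ℓ K M Q, E.P.B = RGD.B M.toCoxeterSystem h T X ∧ (∀ i, (E.e i : K) = n i) ∧
      ∀ i, FNode E.P E.U (E.e i : K) (Q i) := by
  have hne : (R.bnPair hgen).S.Nonempty := ⟨n ⟨0, h2⟩, ⟨0, h2⟩, rfl⟩
  have hcore := Cfsg.Agent.Tits.OfBN.normalCore_eq_bot (R.bnPair hgen) hne
  obtain ⟨hN, cs', hcs, hWP, hS⟩ := OddHalf.Table.AutRGD.exists_setup R hgen hcore
  exact ⟨⟨R.bnPair hgen, _, hS, hN, OddHalf.Table.AutRGD.eS R hgen, cs', hcs, hWP, sol_B R hgen hT hS, hcore,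
    fun i => (hn i).lnode⟩, rfl, fun _ => rfl, hn⟩

variable (R : RGD M.toCoxeterSystem h ℓ T n X) {E : Eng ℓ K M Q} (hB : E.P.B = RGD.B M.toCoxeterSystem h T X)
  (he : ∀ i, (E.e i : K) = n i)

/-- the chambers of a panel -/
theorem mem_pan (i : Fin l) (g : K) : (QuotientGroup.mk (g * (E.e i : K)) : K ⧸ E.P.B) ∈
    E.Δ.Pan i (QuotientGroup.mk g) := by
  rw [E.Δ.Pan_eq_Res, mem_Res, bldg_δ_mk, inv_mul_cancel_left, ← mem_PJ E.e E.cs E.hcs, PJ_singleton]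
  exact mem_parabolic_self E.P _

include R hB he

/-- **Inner automorphisms.** -/
theorem tp_of_NT {c : K} {i : Fin l} (hc : NT M.toCoxeterSystem h X c i) : TP E (MulAut.conj c) i := by
  obtain ⟨g, h1, h2⟩ := hc
  refine ⟨_, Act.inner c, QuotientGroup.mk g⁻¹, ?_, QuotientGroup.mk (g⁻¹ * (E.e i : K)), mem_pan i g⁻¹, ?_⟩
  · show c • (QuotientGroup.mk g⁻¹ : K ⧸ E.P.B) = _
    rw [smul_mk_eq, inv_inv, hB]
    exact RGD.U_le_B h1
  · intro h3
    have h4 : c • (QuotientGroup.mk (g⁻¹ * (E.e i : K)) : K ⧸ E.P.B) = QuotientGroup.mk (g⁻¹ * (E.e i : K)) := h3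
    rw [smul_mk_eq, hB, he] at h4
    apply h2
    have h5 : Rp M.toCoxeterSystem R.nsys (M.toCoxeterSystem.simple i) (n i)⁻¹ := by
      have := (rp_simple M.toCoxeterSystem R.nsys i).inv
      rwa [M.toCoxeterSystem.inv_simple] at this
    refine mem_V_of_conj R h5 (a := i) ?_ h1 ?_
    · rw [rep_simple_sr]
      exact neg_nonpos.2 (sr_nonneg i)
    · have e : (n i)⁻¹ * (g * c * g⁻¹) * (n i)⁻¹⁻¹ = (g⁻¹ * n i)⁻¹ * c * (g⁻¹ * n i) := by group
      rwa [e]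

/-- **Automorphisms fixing the frame.** -/
theorem tp_of_diag {φ : MulAut K} (D : Diag T X φ 1) (hA : ∀ σ : Equiv.Perm (Fin l), (∀ i j, M (σ i) (σ j) = M i j) →
    σ ^ ℓ = 1 → σ = 1) (hφ : φ ^ ℓ = 1) {i : Fin l} {x : K} (hx : x ∈ X (sr i)) (hφx : φ x ≠ x) : TP E φ i := by
  obtain ⟨t, ht, hp⟩ := E.exists_t φ
  have hθ := hp ℓ hφ
  have hσ : ∀ i, t.σ i = i := fun i => by
    rw [hA t.σ (E.sigma_M t) (E.sigma_pow hθ)]; rfl
  have hact : Act E φ t.θ := by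
    have := Act.of_tw (E := E) (t := t) hσ
    rwa [ht] at this
  have hX : ∀ z, IsRoot M.toCoxeterSystem h z → ∀ y, φ y ∈ X z ↔ y ∈ X z := by
    intro z hz y
    have := D.root_comp R (fun _ _ => rfl) hz y
    exact this
  have hBB : ∀ b ∈ E.P.B, φ b ∈ E.P.B := by
    intro b hb
    rw [hB] at hb ⊢
    have h1 : RGD.B M.toCoxeterSystem h T X ≤ (RGD.B M.toCoxeterSystem h T X).comap φ.toMonoidHom := by
      refine sup_le (fun y hy => ?_) (RGD.Sup_le fun z hz y hy => ?_)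
      · exact RGD.T_le_B ((D.tor y).2 hy)
      · exact RGD.U_le_B (RGD.le_Sup (S := RGD.Pos M.toCoxeterSystem h) hz ((hX z hz.1 y).2 hy))
    exact h1 hb
  have hc : t.θ (QuotientGroup.mk 1) = QuotientGroup.mk 1 := by
    refine (fixed_iff t 1).2 fun b hb => ?_
    rw [H459.Gallery.cx_one, ht]
    exact hBB b hb
  refine ⟨t.θ, hact, QuotientGroup.mk 1, hc, QuotientGroup.mk (1 * (x * n i)), ?_, ?_⟩
  · rw [E.Δ.Pan_eq_Res, mem_Res, bldg_δ_mk, inv_mul_cancel_left, ← mem_PJ E.e E.cs E.hcs, PJ_singleton, ← he i]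
    refine mul_mem (B_le_parabolic E.P _ ?_) (mem_parabolic_self E.P _)
    rw [hB]
    exact RGD.X_le_B (isRoot_sr _ h i) (sr_nonneg i) hx
  · rw [theta_mk_of_fixed hc, H459.Gallery.cx_one, ht]
    intro h1
    have h2 := mk_eq.1 h1.symm
    have h3 : Rp M.toCoxeterSystem R.nsys (M.toCoxeterSystem.simple i) (φ (n i)) := D.rp (R := R) i
    have h4 : (n i)⁻¹ * φ (n i) ∈ T := by
      have := (rp_simple M.toCoxeterSystem R.nsys i).inv.mul h3
      rw [inv_mul_cancel] at this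
      exact this.mem_of_one
    have h5 : (n i)⁻¹ * (x⁻¹ * φ x) * (n i)⁻¹⁻¹ ∈ RGD.B M.toCoxeterSystem h T X := by
      rw [hB] at h2
      have e : (n i)⁻¹ * (x⁻¹ * φ x) * (n i)⁻¹⁻¹ = (1 * (x * n i))⁻¹ * (1 * φ (x * n i)) * ((n i)⁻¹ * φ (n i))⁻¹ := by
        rw [map_mul]; group
      rw [e]
      exact mul_mem h2 (inv_mem (RGD.T_le_B h4))
    have h6 := eq_one_of_conj_mem_B R (i := i) (mul_mem (inv_mem hx) ((hX _ (isRoot_sr _ h i) x).2 hx))
      (by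
        have := (rp_simple M.toCoxeterSystem R.nsys i).inv
        rwa [M.toCoxeterSystem.inv_simple] at this) h5
    exact hφx (inv_mul_eq_one.1 h6).symm

omit R hB he in
omit [Finite M.Group] in
/-- conjugation by arbitrary automorphisms -/
theorem TP.conj_all {φ : MulAut K} (hφ : ∀ i, TP E φ i) (e : MulAut K) : ∀ i, TP E (e * φ * e⁻¹) i := by
  intro i
  obtain ⟨t, ht, -⟩ := E.exists_t e
  obtain ⟨j, hj⟩ := t.σ.surjective i
  obtain ⟨θ, hθ, c, hc, z, hz, hz'⟩ := hφ j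
  have hinv : ∀ a, t.θ (t.θ⁻¹ a) = a := fun a => t.θ.apply_symm_apply a
  have hinv' : ∀ a, t.θ⁻¹ (t.θ a) = a := fun a => t.θ.symm_apply_apply a
  refine ⟨t.θ * θ * t.θ⁻¹, ⟨fun k a => ?_, fun a b => ?_⟩, t.θ c, ?_, t.θ z, ?_, ?_⟩
  · have h1 : t.θ⁻¹ (k • a) = (e⁻¹ k) • t.θ⁻¹ a := by
      rw [Equiv.Perm.inv_eq_iff_eq, t.θ_smul, hinv, ht]
      have : e (e⁻¹ k) = k := e.apply_symm_apply k
      rw [this]
    show t.θ (θ (t.θ⁻¹ (k • a))) = (e * φ * e⁻¹) k • t.θ (θ (t.θ⁻¹ a))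
    rw [h1, hθ.smul, t.θ_smul, ht]
    rfl
  · show E.Δ.δ (t.θ (θ (t.θ⁻¹ a))) (t.θ (θ (t.θ⁻¹ b))) = _
    rw [t.δ_θ, hθ.iso, ← t.δ_θ, hinv, hinv]
  · show t.θ (θ (t.θ⁻¹ (t.θ c))) = _
    rw [hinv', hc]
  · rw [← hj]
    rcases hz with hz | hz
    · left; rw [hz]
    · right
      show E.Δ.δ (t.θ c) (t.θ z) = _
      rw [t.δ_θ, hz, t.φ_simple]
  · show t.θ (θ (t.θ⁻¹ (t.θ z))) ≠ _
    rw [hinv']
    exact fun h1 => hz' (t.θ.injective h1)

/-- **Outer automorphisms.** -/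
theorem tp_of_ntau {F : Fin l → Type*} [∀ i, Field (F i)] {x : ∀ i, F i → K} {χ : ∀ i, K → F i}
    (C : ∀ i, Coord T (X (sr i)) (x i) (χ i)) (hA : ∀ σ : Equiv.Perm (Fin l), (∀ i j, M (σ i) (σ j) = M i j) →
      σ ^ ℓ = 1 → σ = 1) {φ : MulAut K} (hφ : φ ^ ℓ = 1) {τ : ∀ i, F i ≃+* F i} (D : NTau T X χ φ τ)
    (hτ : ∀ i, τ i ≠ 1) : ∀ i, TP E φ i := by
  intro i
  by_contra hno
  have h1 : ∀ a, φ (x i a) = x i a := by
    intro a
    by_contra hne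
    exact hno (tp_of_diag R hB he D.diag hA hφ (((C i).mem _).2 ⟨a, rfl⟩) hne)
  apply hτ i
  have h2 : ∀ t ∈ T, τ i (χ i t) = χ i t := by
    intro t ht
    have h3 := congrArg φ ((C i).act t ht 1)
    rw [map_mul, map_mul, map_inv, h1, h1, (C i).act _ ((D.diag.tor t).2 ht)] at h3
    have h4 := (C i).inj h3
    rw [mul_one, mul_one, D.char i t ht] at h4
    exact h4
  ext y
  have h3 : y ∈ AddSubgroup.closure (χ i '' (T : Set K)) := by rw [(C i).span]; trivial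
  show τ i y = y
  induction h3 using AddSubgroup.closure_induction with
  | mem y hy =>
    obtain ⟨t, ht, rfl⟩ := hy
    exact h2 t ht
  | zero => exact map_zero _
  | add a b _ _ ha hb => rw [map_add, ha, hb]
  | neg a _ ha => rw [map_neg, ha]

end Cfsg.Agent.H798.T5Tp
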